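import Cfsg.Agent.Lib.Maximal99.RankProfile

/-!
Matrices: a symmetric invertible Gram matrix with a skew nilpotent matrix of given partition
and an involutive isometry inverting it.
-/

set_option autoImplicit false

namespace CfsgLib.UnipBlocks

open Matrix Module CfsgLib.RankProfile

/-- Gram matrix `G`, skew nilpotent `N`, isometry `g` of square one anticommuting with `N`. -/
structure IsBlock {F : Type*} [Field F] {ι : Type*} [Fintype ι] [DecidableEq ι]
    (G N g : Matrix ι ι F) : Prop where
  symm : Gᵀ = G
  skew : Nᵀ * G = -(G * N)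
  isom : gᵀ * G * g = G
  invol : g * g = 1
  anti : g * N = -(N * g)

/-- A block datum with partition `μ` and Gram determinant `D`. -/
def HasBlock (F : Type*) [Field F] (μ : Multiset ℕ) (D : F) : Prop :=
  ∃ (ι : Type) (_ : Fintype ι) (_ : DecidableEq ι) (G N g : Matrix ι ι F),
    IsBlock G N g ∧ (∀ k, (N ^ k).rank = partProfile μ k) ∧ G.det = D

variable {F : Type*} [Field F]

lemma rank_fromBlocks_diag {k l : Type*} [Fintype k] [DecidableEq k] [Fintype l] [DecidableEq l]
    (A : Matrix k k F) (D : Matrix l l F) : (fromBlocks A 0 0 D).rank = A.rank + D.rank := by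
  let e : ((k ⊕ l) → F) ≃ₗ[F] (k → F) × (l → F) := LinearEquiv.sumArrowLequivProdArrow k l F F
  have h : (fromBlocks A 0 0 D).mulVecLin =
      e.symm.toLinearMap ∘ₗ (A.mulVecLin.prodMap D.mulVecLin) ∘ₗ e.toLinearMap := by
    refine LinearMap.ext fun v => funext fun i => ?_
    rcases i with i | i <;> simp [e, Matrix.mulVec, dotProduct]
  show finrank F ↥(LinearMap.range (fromBlocks A 0 0 D).mulVecLin) = _
  rw [h, LinearMap.range_comp, LinearEquiv.finrank_map_eq,
    LinearMap.range_comp_of_range_eq_top _ e.range, LinearMap.range_prodMap, finrank_prod_submodule]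
  rfl

lemma fromBlocks_diag_pow {k l : Type*} [Fintype k] [DecidableEq k] [Fintype l] [DecidableEq l]
    (A : Matrix k k F) (D : Matrix l l F) (n : ℕ) :
    fromBlocks A 0 0 D ^ n = fromBlocks (A ^ n) 0 0 (D ^ n) := by
  induction n with
  | zero => simp
  | succ n ih => rw [pow_succ, ih, fromBlocks_multiply]; simp [pow_succ]

/-- The shift matrix. -/
def shiftMatrix (F : Type*) [Field F] (a : ℕ) : Matrix (Fin a) (Fin a) F :=
  Matrix.of fun i j => if (i : ℕ) = (j : ℕ) + 1 then 1 else 0

lemma toLin'_shiftMatrix (a : ℕ) : Matrix.toLin' (shiftMatrix F a) = shiftEnd F a := by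
  refine LinearMap.ext fun v => funext fun i => ?_
  simp only [Matrix.toLin'_apply, Matrix.mulVec, dotProduct, shiftMatrix, Matrix.of_apply, ite_mul, one_mul,
    zero_mul, shiftEnd, LinearMap.coe_mk, AddHom.coe_mk]
  split
  next h => exact Finset.sum_eq_zero fun j _ => by rw [if_neg (by omega)]
  next h =>
    rw [Finset.sum_eq_single ⟨(i : ℕ) - 1, by omega⟩]
    · rw [if_pos (by simp only; omega)]
    · intro j _ hj
      rw [if_neg]
      intro h2
      exact hj (Fin.ext (by simp only; omega))
    · simp

lemma rank_shiftMatrix_pow (a k : ℕ) : (shiftMatrix F a ^ k).rank = a - k := by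
  show finrank F ↥(LinearMap.range (shiftMatrix F a ^ k).mulVecLin) = _
  rw [show (shiftMatrix F a ^ k).mulVecLin = Matrix.toLin' (shiftMatrix F a ^ k) from rfl,
    Matrix.toLin'_pow, toLin'_shiftMatrix, finrank_range_shiftEnd_pow]

/-- The diagonal of alternating signs. -/
def signMatrix (F : Type*) [Field F] (a : ℕ) : Matrix (Fin a) (Fin a) F :=
  Matrix.diagonal fun i => (-1) ^ (i : ℕ)

lemma signMatrix_mul_self (a : ℕ) : signMatrix F a * signMatrix F a = 1 := by
  rw [signMatrix, diagonal_mul_diagonal, ← diagonal_one]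
  congr 1
  funext i
  rw [← pow_add, ← two_mul, pow_mul, neg_one_sq, one_pow]

lemma signMatrix_transpose (a : ℕ) : (signMatrix F a)ᵀ = signMatrix F a := diagonal_transpose _

lemma rank_neg_matrix {κ : Type*} [Fintype κ] [DecidableEq κ] (A : Matrix κ κ F) : (-A).rank = A.rank := by
  show finrank F ↥(LinearMap.range (-A).mulVecLin) = finrank F ↥(LinearMap.range A.mulVecLin)
  rw [show (-A).mulVecLin = -A.mulVecLin from LinearMap.ext fun v => neg_mulVec v A, LinearMap.range_neg]

lemma signMatrix_anti (a : ℕ) :
    signMatrix F a * shiftMatrix F a = -(shiftMatrix F a * signMatrix F a) := by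
  ext i j
  rw [signMatrix, diagonal_mul, neg_apply, mul_diagonal]
  simp only [shiftMatrix, of_apply]
  split
  next h => rw [h, pow_succ]; ring
  next h => simp

lemma hasBlock_empty : HasBlock F 0 1 :=
  ⟨Fin 0, inferInstance, inferInstance, 1, 0, 1,
    ⟨transpose_one, by simp, by simp, one_mul 1, by simp⟩,
    fun k => by
      have := Matrix.rank_le_card_width ((0 : Matrix (Fin 0) (Fin 0) F) ^ k)
      simp only [Fintype.card_fin] at this
      simp only [partProfile, Multiset.map_zero, Multiset.sum_zero]
      omega,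
    det_one⟩

lemma HasBlock.add {μ ν : Multiset ℕ} {D E : F} (h : HasBlock F μ D) (h' : HasBlock F ν E) :
    HasBlock F (μ + ν) (D * E) := by
  obtain ⟨ι, hι, hι', G, N, g, hb, hr, hd⟩ := h
  obtain ⟨κ, hκ, hκ', G', N', g', hb', hr', hd'⟩ := h'
  refine ⟨ι ⊕ κ, inferInstance, inferInstance, fromBlocks G 0 0 G', fromBlocks N 0 0 N',
    fromBlocks g 0 0 g', ⟨?_, ?_, ?_, ?_, ?_⟩, fun k => ?_, ?_⟩
  · rw [fromBlocks_transpose, hb.symm, hb'.symm]; simp
  · rw [fromBlocks_transpose, fromBlocks_multiply, fromBlocks_multiply, fromBlocks_neg]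
    simp [hb.skew, hb'.skew]
  · rw [fromBlocks_transpose, fromBlocks_multiply, fromBlocks_multiply]
    simp [hb.isom, hb'.isom]
  · rw [fromBlocks_multiply]
    simp [hb.invol, hb'.invol, fromBlocks_one]
  · rw [fromBlocks_multiply, fromBlocks_multiply, fromBlocks_neg]
    simp [hb.anti, hb'.anti]
  · rw [fromBlocks_diag_pow, rank_fromBlocks_diag, hr, hr', partProfile_add]
  · rw [det_fromBlocks_zero₂₁, hd, hd']

/-- Gram matrix of an odd block. -/
def oddGram (F : Type*) [Field F] (a : ℕ) : Matrix (Fin a) (Fin a) F :=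
  Matrix.of fun i j => if (i : ℕ) + (j : ℕ) + 1 = a then (-1) ^ (i : ℕ) else 0

lemma oddGram_mul_self {a : ℕ} (ha : Odd a) : oddGram F a * oddGram F a = 1 := by
  obtain ⟨s, rfl⟩ := ha
  ext i j
  rw [mul_apply, Finset.sum_eq_single ⟨2 * s - (i : ℕ), by omega⟩]
  · simp only [oddGram, of_apply, one_apply, Fin.ext_iff]
    rw [if_pos (by omega)]
    split_ifs with h1 h2 h2
    · rw [← pow_add, show (i : ℕ) + (2 * s - (i : ℕ)) = 2 * s by omega, pow_mul, neg_one_sq, one_pow]
    · omega
    · omega
    · rw [mul_zero]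
  · intro l _ hl
    simp only [oddGram, of_apply]
    rw [if_neg, zero_mul]
    intro h
    exact hl (Fin.ext (by simp only; omega))
  · simp

/-- An odd part gives a block; scaling it multiplies the determinant by a power. -/
lemma hasBlock_odd {a : ℕ} (ha : Odd a) :
    ∃ D : F, D ≠ 0 ∧ ∀ c : F, HasBlock F {a} (c ^ a * D) := by
  refine ⟨(oddGram F a).det, fun h => ?_, fun c => ?_⟩
  · have := congrArg Matrix.det (oddGram_mul_self (F := F) ha)
    rw [det_mul, h, zero_mul, det_one] at this
    exact zero_ne_one this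
  have hG : (oddGram F a)ᵀ = oddGram F a := by
    obtain ⟨s, rfl⟩ := ha
    ext i j
    simp only [oddGram, transpose_apply, of_apply]
    split_ifs with h1 h2 h2
    · rw [neg_one_pow_eq_pow_mod_two, neg_one_pow_eq_pow_mod_two (n := (i : ℕ))]
      congr 1
      omega
    · omega
    · omega
    · rfl
  have hskew : (shiftMatrix F a)ᵀ * oddGram F a = -(oddGram F a * shiftMatrix F a) := by
    ext i j
    rw [neg_apply, mul_apply, mul_apply]
    simp only [oddGram, shiftMatrix, transpose_apply, of_apply, ite_mul, one_mul, zero_mul,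
      mul_ite, mul_one, mul_zero]
    by_cases h : (i : ℕ) + (j : ℕ) + 2 = a
    · rw [Finset.sum_eq_single ⟨(i : ℕ) + 1, by omega⟩, Finset.sum_eq_single ⟨(j : ℕ) + 1, by omega⟩]
      · simp only [if_true]
        rw [if_pos (by omega), if_pos (by omega), pow_succ]
        ring
      · intro l _ hl
        rw [if_neg]
        intro h2
        exact hl (Fin.ext (by simp only; omega))
      · simp
      · intro l _ hl
        rw [if_neg]
        intro h2
        exact hl (Fin.ext (by simp only; omega))
      · simp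
    · rw [Finset.sum_eq_zero, Finset.sum_eq_zero, neg_zero]
      · intro l _
        split_ifs with h1 h2 <;> first | rfl | omega
      · intro l _
        split_ifs with h1 h2 <;> first | rfl | omega
  have hisom : (signMatrix F a)ᵀ * oddGram F a * signMatrix F a = oddGram F a := by
    ext i j
    rw [signMatrix, diagonal_transpose, mul_diagonal, diagonal_mul]
    simp only [oddGram, of_apply]
    split_ifs with h
    · obtain ⟨s, hs⟩ := ha
      rw [mul_assoc, ← pow_add (-1 : F), show (i : ℕ) + (j : ℕ) = 2 * s by omega, pow_mul, neg_one_sq,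
        one_pow, mul_one]
    · simp
  refine ⟨Fin a, inferInstance, inferInstance, c • oddGram F a, shiftMatrix F a, signMatrix F a,
    ⟨?_, ?_, ?_, signMatrix_mul_self a, signMatrix_anti a⟩, fun k => ?_, ?_⟩
  · rw [transpose_smul, hG]
  · rw [Matrix.mul_smul, Matrix.smul_mul, hskew, smul_neg]
  · rw [Matrix.mul_smul, Matrix.smul_mul, hisom]
  · rw [rank_shiftMatrix_pow]; simp [partProfile]
  · rw [det_smul, Fintype.card_fin]

/-- A pair of equal parts gives a block. -/
lemma hasBlock_pair (a : ℕ) : ∃ D : F, D ≠ 0 ∧ HasBlock F {a, a} D := by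
  let G : Matrix (Fin a ⊕ Fin a) (Fin a ⊕ Fin a) F := fromBlocks 0 1 1 0
  refine ⟨G.det, ?_, Fin a ⊕ Fin a, inferInstance, inferInstance, G,
    fromBlocks (shiftMatrix F a) 0 0 (-(shiftMatrix F a)ᵀ), fromBlocks (signMatrix F a) 0 0 (signMatrix F a),
    ⟨?_, ?_, ?_, ?_, ?_⟩, fun k => ?_, rfl⟩
  · intro h
    have h2 : G * G = 1 := by simp [G, fromBlocks_multiply, fromBlocks_one]
    have := congrArg Matrix.det h2
    rw [det_mul, h, zero_mul, det_one] at this
    exact zero_ne_one this
  · simp [G, fromBlocks_transpose]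
  · simp [G, fromBlocks_transpose, fromBlocks_multiply, fromBlocks_neg]
  · simp [G, fromBlocks_transpose, fromBlocks_multiply, signMatrix_transpose, signMatrix_mul_self]
  · simp [fromBlocks_multiply, signMatrix_mul_self, fromBlocks_one]
  · have h : signMatrix F a * (shiftMatrix F a)ᵀ = -((shiftMatrix F a)ᵀ * signMatrix F a) := by
      have := congrArg Matrix.transpose (signMatrix_anti (F := F) a)
      rw [transpose_mul, transpose_neg, transpose_mul, signMatrix, diagonal_transpose, ← signMatrix] at this
      rw [this, neg_neg]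
    simp [fromBlocks_multiply, fromBlocks_neg, signMatrix_anti, h]
  · have hneg : (-(shiftMatrix F a)ᵀ) ^ k = ((-1 : F) ^ k) • (shiftMatrix F a ^ k)ᵀ := by
      rw [transpose_pow, ← neg_one_smul F ((shiftMatrix F a)ᵀ), smul_pow]
    have hr : ((-(shiftMatrix F a)ᵀ) ^ k).rank = a - k := by
      rw [hneg]
      rcases neg_one_pow_eq_or F k with h | h <;> rw [h]
      · rw [one_smul, rank_transpose, rank_shiftMatrix_pow]
      · rw [neg_one_smul, rank_neg_matrix, rank_transpose, rank_shiftMatrix_pow]
    rw [fromBlocks_diag_pow, rank_fromBlocks_diag, rank_shiftMatrix_pow, hr]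
    simp [partProfile]

/-- Every partition with even parts of even multiplicity gives a block. -/
theorem exists_hasBlock : ∀ μ : Multiset ℕ, (∀ e, Even e → Even (μ.count e)) →
    ∃ D : F, D ≠ 0 ∧ HasBlock F μ D := by
  intro μ
  induction μ using Multiset.strongInductionOn with
  | ih μ ih =>
    intro hev
    rcases Multiset.empty_or_exists_mem μ with rfl | ⟨e, he⟩
    · exact ⟨1, one_ne_zero, hasBlock_empty⟩
    obtain ⟨ν, rfl⟩ := Multiset.exists_cons_of_mem he
    rcases Nat.even_or_odd e with hee | heo
    · have hc := hev e hee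
      rw [Multiset.count_cons_self] at hc
      have : e ∈ ν := by
        rw [← Multiset.count_pos]
        rcases Nat.eq_zero_or_pos (ν.count e) with h0 | h0
        · rw [h0] at hc; simp at hc
        · exact h0
      obtain ⟨ρ, rfl⟩ := Multiset.exists_cons_of_mem this
      have hlt : ρ < e ::ₘ e ::ₘ ρ := (Multiset.lt_cons_self ρ e).trans (Multiset.lt_cons_self _ e)
      obtain ⟨D, hD, hb⟩ := ih ρ hlt (fun b hb => by
        have := hev b hb
        rw [Multiset.count_cons, Multiset.count_cons] at this
        split_ifs at this <;> first | exact this | (simpa [Nat.even_add_one] using this))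
      obtain ⟨E, hE, hb'⟩ := hasBlock_pair (F := F) e
      refine ⟨E * D, mul_ne_zero hE hD, ?_⟩
      have := hb'.add hb
      rwa [show ({e, e} : Multiset ℕ) + ρ = e ::ₘ e ::ₘ ρ from by simp] at this
    · obtain ⟨D, hD, hb⟩ := ih ν (Multiset.lt_cons_self ν e) (fun b hb => by
        have := hev b hb
        rwa [Multiset.count_cons_of_ne] at this
        rintro rfl
        exact Nat.not_even_iff_odd.2 heo hb)
      obtain ⟨E, hE, hb'⟩ := hasBlock_odd (F := F) heo
      refine ⟨E * D, mul_ne_zero hE hD, ?_⟩
      have := (hb' 1).add hb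
      rw [one_pow, one_mul, Multiset.singleton_add] at this
      exact this

end CfsgLib.UnipBlocks
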