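import Mathlib

/-!
Rank profiles of nilpotent maps and partitions, without the Jordan normal form.
-/

set_option autoImplicit false

namespace CfsgLib.RankProfile

open Module Submodule

section profile

variable {F V : Type*} [Field F] [AddCommGroup V] [Module F V]

/-- The dimension of the image of `W` under `N ^ k`. -/
noncomputable def imDim (N : Module.End F V) (W : Submodule F V) (k : ℕ) : ℕ :=
  finrank F ↥(W.map (N ^ k))

lemma imDim_zero (N : Module.End F V) (W : Submodule F V) : imDim N W 0 = finrank F ↥W := by
  rw [imDim, pow_zero, show (1 : Module.End F V) = LinearMap.id from rfl, Submodule.map_id]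

lemma map_pow_succ (N : Module.End F V) (W : Submodule F V) (k : ℕ) :
    W.map (N ^ (k + 1)) = (W.map (N ^ k)).map N := by
  rw [pow_succ', Module.End.mul_eq_comp, Submodule.map_comp]

lemma imDim_succ_add [FiniteDimensional F V] (N : Module.End F V) (W : Submodule F V) (k : ℕ) :
    imDim N W (k + 1) + finrank F ↥(W.map (N ^ k) ⊓ LinearMap.ker N) = imDim N W k := by
  unfold imDim
  rw [map_pow_succ]
  generalize W.map (N ^ k) = U
  have h := LinearMap.finrank_range_add_finrank_ker (N.domRestrict U)
  have e : finrank F ↥(LinearMap.ker (N.domRestrict U)) = finrank F ↥(U ⊓ LinearMap.ker N) := by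
    have : LinearMap.ker (N.domRestrict U) = (LinearMap.ker N).comap U.subtype := by ext; simp
    rw [this, ← finrank_map_subtype_eq, Submodule.map_comap_subtype]
  rw [LinearMap.range_domRestrict, e] at h
  exact h

lemma map_pow_le (N : Module.End F V) {W : Submodule F V} (hW : W.map N ≤ W) (k : ℕ) :
    W.map (N ^ k) ≤ W := by
  induction k with
  | zero => rw [pow_zero, show (1 : Module.End F V) = LinearMap.id from rfl, Submodule.map_id]
  | succ k ih => rw [map_pow_succ]; exact (Submodule.map_mono ih).trans hW

lemma map_pow_succ_le (N : Module.End F V) {W : Submodule F V} (hW : W.map N ≤ W) (k : ℕ) :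
    W.map (N ^ (k + 1)) ≤ W.map (N ^ k) := by
  rw [pow_succ, Module.End.mul_eq_comp, Submodule.map_comp]
  exact Submodule.map_mono hW

/-- The profile is convex. -/
lemma imDim_convex [FiniteDimensional F V] (N : Module.End F V) {W : Submodule F V} (hW : W.map N ≤ W)
    (k : ℕ) : 2 * imDim N W (k + 1) ≤ imDim N W k + imDim N W (k + 2) := by
  have h1 := imDim_succ_add N W k
  have h2 := imDim_succ_add N W (k + 1)
  have h3 := Submodule.finrank_mono (inf_le_inf_right (LinearMap.ker N) (map_pow_succ_le N hW k))
  rw [show k + 1 + 1 = k + 2 from rfl] at h2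
  omega

/-- The profile is additive on complementary invariant subspaces. -/
lemma imDim_add [FiniteDimensional F V] (N : Module.End F V) {W W' : Submodule F V}
    (hW : W.map N ≤ W) (hW' : W'.map N ≤ W') (hd : Disjoint W W') (k : ℕ) :
    imDim N (W ⊔ W') k = imDim N W k + imDim N W' k := by
  unfold imDim
  have h := Submodule.finrank_sup_add_finrank_inf_eq (W.map (N ^ k)) (W'.map (N ^ k))
  have h0 : W.map (N ^ k) ⊓ W'.map (N ^ k) = ⊥ :=
    (hd.mono (map_pow_le N hW k) (map_pow_le N hW' k)).eq_bot
  rw [h0, finrank_bot, Nat.add_zero, ← Submodule.map_sup] at h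
  exact h

lemma imDim_top (N : Module.End F V) (k : ℕ) :
    imDim N ⊤ k = finrank F ↥(LinearMap.range (N ^ k)) := by
  rw [imDim, Submodule.map_top]

end profile

/-- The profile of a partition: the sum of the parts diminished by `k`. -/
def partProfile (μ : Multiset ℕ) (k : ℕ) : ℕ := (μ.map (fun a => a - k)).sum

lemma partProfile_zero (μ : Multiset ℕ) : partProfile μ 0 = μ.sum := by simp [partProfile]

lemma partProfile_add (μ ν : Multiset ℕ) (k : ℕ) :
    partProfile (μ + ν) k = partProfile μ k + partProfile ν k := by simp [partProfile]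

lemma partProfile_eq_zero {μ : Multiset ℕ} {k : ℕ} (h : ∀ a ∈ μ, a ≤ k) : partProfile μ k = 0 := by
  induction μ using Multiset.induction_on with
  | empty => simp [partProfile]
  | cons a μ ih =>
    have := h a (Multiset.mem_cons_self _ _)
    have := ih (fun b hb => h b (Multiset.mem_cons_of_mem hb))
    simp only [partProfile, Multiset.map_cons, Multiset.sum_cons] at *
    omega

lemma count_partProfile (μ : Multiset ℕ) (k : ℕ) :
    partProfile μ k + partProfile μ (k + 2) = 2 * partProfile μ (k + 1) + μ.count (k + 1) := by
  induction μ using Multiset.induction_on with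
  | empty => simp [partProfile]
  | cons a μ ih =>
    simp only [partProfile, Multiset.map_cons, Multiset.sum_cons, Multiset.count_cons] at *
    split_ifs with h <;> omega

lemma card_partProfile {μ : Multiset ℕ} (h : ∀ a ∈ μ, 0 < a) :
    partProfile μ 1 + Multiset.card μ = partProfile μ 0 := by
  induction μ using Multiset.induction_on with
  | empty => simp [partProfile]
  | cons a μ ih =>
    have := h a (Multiset.mem_cons_self _ _)
    have := ih (fun b hb => h b (Multiset.mem_cons_of_mem hb))
    simp only [partProfile, Multiset.map_cons, Multiset.sum_cons, Multiset.card_cons] at *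
    omega

/-- Every convex sequence vanishing at `p` and after is the profile of a partition. -/
lemma exists_partition_of_convex (p : ℕ) : ∀ r : ℕ → ℕ, (∀ k, 2 * r (k + 1) ≤ r k + r (k + 2)) →
    (∀ k, p ≤ k → r k = 0) →
    ∃ ν : Multiset ℕ, (∀ a ∈ ν, 0 < a ∧ a ≤ p) ∧ ∀ k, partProfile ν k = r k := by
  induction p with
  | zero => exact fun r _ h => ⟨0, by simp, fun k => by simp [partProfile, h k (Nat.zero_le k)]⟩
  | succ p ih =>
    intro r hc hz
    obtain ⟨ν, hν, hr⟩ := ih (fun k => r (k + 1)) (fun k => hc (k + 1)) (fun k hk => hz _ (by omega))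
    have hcard := card_partProfile (fun a ha => (hν a ha).1)
    rw [hr, hr] at hcard
    have h0 := hc 0
    simp only [Nat.reduceAdd] at hcard h0
    refine ⟨ν.map (fun a => a + 1) + Multiset.replicate (r 0 - r 1 - Multiset.card ν) 1, ?_, fun k => ?_⟩
    · intro a ha
      rcases Multiset.mem_add.1 ha with ha | ha
      · obtain ⟨b, hb, rfl⟩ := Multiset.mem_map.1 ha
        have := hν b hb
        omega
      · rw [Multiset.eq_of_mem_replicate ha]
        omega
    · rw [partProfile_add]
      cases k with
      | succ k =>
        have e : partProfile (ν.map (fun a => a + 1)) (k + 1) = partProfile ν k := by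
          simp only [partProfile, Multiset.map_map]
          congr 1
          exact Multiset.map_congr rfl (fun a _ => by simp)
        rw [e, hr, partProfile_eq_zero (fun a ha => by rw [Multiset.eq_of_mem_replicate ha]; omega)]
        rfl
      | zero =>
        have := hr 0
        simp only [Nat.reduceAdd, partProfile_zero] at this
        rw [partProfile_zero, partProfile_zero, Multiset.sum_map_add, Multiset.map_id', this]
        simp
        omega

/-- A complemented invariant subspace carries a sub-partition of the partition of the whole space. -/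
theorem exists_sub_partition {F V : Type*} [Field F] [AddCommGroup V] [Module F V] [FiniteDimensional F V]
    (N : Module.End F V) {μ : Multiset ℕ} (hμ : ∀ a ∈ μ, 0 < a)
    (hN : ∀ k, imDim N ⊤ k = partProfile μ k) {W W' : Submodule F V}
    (hW : W.map N ≤ W) (hW' : W'.map N ≤ W') (hc : IsCompl W W') :
    ∃ ν ν' : Multiset ℕ, μ = ν + ν' ∧ (∀ k, partProfile ν k = imDim N W k) ∧
      (∀ k, partProfile ν' k = imDim N W' k) := by
  have hp : ∀ U : Submodule F V, ∀ k, μ.sum ≤ k → imDim N U k = 0 := by
    intro U k hk
    have h1 : imDim N ⊤ k = 0 := by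
      rw [hN, partProfile_eq_zero]
      exact fun a ha => (Multiset.le_sum_of_mem ha).trans hk
    have h2 : imDim N U k ≤ imDim N ⊤ k := Submodule.finrank_mono (Submodule.map_mono le_top)
    omega
  obtain ⟨ν, hν, hνr⟩ := exists_partition_of_convex μ.sum (imDim N W) (imDim_convex N hW) (hp W)
  obtain ⟨ν', hν', hνr'⟩ := exists_partition_of_convex μ.sum (imDim N W') (imDim_convex N hW') (hp W')
  refine ⟨ν, ν', ?_, hνr, hνr'⟩
  have hsum : ∀ k, partProfile μ k = partProfile ν k + partProfile ν' k := fun k => by
    rw [hνr, hνr', ← imDim_add N hW hW' hc.disjoint, hc.sup_eq_top, hN]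
  refine Multiset.ext.2 fun a => ?_
  cases a with
  | zero =>
    rw [Multiset.count_add, Multiset.count_eq_zero_of_notMem (fun h => (hμ 0 h).false),
      Multiset.count_eq_zero_of_notMem (fun h => (hν 0 h).1.false),
      Multiset.count_eq_zero_of_notMem (fun h => (hν' 0 h).1.false)]
  | succ a =>
    have h1 := count_partProfile μ a
    have h2 := count_partProfile ν a
    have h3 := count_partProfile ν' a
    rw [hsum, hsum, hsum] at h1
    rw [Multiset.count_add]
    omega

section shift

variable (F : Type*) [Field F]

/-- The shift `e i ↦ e (i + 1)` on `Fin a → F`. -/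
def shiftEnd (a : ℕ) : Module.End F (Fin a → F) where
  toFun v i := if h : (i : ℕ) = 0 then 0 else v ⟨i - 1, by omega⟩
  map_add' u v := by ext i; simp only [Pi.add_apply]; split <;> simp
  map_smul' c v := by ext i; simp only [Pi.smul_apply, RingHom.id_apply]; split <;> simp

lemma shiftEnd_pow_apply (a k : ℕ) (v : Fin a → F) (i : Fin a) :
    (shiftEnd F a ^ k) v i = if h : (i : ℕ) < k then 0 else v ⟨i - k, by omega⟩ := by
  induction k generalizing i with
  | zero => simp
  | succ k ih =>
    rw [pow_succ', Module.End.mul_apply]
    simp only [shiftEnd, LinearMap.coe_mk, AddHom.coe_mk] at ih ⊢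
    by_cases h : (i : ℕ) = 0
    · simp [h]
    · rw [dif_neg h, ih]
      simp only
      by_cases h2 : (i : ℕ) < k + 1
      · rw [dif_pos h2, dif_pos (by omega)]
      · rw [dif_neg h2, dif_neg (by omega)]
        congr 1
        ext
        simp only
        omega

lemma finrank_range_shiftEnd_pow (a k : ℕ) :
    finrank F ↥(LinearMap.range (shiftEnd F a ^ k)) = a - k := by
  let π : (Fin a → F) →ₗ[F] (Fin (a - k) → F) :=
    LinearMap.funLeft F F (fun j : Fin (a - k) => (⟨(j : ℕ), by omega⟩ : Fin a))
  let ι : (Fin (a - k) → F) →ₗ[F] (Fin a → F) :=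
    { toFun := fun w i => if h : (i : ℕ) < k then 0 else w ⟨i - k, by omega⟩
      map_add' := fun u v => by ext i; simp only [Pi.add_apply]; split <;> simp
      map_smul' := fun c v => by ext i; simp only [Pi.smul_apply, RingHom.id_apply]; split <;> simp }
  have hπ : LinearMap.range π = ⊤ := by
    rw [LinearMap.range_eq_top]
    exact LinearMap.funLeft_surjective_of_injective _ _ _ (fun x y h => Fin.ext (Fin.mk.inj h))
  have hι : Function.Injective ι := by
    intro u v h
    ext j
    have := congrFun h ⟨(j : ℕ) + k, by omega⟩
    simpa [ι] using this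
  have he : shiftEnd F a ^ k = ι ∘ₗ π := by
    refine LinearMap.ext fun v => funext fun i => ?_
    rw [shiftEnd_pow_apply]
    rfl
  rw [he, LinearMap.range_comp_of_range_eq_top _ hπ, LinearMap.finrank_range_of_inj hι,
    Module.finrank_fin_fun]

lemma finrank_prod_submodule {M M' : Type*} [AddCommGroup M] [Module F M] [AddCommGroup M'] [Module F M']
    [FiniteDimensional F M] [FiniteDimensional F M'] (P : Submodule F M) (P' : Submodule F M') :
    finrank F ↥(P.prod P') = finrank F ↥P + finrank F ↥P' := by
  rw [← Module.finrank_prod, ← LinearMap.finrank_range_of_inj (f := P.subtype.prodMap P'.subtype)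
    (by rintro ⟨x, y⟩ ⟨x', y'⟩ h; simpa [Prod.ext_iff] using h),
    LinearMap.range_prodMap, Submodule.range_subtype, Submodule.range_subtype]

/-- There is a nilpotent map with any given partition. -/
theorem exists_end_of_partition (μ : Multiset ℕ) {n : ℕ} (hn : μ.sum = n) :
    ∃ N : Module.End F (Fin n → F), ∀ k, imDim N ⊤ k = partProfile μ k := by
  induction μ using Multiset.induction_on generalizing n with
  | empty =>
    refine ⟨0, fun k => ?_⟩
    simp only [Multiset.sum_zero] at hn
    subst hn
    have h := Submodule.finrank_le ((⊤ : Submodule F (Fin 0 → F)).map ((0 : Module.End F (Fin 0 → F)) ^ k))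
    rw [Module.finrank_fin_fun] at h
    simp only [imDim, partProfile, Multiset.map_zero, Multiset.sum_zero]
    omega
  | cons a μ ih =>
    obtain ⟨N, hN⟩ := ih rfl
    rw [Multiset.sum_cons] at hn
    let e : ((Fin a → F) × (Fin μ.sum → F)) ≃ₗ[F] (Fin n → F) :=
      LinearEquiv.ofFinrankEq _ _ (by simp [hn])
    refine ⟨e.conj (LinearMap.prodMap (shiftEnd F a) N), fun k => ?_⟩
    have hpow : ∀ k, e.conj (LinearMap.prodMap (shiftEnd F a) N) ^ k =
        e.conj (LinearMap.prodMap (shiftEnd F a ^ k) (N ^ k)) := by
      intro k
      induction k with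
      | zero =>
        refine LinearMap.ext fun v => ?_
        simp [LinearEquiv.conj_apply]
      | succ k ihk =>
        refine LinearMap.ext fun v => ?_
        rw [pow_succ', Module.End.mul_apply, ihk]
        simp [LinearEquiv.conj_apply, pow_succ', LinearMap.prodMap_apply]
    rw [imDim_top, hpow, LinearEquiv.conj_apply, LinearMap.range_comp_of_range_eq_top _ e.symm.range,
      LinearMap.range_comp, LinearEquiv.finrank_map_eq, LinearMap.range_prodMap,
      finrank_prod_submodule, finrank_range_shiftEnd_pow,
      ← imDim_top, hN]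
    simp [partProfile]

end shift

end CfsgLib.RankProfile
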