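import Mathlib

/-!
A normal form for linear maps whose square is a scalar.
-/

set_option autoImplicit false

namespace CfsgLib.SquareScalar

open Module

variable {F V : Type*} [Field F] [AddCommGroup V] [Module F V]

/-- The basis consists of `s` pairs `v, T v` and `l` eigenvectors. -/
def HasPairBasis (T : V →ₗ[F] V) (z : F) (s l : ℕ) : Prop :=
  ∃ (b : Basis ((Fin s × Bool) ⊕ Fin l) F V) (μ : Fin l → F),
    (∀ i, T (b (.inl (i, false))) = b (.inl (i, true))) ∧
    (∀ i, T (b (.inl (i, true))) = z • b (.inl (i, false))) ∧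
    (∀ j, T (b (.inr j)) = μ j • b (.inr j)) ∧ (∀ j, μ j * μ j = z)

/-- Without square root of `z`: only pairs. -/
theorem hasPairBasis_of_not_square [FiniteDimensional F V] (T : V →ₗ[F] V) (z : F)
    (hT : ∀ v, T (T v) = z • v) (hz : ¬ IsSquare z) : ∃ s, HasPairBasis T z s 0 := by
  classical
  -- independent families of pairs, enlarged until they span
  have step : ∀ (s : ℕ) (f : Fin s → V), LinearIndependent F (fun k : Fin s × Bool => cond k.2 (T (f k.1)) (f k.1)) →
      (Submodule.span F (Set.range fun k : Fin s × Bool => cond k.2 (T (f k.1)) (f k.1)) = ⊤) ∨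
      ∃ g : Fin (s + 1) → V, LinearIndependent F (fun k : Fin (s + 1) × Bool => cond k.2 (T (g k.1)) (g k.1)) := by
    intro s f hf
    refine or_iff_not_imp_left.2 fun hne => ?_
    set W := Submodule.span F (Set.range fun k : Fin s × Bool => cond k.2 (T (f k.1)) (f k.1)) with hW
    have hWT : ∀ w ∈ W, T w ∈ W := by
      intro w hw
      refine (Submodule.span_le.2 ?_ : W ≤ W.comap T) hw
      rintro _ ⟨⟨i, b⟩, rfl⟩
      cases b
      · exact Submodule.subset_span ⟨(i, true), rfl⟩
      · show T (T (f i)) ∈ W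
        rw [hT]
        exact W.smul_mem _ (Submodule.subset_span ⟨(i, false), rfl⟩)
    obtain ⟨v, hv⟩ : ∃ v, v ∉ W := by
      by_contra h
      push Not at h
      exact hne (Submodule.eq_top_iff'.2 h)
    refine ⟨Fin.cons v f, ?_⟩
    have key : ∀ a b : F, a • v + b • T v ∈ W → a = 0 ∧ b = 0 := by
      intro a b h
      have h' := hWT _ h
      rw [map_add, map_smul, map_smul, hT, smul_smul] at h'
      have h2 : (a * a - b * b * z) • v ∈ W := by
        have := W.sub_mem (W.smul_mem a h) (W.smul_mem b h')
        have e : a • (a • v + b • T v) - b • (a • T v + (b * z) • v) = (a * a - b * b * z) • v := by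
          module
        rwa [e] at this
      have h3 : a * a - b * b * z = 0 := by
        by_contra h0
        exact hv ((Submodule.smul_mem_iff _ h0).1 h2)
      by_cases hb : b = 0
      · subst hb
        exact ⟨mul_self_eq_zero.1 (by linear_combination h3), rfl⟩
      · exact absurd ⟨a / b, by field_simp; linear_combination -h3⟩ hz
    rw [linearIndependent_iff']
    intro S g hg k hk
    have hsum : ∀ (h : Fin (s + 1) × Bool → F), (∑ k, h k • cond k.2 (T ((Fin.cons v f : Fin (s + 1) → V) k.1)) ((Fin.cons v f : Fin (s + 1) → V) k.1)) =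
        (h (0, false) • v + h (0, true) • T v) + ∑ k : Fin s × Bool, h (k.1.succ, k.2) • cond k.2 (T (f k.1)) (f k.1) := by
      intro h
      rw [Fintype.sum_prod_type, Fin.sum_univ_succ, Fintype.sum_prod_type]
      simp [Fintype.sum_bool, add_comm]
    let g' : Fin (s + 1) × Bool → F := fun k => if k ∈ S then g k else 0
    have hg' : (∑ k, g' k • cond k.2 (T ((Fin.cons v f : Fin (s + 1) → V) k.1)) ((Fin.cons v f : Fin (s + 1) → V) k.1)) = 0 := by
      rw [← hg, ← Finset.sum_filter_add_sum_filter_not Finset.univ (· ∈ S)]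
      rw [Finset.sum_eq_zero (s := Finset.filter (fun x => ¬ x ∈ S) _) (fun x hx => by simp [g', (Finset.mem_filter.1 hx).2]),
        add_zero]
      refine Finset.sum_congr (by ext; simp) fun x hx => by simp [g', hx]
    rw [hsum] at hg'
    have hmem : (∑ k : Fin s × Bool, g' (k.1.succ, k.2) • cond k.2 (T (f k.1)) (f k.1)) ∈ W :=
      Submodule.sum_mem _ fun k _ => W.smul_mem _ (Submodule.subset_span ⟨k, rfl⟩)
    obtain ⟨h0, h1⟩ := key _ _ ((Submodule.add_mem_iff_left _ hmem).1 (hg' ▸ W.zero_mem))
    rw [h0, h1, zero_smul, zero_smul, add_zero, zero_add] at hg'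
    have hrest := Fintype.linearIndependent_iff.1 hf _ hg'
    have hgk : g' k = g k := by simp [g', hk]
    rw [← hgk]
    obtain ⟨i, b⟩ := k
    refine Fin.cases ?_ ?_ i
    · cases b
      · exact h0
      · exact h1
    · exact fun j => hrest (j, b)
  by_contra hcon
  have : ∀ s : ℕ, ∃ f : Fin s → V, LinearIndependent F (fun k : Fin s × Bool => cond k.2 (T (f k.1)) (f k.1)) := by
    intro s
    induction s with
    | zero => exact ⟨Fin.elim0, linearIndependent_empty_type⟩
    | succ s ih =>
      obtain ⟨f, hf⟩ := ih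
      refine (step s f hf).resolve_left fun hsp => hcon ⟨s, ?_⟩
      let b := Basis.mk hf hsp.ge
      refine ⟨b.reindex (Equiv.sumEmpty _ (Fin 0)).symm, fun _ => 0, fun i => ?_, fun i => ?_, fun j => j.elim0,
        fun j => j.elim0⟩
      · simp [b]
      · simp [b, hT]
  obtain ⟨f, hf⟩ := this (finrank F V + 1)
  have := hf.fintype_card_le_finrank
  simp at this
  omega

/-- With `z = c²`, the characteristic not 2: only eigenvectors. -/
theorem hasPairBasis_of_square [FiniteDimensional F V] (h2 : (2 : F) ≠ 0) (T : V →ₗ[F] V) (c : F) (hc : c ≠ 0)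
    (hT : ∀ v, T (T v) = (c * c) • v) : ∃ l, HasPairBasis T (c * c) 0 l := by
  classical
  let P := LinearMap.ker (T - c • LinearMap.id)
  let Q := LinearMap.ker (T + c • LinearMap.id)
  have hP : ∀ v, v ∈ P ↔ T v = c • v := fun v => by simp [P, sub_eq_zero]
  have hQ : ∀ v, v ∈ Q ↔ T v = -(c • v) := fun v => by simp [Q, add_eq_zero_iff_eq_neg]
  have hPQ : IsCompl P Q := by
    refine ⟨Submodule.disjoint_def.2 fun v h1 h2' => ?_, codisjoint_iff.2 (Submodule.eq_top_iff'.2 fun v => ?_)⟩
    · have e := ((hP v).1 h1).symm.trans ((hQ v).1 h2')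
      rw [eq_neg_iff_add_eq_zero, ← two_smul F, smul_smul] at e
      exact (smul_eq_zero.1 e).resolve_left (mul_ne_zero h2 hc)
    · have e : v = (2 * c)⁻¹ • (c • v + T v) + (2 * c)⁻¹ • (c • v - T v) := by
        rw [← smul_add, show c • v + T v + (c • v - T v) = (2 * c) • v from by module, smul_smul,
          inv_mul_cancel₀ (mul_ne_zero h2 hc), one_smul]
      rw [e]
      refine Submodule.add_mem_sup (Submodule.smul_mem _ _ ((hP _).2 ?_)) (Submodule.smul_mem _ _ ((hQ _).2 ?_))
      · rw [map_add, map_smul, hT, smul_add, smul_smul, add_comm]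
      · rw [map_sub, map_smul, hT, smul_sub, smul_smul, neg_sub]
  let bP := Module.finBasis F P
  let bQ := Module.finBasis F Q
  let b := (bP.prod bQ).map (Submodule.prodEquivOfIsCompl P Q hPQ)
  let e : Fin (finrank F P) ⊕ Fin (finrank F Q) ≃ (Fin 0 × Bool) ⊕ Fin (finrank F P + finrank F Q) :=
    finSumFinEquiv.trans (Equiv.emptySum _ _).symm
  refine ⟨finrank F P + finrank F Q, b.reindex e,
    fun j => Sum.elim (fun _ => c) (fun _ => -c) (finSumFinEquiv.symm j), fun i => i.elim0, fun i => i.elim0,
    fun j => ?_, fun j => ?_⟩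
  · obtain ⟨k, rfl⟩ := finSumFinEquiv.surjective j
    rcases k with k | k
    · simp [b, e, (hP _).1 (bP k).2]
    · simp [b, e, (hQ _).1 (bQ k).2]
  · rcases h : finSumFinEquiv.symm j with k | k <;> simp [h]

/-- With `z = c²` in characteristic 2. -/
theorem hasPairBasis_of_square_two [FiniteDimensional F V] (h2 : (2 : F) = 0) (T : V →ₗ[F] V) (c : F)
    (hT : ∀ v, T (T v) = (c * c) • v) :
    ∃ s l, HasPairBasis T (c * c) s l := by
  classical
  let N := T - c • LinearMap.id
  have hN : ∀ v, N v = T v - c • v := fun v => by simp [N]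
  let K := LinearMap.ker N
  have hcc : ∀ v : V, c • v + c • v = 0 := fun v => by rw [← two_smul F, h2, zero_smul]
  have hNN : ∀ v, N v ∈ K := by
    intro v
    show N (N v) = 0
    rw [hN (N v), hN v, map_sub, map_smul, hT, smul_sub, smul_smul,
      show (c * c) • v - c • T v - (c • T v - (c * c) • v) = (2 * (c * c)) • v - (2 * c) • T v from by module,
      h2, zero_mul, zero_mul, zero_smul, zero_smul, sub_zero]
  obtain ⟨C, hC⟩ := Submodule.exists_isCompl K
  let bC := Module.finBasis F C
  let R₀ : Submodule F K := (C.map N).comap K.subtype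
  obtain ⟨R, hR⟩ := Submodule.exists_isCompl R₀
  let bR := Module.finBasis F R
  let fam : (Fin (finrank F C) × Bool) ⊕ Fin (finrank F R) → V :=
    Sum.elim (fun k => cond k.2 (T (bC k.1 : V)) (bC k.1 : V)) (fun j => ((bR j : K) : V))
  have hspan : ⊤ ≤ Submodule.span F (Set.range fam) := by
    set S := Submodule.span F (Set.range fam)
    have h1 : C ≤ S := by
      intro v hv
      have : (⟨v, hv⟩ : C) ∈ Submodule.span F (Set.range bC) := by rw [bC.span_eq]; trivial
      have := Submodule.mem_map_of_mem (f := C.subtype) this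
      rw [Submodule.map_span, ← Set.range_comp] at this
      refine Submodule.span_mono ?_ this
      rintro _ ⟨i, rfl⟩
      exact ⟨.inl (i, false), rfl⟩
    have h1' : C.map T ≤ S := by
      rintro _ ⟨v, hv, rfl⟩
      have : (⟨v, hv⟩ : C) ∈ Submodule.span F (Set.range bC) := by rw [bC.span_eq]; trivial
      have := Submodule.mem_map_of_mem (f := T ∘ₗ C.subtype) this
      rw [Submodule.map_span, ← Set.range_comp] at this
      refine Submodule.span_mono ?_ this
      rintro _ ⟨i, rfl⟩
      exact ⟨.inl (i, true), rfl⟩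
    have h2' : C.map N ≤ S := by
      rintro _ ⟨v, hv, rfl⟩
      rw [hN]
      exact S.sub_mem (h1' (Submodule.mem_map_of_mem hv)) (S.smul_mem _ (h1 hv))
    have h3 : R.map K.subtype ≤ S := by
      rintro _ ⟨v, hv, rfl⟩
      have : (⟨v, hv⟩ : R) ∈ Submodule.span F (Set.range bR) := by rw [bR.span_eq]; trivial
      have := Submodule.mem_map_of_mem (f := K.subtype ∘ₗ R.subtype) this
      rw [Submodule.map_span, ← Set.range_comp] at this
      refine Submodule.span_mono ?_ this
      rintro _ ⟨i, rfl⟩
      exact ⟨.inr i, rfl⟩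
    have h4 : K ≤ S := by
      have := congrArg (Submodule.map K.subtype) hR.sup_eq_top
      rw [Submodule.map_sup, Submodule.map_subtype_top] at this
      rw [← this]
      exact sup_le ((Submodule.map_comap_le _ _).trans h2') h3
    rw [← hC.sup_eq_top]
    exact sup_le h4 h1
  have hinj : Function.Injective (N.domRestrict C) := by
    refine (injective_iff_map_eq_zero _).2 fun v hv => ?_
    exact Subtype.ext (Submodule.disjoint_def.1 hC.disjoint _ hv v.2)
  have hcard : Fintype.card ((Fin (finrank F C) × Bool) ⊕ Fin (finrank F R)) = finrank F V := by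
    have e1 := Submodule.finrank_add_eq_of_isCompl hC
    have e2 := Submodule.finrank_add_eq_of_isCompl hR
    have e3 : finrank F R₀ = finrank F C := by
      rw [← LinearMap.finrank_range_of_inj hinj, LinearMap.range_domRestrict,
        ← Submodule.finrank_map_subtype_eq, Submodule.map_comap_subtype, inf_eq_right.2]
      rintro _ ⟨v, -, rfl⟩
      exact hNN v
    simp only [Fintype.card_sum, Fintype.card_prod, Fintype.card_fin, Fintype.card_bool]
    omega
  refine ⟨finrank F C, finrank F R, basisOfTopLeSpanOfCardEqFinrank fam hspan hcard, fun _ => c, ?_⟩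
  simp only [coe_basisOfTopLeSpanOfCardEqFinrank, fam, Sum.elim_inl, Sum.elim_inr, Bool.cond_true, Bool.cond_false]
  refine ⟨fun i => trivial, fun i => hT _, fun j => ?_, fun _ => trivial⟩
  have : N ((bR j : K) : V) = 0 := (bR j : K).2
  rwa [hN, sub_eq_zero] at this

/-- Every map with scalar square over a finite field has a pair basis. -/
theorem exists_pairBasis [Finite F] [FiniteDimensional F V] (T : V →ₗ[F] V) (z : F) (hz : z ≠ 0)
    (hT : ∀ v, T (T v) = z • v) : ∃ s l, HasPairBasis T z s l := by
  by_cases hsq : IsSquare z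
  · obtain ⟨c, rfl⟩ := hsq
    by_cases h2 : (2 : F) = 0
    · exact hasPairBasis_of_square_two h2 T c hT
    · exact ⟨0, hasPairBasis_of_square h2 T c (left_ne_zero_of_mul hz) hT⟩
  · obtain ⟨s, hs⟩ := hasPairBasis_of_not_square T z hT hsq
    exact ⟨s, 0, hs⟩

end CfsgLib.SquareScalar
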