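import Cfsg.Prelude.Def_GeometricClasses
import Cfsg.Agent.Lib.Maximal99.RankProfile
import Cfsg.Agent.Lib.Maximal99.UnipBlocks
import Cfsg.Agent.Lib.QuadFin.Gram
import Cfsg.Agent.KsAltRank

/-!
Unipotent elements of order `p` of `Ω(Q)` in odd characteristic with a given partition, and the
partitions of their restrictions to non-degenerate invariant subspaces.
-/

set_option autoImplicit false

namespace CfsgLib.OrthUnipotent

open Matrix Module CfsgLib.RankProfile CfsgLib.UnipBlocks
open scoped commutatorElement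

variable {F : Type*} [Field F] {ι : Type} [Fintype ι] [DecidableEq ι]

/-! ### The standard forms -/

lemma polar_plus (d : ℕ) (u v : Fin d ⊕ Fin d → F) :
    QuadraticMap.polar (Cfsg.quadFormPlus d F) u v = ∑ i, (u (.inl i) * v (.inr i) + v (.inl i) * u (.inr i)) := by
  simp only [QuadraticMap.polar, Cfsg.quadFormPlus, Pi.add_apply, ← Finset.sum_sub_distrib]
  exact Finset.sum_congr rfl fun i _ => by ring

lemma polar_minus (d : ℕ) (a b : F) (u v : (Fin d ⊕ Fin d) ⊕ Fin 2 → F) :
    QuadraticMap.polar (Cfsg.quadFormMinus d F a b) u v =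
      (∑ i, (u (.inl (.inl i)) * v (.inl (.inr i)) + v (.inl (.inl i)) * u (.inl (.inr i)))) +
      (2 * (u (.inr 0) * v (.inr 0)) + a * (u (.inr 0) * v (.inr 1) + v (.inr 0) * u (.inr 1)) +
        2 * b * (u (.inr 1) * v (.inr 1))) := by
  simp only [QuadraticMap.polar, Cfsg.quadFormMinus, Pi.add_apply, add_mul, mul_add, Finset.sum_add_distrib]
  ring

lemma polar_odd (d : ℕ) (u v : Unit ⊕ (Fin d ⊕ Fin d) → F) :
    QuadraticMap.polar (Cfsg.quadFormOdd d F) u v = 2 * (u (.inl ()) * v (.inl ())) +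
      ∑ i, (u (.inr (.inl i)) * v (.inr (.inr i)) + v (.inr (.inl i)) * u (.inr (.inr i))) := by
  simp only [QuadraticMap.polar, Cfsg.quadFormOdd, Pi.add_apply, add_mul, mul_add, Finset.sum_add_distrib]
  ring

lemma nondeg_of_right {Q : (ι → F) → F} (hs : ∀ (c : F) (v : ι → F), Q (c • v) = c ^ 2 * Q v)
    (hb : Cfsg.Geo.IsBilinearForm (QuadraticMap.polar Q))
    (hn : ∀ v, (∀ x, QuadraticMap.polar Q v x = 0) → v = 0) :
    Cfsg.Geo.IsNondegenerateQuadraticForm Q := by
  refine ⟨hs, hb, fun v hv => ?_⟩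
  obtain ⟨x, hx⟩ := not_forall.1 (fun h => hv (hn v h))
  exact ⟨⟨x, by rwa [QuadraticMap.polar_comm]⟩, ⟨x, hx⟩⟩

lemma plus_nondeg (d : ℕ) : Cfsg.Geo.IsNondegenerateQuadraticForm (Cfsg.quadFormPlus d F) := by
  refine nondeg_of_right (fun c v => ?_) ⟨?_, ?_, ?_, ?_⟩ (fun v hv => ?_)
  · simp only [Cfsg.quadFormPlus, Pi.smul_apply, smul_eq_mul, Finset.mul_sum]
    exact Finset.sum_congr rfl fun i _ => by ring
  · intro x y v
    simp only [polar_plus, Pi.add_apply, ← Finset.sum_add_distrib]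
    exact Finset.sum_congr rfl fun i _ => by ring
  · intro c x v
    simp only [polar_plus, Pi.smul_apply, smul_eq_mul, Finset.mul_sum]
    exact Finset.sum_congr rfl fun i _ => by ring
  · intro v x y
    simp only [polar_plus, Pi.add_apply, ← Finset.sum_add_distrib]
    exact Finset.sum_congr rfl fun i _ => by ring
  · intro c v x
    simp only [polar_plus, Pi.smul_apply, smul_eq_mul, Finset.mul_sum]
    exact Finset.sum_congr rfl fun i _ => by ring
  · funext i
    rcases i with i | i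
    · have := hv (Pi.single (.inr i) 1)
      simpa [polar_plus, Pi.single_apply] using this
    · have := hv (Pi.single (.inl i) 1)
      simpa [polar_plus, Pi.single_apply] using this

lemma odd_nondeg (d : ℕ) (h2 : (2 : F) ≠ 0) :
    Cfsg.Geo.IsNondegenerateQuadraticForm (Cfsg.quadFormOdd d F) := by
  refine nondeg_of_right (fun c v => ?_) ⟨?_, ?_, ?_, ?_⟩ (fun v hv => ?_)
  · simp only [Cfsg.quadFormOdd, Pi.smul_apply, smul_eq_mul, mul_add, Finset.mul_sum]
    congr 1
    · ring
    · exact Finset.sum_congr rfl fun i _ => by ring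
  · intro x y v
    simp only [polar_odd, Pi.add_apply, add_mul, mul_add, Finset.sum_add_distrib]
    ring
  · intro c x v
    simp only [polar_odd, Pi.smul_apply, smul_eq_mul, mul_add, Finset.mul_sum]
    congr 1
    · ring
    · exact Finset.sum_congr rfl fun i _ => by ring
  · intro v x y
    simp only [polar_odd, Pi.add_apply, add_mul, mul_add, Finset.sum_add_distrib]
    ring
  · intro c v x
    simp only [polar_odd, Pi.smul_apply, smul_eq_mul, mul_add, Finset.mul_sum]
    congr 1
    · ring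
    · exact Finset.sum_congr rfl fun i _ => by ring
  · funext i
    rcases i with u | i | i
    · have := hv (Pi.single (.inl ()) 1)
      simpa [polar_odd, Pi.single_apply, h2] using this
    · have := hv (Pi.single (.inr (.inr i)) 1)
      simpa [polar_odd, Pi.single_apply] using this
    · have := hv (Pi.single (.inr (.inl i)) 1)
      simpa [polar_odd, Pi.single_apply] using this

lemma minus_nondeg (d : ℕ) (a b : F) (h2 : (2 : F) ≠ 0)
    (hab : ∀ x y : F, x ^ 2 + a * x * y + b * y ^ 2 = 0 → x = 0 ∧ y = 0) :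
    Cfsg.Geo.IsNondegenerateQuadraticForm (Cfsg.quadFormMinus d F a b) := by
  refine nondeg_of_right (fun c v => ?_) ⟨?_, ?_, ?_, ?_⟩ (fun v hv => ?_)
  · simp only [Cfsg.quadFormMinus, Pi.smul_apply, smul_eq_mul, mul_add, Finset.mul_sum]
    congr 1
    · exact Finset.sum_congr rfl fun i _ => by ring
    · ring
  · intro x y v
    simp only [polar_minus, Pi.add_apply, add_mul, mul_add, Finset.sum_add_distrib]
    ring
  · intro c x v
    simp only [polar_minus, Pi.smul_apply, smul_eq_mul, mul_add, Finset.mul_sum]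
    congr 1
    · exact Finset.sum_congr rfl fun i _ => by ring
    · ring
  · intro v x y
    simp only [polar_minus, Pi.add_apply, add_mul, mul_add, Finset.sum_add_distrib]
    ring
  · intro c v x
    simp only [polar_minus, Pi.smul_apply, smul_eq_mul, mul_add, Finset.mul_sum]
    congr 1
    · exact Finset.sum_congr rfl fun i _ => by ring
    · ring
  · have e0 := hv (Pi.single (.inr 0) 1)
    have e1 := hv (Pi.single (.inr 1) 1)
    simp [polar_minus] at e0 e1
    set z₀ := v (.inr 0)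
    set z₁ := v (.inr 1)
    have hz : z₀ = 0 ∧ z₁ = 0 := by
      refine hab z₀ z₁ (mul_left_cancel₀ h2 ?_)
      linear_combination z₀ * e0 + z₁ * e1
    funext i
    rcases i with (i | i) | i
    · have := hv (Pi.single (.inl (.inr i)) 1)
      simpa [polar_minus, Pi.single_apply] using this
    · have := hv (Pi.single (.inl (.inl i)) 1)
      simpa [polar_minus, Pi.single_apply] using this
    · fin_cases i
      · exact hz.1
      · exact hz.2

/-! ### Bundling -/

/-- The quadratic form attached to a non-degenerate quadratic function. -/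
def qf {Q : (ι → F) → F} (hQ : Cfsg.Geo.IsNondegenerateQuadraticForm Q) : QuadraticForm F (ι → F) :=
  QuadraticMap.ofPolar Q (fun a x => by rw [hQ.smul, smul_eq_mul, pow_two])
    (fun x x' y => hQ.polar_bilinear.add_left x x' y)
    (fun a x y => hQ.polar_bilinear.smul_left a x y)

lemma qf_coe {Q : (ι → F) → F} (hQ : Cfsg.Geo.IsNondegenerateQuadraticForm Q) : ⇑(qf hQ) = Q := rfl

lemma qf_nondeg {Q : (ι → F) → F} (hQ : Cfsg.Geo.IsNondegenerateQuadraticForm Q) :
    (qf hQ).polarBilin.Nondegenerate := by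
  constructor
  · intro x hx
    by_contra h
    obtain ⟨-, y, hy⟩ := hQ.nondegenerate x h
    exact hy (by simpa [qf_coe] using hx y)
  · intro x hx
    by_contra h
    obtain ⟨⟨y, hy⟩, -⟩ := hQ.nondegenerate x h
    exact hy (by simpa [qf_coe] using hx y)

/-- Classification by the discriminant for any finite index type. -/
lemma exists_isometry [Fintype F] (h2 : (2 : F) ≠ 0) (Q₁ Q₂ : QuadraticForm F (ι → F))
    (h₁ : Q₁.polarBilin.Nondegenerate) (h₂ : Q₂.polarBilin.Nondegenerate)
    (h : IsSquare ((CfsgLib.QuadFin.gram ⇑Q₁).det * (CfsgLib.QuadFin.gram ⇑Q₂).det)) :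
    ∃ g : (ι → F) ≃ₗ[F] (ι → F), ∀ v, Q₂ (g v) = Q₁ v := by
  let e : ι ≃ Fin (Fintype.card ι) := Fintype.equivFin ι
  let p : (Fin (Fintype.card ι) → F) ≃ₗ[F] (ι → F) := LinearEquiv.funCongrLeft F F e
  have hnd : ∀ Q : QuadraticForm F (ι → F), Q.polarBilin.Nondegenerate →
      (Q.comp p.toLinearMap).polarBilin.Nondegenerate := by
    intro Q hQ
    constructor
    · intro x hx
      refine p.map_eq_zero_iff.1 (hQ.1 (p x) fun y => ?_)
      have := hx (p.symm y)
      simpa [QuadraticMap.polar, map_add] using this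
    · intro x hx
      refine p.map_eq_zero_iff.1 (hQ.2 (p x) fun y => ?_)
      have := hx (p.symm y)
      simpa [QuadraticMap.polar, map_add] using this
  have hgram : ∀ Q : QuadraticForm F (ι → F),
      (CfsgLib.QuadFin.gram ⇑(Q.comp p.toLinearMap)).det = (CfsgLib.QuadFin.gram ⇑Q).det := by
    intro Q
    have hp : ∀ i, p (Pi.single i 1) = Pi.single (e.symm i) 1 := by
      intro i
      funext j
      simp [p, Pi.single_apply, Equiv.eq_symm_apply]
    rw [← Matrix.det_submatrix_equiv_self e.symm (CfsgLib.QuadFin.gram ⇑Q)]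
    congr 1
    ext i j
    simp [CfsgLib.QuadFin.gram, QuadraticMap.polar, ← hp, map_add]
  obtain ⟨g, hg⟩ := (CfsgLib.QuadFin.equiv_iff_isSquare h2 _ _ (hnd Q₁ h₁) (hnd Q₂ h₂)).2
    (by rwa [hgram, hgram])
  refine ⟨p.symm.trans (g.trans p), fun v => ?_⟩
  have := hg (p.symm v)
  simpa using this

/-! ### Construction -/

/-- An element of order `p` of `Ω(Q)` with partition `μ`. -/
theorem exists_omega_unipotent [Fintype F] {p : ℕ} [Fact p.Prime] [CharP F p] (hp : p ≠ 2)
    {Q : (ι → F) → F} (hQ : Cfsg.Geo.IsNondegenerateQuadraticForm Q)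
    {μ : Multiset ℕ} (hμp : ∀ a ∈ μ, a ≤ p) (hμe : ∀ e, Even e → Even (μ.count e))
    (hμo : ∃ a ∈ μ, Odd a) (hsum : μ.sum = Fintype.card ι) :
    ∃ x : GL ι F, x ∈ Cfsg.Geo.omegaGL Q ∧ x ^ p = 1 ∧
      ∀ k, imDim (Matrix.toLin' ((x : Matrix ι ι F) - 1)) ⊤ k = partProfile μ k := by
  classical
  have h2 : (2 : F) ≠ 0 := by
    intro h
    have : (p : ℕ) ∣ 2 := (CharP.cast_eq_zero_iff F p 2).1 (by exact_mod_cast h)
    exact hp ((Nat.prime_dvd_prime_iff_eq Fact.out Nat.prime_two).1 this)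
  -- a block with the right discriminant
  obtain ⟨a₀, ha₀, hodd⟩ := hμo
  obtain ⟨ν, hν⟩ := Multiset.exists_cons_of_mem ha₀
  obtain ⟨D, hDne, hD, hblock⟩ : ∃ D : F, D ≠ 0 ∧ IsSquare (D * (CfsgLib.QuadFin.gram Q).det) ∧ HasBlock F μ D := by
    obtain ⟨D₁, hD₁, hb₁⟩ := hasBlock_odd (F := F) hodd
    obtain ⟨D₂, hD₂, hb₂⟩ := exists_hasBlock (F := F) ν (fun e he => by
      have := hμe e he
      rwa [hν, Multiset.count_cons_of_ne] at this
      rintro rfl
      exact Nat.not_even_iff_odd.2 hodd he)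
    have hgd : (CfsgLib.QuadFin.gram Q).det ≠ 0 := by
      rw [← qf_coe hQ]
      exact CfsgLib.QuadFin.gram_det_ne_zero _ (qf_nondeg hQ)
    have hb : ∀ c : F, HasBlock F μ (c ^ a₀ * D₁ * D₂) := fun c => by
      have := (hb₁ c).add hb₂
      rwa [Multiset.singleton_add, ← hν] at this
    have hchar : ringChar F ≠ 2 := by rw [ringChar.eq F p]; exact hp
    obtain ⟨δ, hδ⟩ := FiniteField.exists_nonsquare hchar
    by_cases h1 : IsSquare (1 ^ a₀ * D₁ * D₂ * (CfsgLib.QuadFin.gram Q).det)
    · exact ⟨_, by simp [hD₁, hD₂], h1, hb 1⟩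
    · have hδ0 : δ ≠ 0 := fun h => hδ (h ▸ IsSquare.zero)
      refine ⟨_, mul_ne_zero (mul_ne_zero (pow_ne_zero _ hδ0) hD₁) hD₂, ?_, hb δ⟩
      rw [← quadraticChar_one_iff_isSquare (mul_ne_zero (mul_ne_zero (mul_ne_zero
        (pow_ne_zero _ hδ0) hD₁) hD₂) hgd), map_mul, map_mul, map_mul, map_pow,
        quadraticChar_neg_one_iff_not_isSquare.2 hδ, hodd.neg_one_pow]
      rw [one_pow, one_mul, ← quadraticChar_neg_one_iff_not_isSquare, map_mul, map_mul] at h1
      linear_combination (-1 : ℤ) * h1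
  obtain ⟨κ, hκ, hκ', G', N', g', hb, hr, rfl⟩ := hblock
  have hcard : Fintype.card κ = Fintype.card ι := by
    have := hr 0
    rw [pow_zero, Matrix.rank_one, partProfile_zero, hsum] at this
    exact this
  let e : κ ≃ ι := Fintype.equivOfCardEq hcard
  let R : Matrix κ κ F ≃ₐ[F] Matrix ι ι F := Matrix.reindexAlgEquiv F F e
  have hR : ∀ M : Matrix κ κ F, R M = M.submatrix e.symm e.symm := fun M => rfl
  have hRt : ∀ M : Matrix κ κ F, R Mᵀ = (R M)ᵀ := fun M => rfl
  set G := R G' with hG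
  set N := R N' with hN
  set g := R g' with hg
  have hbι : IsBlock G N g :=
    ⟨by rw [hG, ← hRt, hb.symm], by rw [hN, hG, ← hRt, ← map_mul, hb.skew, map_neg, map_mul],
      by rw [hg, hG, ← hRt, ← map_mul, ← map_mul, hb.isom], by rw [hg, ← map_mul, hb.invol, map_one],
      by rw [hg, hN, ← map_mul, hb.anti, map_neg, map_mul]⟩
  have hrι : ∀ k, (N ^ k).rank = partProfile μ k := fun k => by
    rw [hN, ← map_pow]
    exact (Matrix.rank_reindex e e _).trans (hr k)
  have hGdet : G.det = G'.det := Matrix.det_submatrix_equiv_self e.symm G'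
  -- the form of `G`
  let Bf : LinearMap.BilinForm F (ι → F) := Matrix.toBilin' ((2 : F)⁻¹ • G)
  let QG : QuadraticForm F (ι → F) := Bf.toQuadraticMap
  have hQG : ∀ v, QG v = (2 : F)⁻¹ * (v ⬝ᵥ (G *ᵥ v)) := fun v => by
    show Bf v v = _
    rw [Matrix.toBilin'_apply', smul_mulVec, dotProduct_smul, smul_eq_mul]
  have hgramG : CfsgLib.QuadFin.gram ⇑QG = G := by
    ext i j
    show QuadraticMap.polar ⇑QG _ _ = _
    rw [LinearMap.BilinMap.polar_toQuadraticMap, Matrix.toBilin'_single, Matrix.toBilin'_single,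
      Matrix.smul_apply, Matrix.smul_apply, ← Matrix.transpose_apply G i j, hbι.symm, smul_eq_mul]
    field_simp
    ring
  have hG0 : G.det ≠ 0 := hGdet ▸ hDne
  have hndG : QG.polarBilin.Nondegenerate := by
    have : LinearMap.BilinForm.toMatrix (Pi.basisFun F ι) QG.polarBilin = G := by
      rw [← CfsgLib.QuadFin.gram_eq_toMatrix, hgramG]
    exact (LinearMap.BilinForm.nondegenerate_iff_det_ne_zero (Pi.basisFun F ι)).2 (by rwa [this])
  obtain ⟨T, hT⟩ := exists_isometry h2 QG (qf hQ) hndG (qf_nondeg hQ)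
    (by rwa [hgramG, qf_coe, hGdet])
  rw [qf_coe] at hT
  -- the element
  have hNp : N ^ p = 0 := by
    have h0 := hrι p
    rw [partProfile_eq_zero hμp] at h0
    have : LinearMap.range (N ^ p).mulVecLin = ⊥ := Submodule.finrank_eq_zero.1 h0
    exact Matrix.toLin'.injective (by rw [map_zero]; exact LinearMap.range_eq_bot.1 this)
  have hu1 : IsUnit (1 + N) := IsNilpotent.isUnit_one_add ⟨p, hNp⟩
  have hu2 : IsUnit (1 - N) := IsNilpotent.isUnit_one_sub ⟨p, hNp⟩
  let xG : GL ι F := hu1.unit * hu2.unit⁻¹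
  have hiso : ∀ y : GL ι F, (y : Matrix ι ι F)ᵀ * G * (y : Matrix ι ι F) = G →
      ∀ v, QG ((y : Matrix ι ι F) *ᵥ v) = QG v := by
    intro y hy v
    rw [hQG, hQG, dotProduct_comm, dotProduct_mulVec, ← Matrix.mulVec_transpose, Matrix.mulVec_mulVec,
      Matrix.mulVec_mulVec, hy, dotProduct_comm]
  let gu : GL ι F := ⟨g, g, hbι.invol, hbι.invol⟩
  have hxG : (xG : Matrix ι ι F)ᵀ * G * (xG : Matrix ι ι F) = G := by
    set U : Matrix ι ι F := ((hu2.unit⁻¹ : GL ι F) : Matrix ι ι F) with hU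
    have hU1 : (1 - N) * U = 1 := hu2.mul_val_inv
    have key : (1 + N)ᵀ * G * (1 + N) = (1 - N)ᵀ * G * (1 - N) := by
      simp only [transpose_add, transpose_sub, transpose_one, add_mul, sub_mul, one_mul, mul_add, mul_sub,
        mul_one, hbι.skew, neg_mul]
      abel
    calc (xG : Matrix ι ι F)ᵀ * G * (xG : Matrix ι ι F)
        = ((1 + N) * U)ᵀ * G * ((1 + N) * U) := rfl
      _ = Uᵀ * ((1 + N)ᵀ * G * (1 + N)) * U := by rw [transpose_mul]; noncomm_ring
      _ = ((1 - N) * U)ᵀ * G * ((1 - N) * U) := by rw [key, transpose_mul]; noncomm_ring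
      _ = G := by rw [hU1, transpose_one, one_mul, mul_one]
  -- transport
  let t : GL ι F := Matrix.GeneralLinearGroup.toLin.symm (LinearMap.GeneralLinearGroup.ofLinearEquiv T)
  have ht : ∀ v, (t : Matrix ι ι F) *ᵥ v = T v := fun v => by
    show (LinearMap.toMatrix' T.toLinearMap) *ᵥ v = _
    rw [← Matrix.toLin'_apply, Matrix.toLin'_toMatrix']
    rfl
  have hmem : ∀ y : GL ι F, (∀ v, QG ((y : Matrix ι ι F) *ᵥ v) = QG v) →
      t * y * t⁻¹ ∈ Cfsg.isometryGroup F Q := by
    intro y hy u v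
    show Q ((((t * y * t⁻¹ : GL ι F)) : Matrix ι ι F) *ᵥ u) = Q u
    rw [Units.val_mul, Units.val_mul, ← Matrix.mulVec_mulVec, ← Matrix.mulVec_mulVec, ht, hT, hy, ← hT,
      ← ht, Matrix.mulVec_mulVec, ← Units.val_mul, mul_inv_cancel, Units.val_one, Matrix.one_mulVec]
  let X : Cfsg.isometryGroup F Q := ⟨t * xG * t⁻¹, hmem _ (hiso _ hxG)⟩
  let J : Cfsg.isometryGroup F Q := ⟨t * gu * t⁻¹, hmem _ (hiso gu hbι.isom)⟩
  -- inversion
  have hinv : gu * xG * gu⁻¹ = xG⁻¹ := by
    have e1 : gu * hu1.unit * gu⁻¹ = hu2.unit := Units.ext (by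
      show g * (1 + N) * g = 1 - N
      rw [mul_add, mul_one, hbι.anti, add_mul, hbι.invol, neg_mul, mul_assoc, hbι.invol, mul_one, sub_eq_add_neg])
    have e2 : gu * hu2.unit * gu⁻¹ = hu1.unit := Units.ext (by
      show g * (1 - N) * g = 1 + N
      rw [mul_sub, mul_one, hbι.anti, sub_mul, hbι.invol, neg_mul, mul_assoc, hbι.invol, mul_one, sub_neg_eq_add])
    show gu * (hu1.unit * hu2.unit⁻¹) * gu⁻¹ = (hu1.unit * hu2.unit⁻¹)⁻¹
    rw [_root_.mul_inv_rev, inv_inv]
    calc gu * (hu1.unit * hu2.unit⁻¹) * gu⁻¹ = (gu * hu1.unit * gu⁻¹) * (gu * hu2.unit * gu⁻¹)⁻¹ := by group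
      _ = _ := by rw [e1, e2]
  -- `x - 1 = N u`
  set u : Matrix ι ι F := (2 : F) • ((hu2.unit⁻¹ : GL ι F) : Matrix ι ι F) with hu
  have hsub : (xG : Matrix ι ι F) - 1 = N * u := by
    have h1 : (1 - N) * ((hu2.unit⁻¹ : GL ι F) : Matrix ι ι F) = 1 := hu2.mul_val_inv
    calc (xG : Matrix ι ι F) - 1
        = (1 + N) * ((hu2.unit⁻¹ : GL ι F) : Matrix ι ι F) - (1 - N) * ((hu2.unit⁻¹ : GL ι F) : Matrix ι ι F) := by
          rw [h1]; rfl
      _ = N * u := by rw [hu, Matrix.mul_smul, two_smul]; noncomm_ring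
  have hcomm : Commute N u := by
    refine Commute.smul_right ?_ 2
    exact Commute.units_inv_right (u := hu2.unit) ((Commute.one_right N).sub_right (Commute.refl N))
  have huu : IsUnit u := by
    rw [hu]
    exact ((hu2.unit⁻¹).isUnit).smul (Units.mk0 (2 : F) h2)
  have hrank : ∀ k, (((t * xG * t⁻¹ : GL ι F) : Matrix ι ι F) - 1) ^ k =
      (t : Matrix ι ι F) * (N ^ k * u ^ k) * ((t⁻¹ : GL ι F) : Matrix ι ι F) := by
    intro k
    rw [← hcomm.mul_pow, ← hsub, show ((t * xG * t⁻¹ : GL ι F) : Matrix ι ι F) - 1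
      = (t : Matrix ι ι F) * ((xG : Matrix ι ι F) - 1) * ((t⁻¹ : GL ι F) : Matrix ι ι F) by
      rw [mul_sub, sub_mul, mul_one, Units.mul_inv, Units.val_mul, Units.val_mul]]
    exact Units.conj_pow t _ k
  have : Nonempty ι := Fintype.card_pos_iff.1 (by
    have := Multiset.le_sum_of_mem ha₀
    have := hodd.pos
    omega)
  have hXp : X ^ p = 1 := by
    refine Subtype.ext (Units.ext ?_)
    show (((t * xG * t⁻¹) ^ p : GL ι F) : Matrix ι ι F) = 1
    haveI : CharP (Matrix ι ι F) p := charP_of_injective_algebraMap' F p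
    have h0 := hrank p
    rw [hNp, zero_mul, mul_zero, zero_mul, sub_pow_char_of_commute p (Commute.one_right _), one_pow, sub_eq_zero] at h0
    rw [Units.val_pow_eq_pow_val]
    exact h0
  have hJX : J * X * J⁻¹ = X⁻¹ := by
    refine Subtype.ext ?_
    show (t * gu * t⁻¹) * (t * xG * t⁻¹) * (t * gu * t⁻¹)⁻¹ = (t * xG * t⁻¹)⁻¹
    calc (t * gu * t⁻¹) * (t * xG * t⁻¹) * (t * gu * t⁻¹)⁻¹ = t * (gu * xG * gu⁻¹) * t⁻¹ := by group
      _ = t * xG⁻¹ * t⁻¹ := by rw [hinv]
      _ = _ := by group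
  have hXsq : X ^ 2 ∈ Cfsg.Omega F Q := by
    have hc : ⁅J, X⁆ ∈ commutator (Cfsg.isometryGroup F Q) :=
      Subgroup.commutator_mem_commutator (Subgroup.mem_top J) (Subgroup.mem_top X)
    have : ⁅J, X⁆ = (X ^ 2)⁻¹ := by rw [commutatorElement_def, hJX, pow_two, _root_.mul_inv_rev]
    rw [this] at hc
    exact (Subgroup.inv_mem_iff _).1 hc
  have hX : X ∈ Cfsg.Omega F Q := by
    have hpodd : p % 2 = 1 := ((Fact.out : p.Prime).eq_two_or_odd).resolve_left hp
    have : (X ^ 2) ^ ((p + 1) / 2) = X := by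
      rw [← pow_mul, show 2 * ((p + 1) / 2) = p + 1 by omega, pow_succ, hXp, one_mul]
    exact this ▸ Subgroup.pow_mem _ hXsq _
  refine ⟨t * xG * t⁻¹, ⟨X, hX, rfl⟩, congrArg Subtype.val hXp, fun k => ?_⟩
  rw [imDim_top, ← Matrix.toLin'_pow, hrank]
  show ((t : Matrix ι ι F) * (N ^ k * u ^ k) * ((t⁻¹ : GL ι F) : Matrix ι ι F)).rank = _
  rw [Matrix.rank_mul_eq_left_of_isUnit_det _ _ ((Matrix.isUnit_iff_isUnit_det _).1 (Units.isUnit _)),
    Matrix.rank_mul_eq_right_of_isUnit_det _ _ ((Matrix.isUnit_iff_isUnit_det _).1 (Units.isUnit _)),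
    Matrix.rank_mul_eq_left_of_isUnit_det _ _ ((Matrix.isUnit_iff_isUnit_det _).1 (huu.pow k)), hrι]

/-! ### Invariant subspaces -/

/-- The partition on a non-degenerate invariant subspace: even parts have even multiplicity. -/
theorem exists_even_sub_partition {p : ℕ} [Fact p.Prime] [CharP F p] (hp : p ≠ 2)
    {Q : (ι → F) → F} (hQ : Cfsg.Geo.IsNondegenerateQuadraticForm Q)
    {x : GL ι F} (hx : x ∈ Cfsg.isometryGroup F Q) (hxp : x ^ p = 1)
    {μ : Multiset ℕ} (hμ : ∀ a ∈ μ, 0 < a)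
    (hprof : ∀ k, imDim (Matrix.toLin' ((x : Matrix ι ι F) - 1)) ⊤ k = partProfile μ k)
    {W : Submodule F (ι → F)} (hW : Cfsg.Geo.IsNondegenerateOn (QuadraticMap.polar Q) W)
    (hWx : W.map (Matrix.toLin' (x : Matrix ι ι F)) ≤ W) :
    ∃ ν : Multiset ℕ, ν ≤ μ ∧ ν.sum = finrank F ↥W ∧ (∀ e : ℕ, Even e → Even (ν.count e)) ∧
      ∀ k, partProfile ν k = imDim (Matrix.toLin' ((x : Matrix ι ι F) - 1)) W k := by
  classical
  have h2 : (2 : F) ≠ 0 := by
    intro h
    have : (p : ℕ) ∣ 2 := (CharP.cast_eq_zero_iff F p 2).1 (by exact_mod_cast h)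
    exact hp ((Nat.prime_dvd_prime_iff_eq Fact.out Nat.prime_two).1 this)
  set T : Module.End F (ι → F) := Matrix.toLin' (x : Matrix ι ι F) with hT
  set N : Module.End F (ι → F) := Matrix.toLin' ((x : Matrix ι ι F) - 1) with hN
  have hNT : N = T - 1 := by rw [hN, map_sub, Matrix.toLin'_one]; rfl
  have hTp : T ^ p = 1 := by
    rw [hT, ← Matrix.toLin'_pow, ← Units.val_pow_eq_pow_val, hxp, Units.val_one, Matrix.toLin'_one]
    rfl
  set B : LinearMap.BilinForm F (ι → F) := (qf hQ).polarBilin with hB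
  have hBQ : ∀ u v, B u v = QuadraticMap.polar Q u v := fun u v => rfl
  have hBsymm : ∀ u v, B u v = B v u := fun u v => by rw [hBQ, hBQ, QuadraticMap.polar_comm]
  have hBT : ∀ u v, B (T u) (T v) = B u v := fun u v => by
    have hQx : ∀ w, Q ((x : Matrix ι ι F) *ᵥ w) = Q w := fun w => hx w w
    simp only [hBQ, QuadraticMap.polar, hT, Matrix.toLin'_apply, ← Matrix.mulVec_add, hQx]
  have hp1 : p - 1 + 1 = p := Nat.sub_add_cancel (Fact.out : p.Prime).pos
  set S : Module.End F (ι → F) := T ^ (p - 1) with hS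
  have hTS : ∀ u, T (S u) = u := fun u => by
    rw [hS, ← Module.End.mul_apply, ← pow_succ', hp1, hTp, Module.End.one_apply]
  have hBS : ∀ u v, B (S u) v = B u (T v) := fun u v => by rw [← hBT, hTS]
  -- invariance
  have hWN : W.map N ≤ W := by
    rintro _ ⟨v, hv, rfl⟩
    rw [hNT, LinearMap.sub_apply, Module.End.one_apply]
    exact W.sub_mem (hWx (Submodule.mem_map_of_mem hv)) hv
  have hWpow : ∀ (i : ℕ) (v : ι → F), v ∈ W → (T ^ i) v ∈ W := fun i v hv =>
    map_pow_le T hWx i (Submodule.mem_map_of_mem hv)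
  -- complement
  have hWc : IsCompl W (B.orthogonal W) := by
    have hrefl : B.IsRefl := fun u v h => by rwa [hBsymm]
    refine (LinearMap.BilinForm.isCompl_orthogonal_iff_disjoint hrefl).2 (Submodule.disjoint_def.2 fun v hv hv' => ?_)
    by_contra h
    obtain ⟨⟨y, hy, hy'⟩, -⟩ := hW v hv h
    exact hy' (hv' y hy)
  have hOT : ∀ v ∈ B.orthogonal W, T v ∈ B.orthogonal W := by
    intro v hv w hw
    show B w (T v) = 0
    rw [← hBS]
    exact hv _ (hWpow (p - 1) w hw)
  have hON : (B.orthogonal W).map N ≤ B.orthogonal W := by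
    rintro _ ⟨v, hv, rfl⟩
    rw [hNT, LinearMap.sub_apply, Module.End.one_apply]
    exact Submodule.sub_mem _ (hOT v hv) hv
  obtain ⟨ν, ν', hμν, hν, -⟩ := exists_sub_partition N hμ hprof hWN hON hWc
  refine ⟨ν, hμν ▸ Multiset.le_add_right _ _, by rw [← partProfile_zero, hν, imDim_zero], ?_, hν⟩
  -- skew map
  set K : Module.End F (ι → F) := T - S with hK
  have hKskew : ∀ u v, B (K u) v = -B u (K v) := fun u v => by
    rw [hK, LinearMap.sub_apply, LinearMap.sub_apply, map_sub, LinearMap.sub_apply, hBS, map_sub,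
      show B u (S v) = B (T u) v by rw [hBsymm u, hBS, hBsymm v]]
    ring
  have hKpow : ∀ (i : ℕ) u v, B ((K ^ i) u) v = (-1) ^ i * B u ((K ^ i) v) := by
    intro i
    induction i with
    | zero => intro u v; simp
    | succ i ih =>
      intro u v
      rw [pow_succ' K, Module.End.mul_apply, hKskew, ih, ← Module.End.mul_apply, ← pow_succ K, ← pow_succ' K,
        pow_succ]
      ring
  set U : Module.End F (ι → F) := 1 + S with hU
  have hKNU : K = N * U := by
    rw [hK, hNT, hU, mul_add, mul_one, sub_mul, one_mul, hS, ← pow_succ', hp1, hTp]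
    abel
  have hUN : Commute N U := by
    rw [hNT, hU, hS]
    exact (Commute.one_right _).add_right ((Commute.self_pow T (p - 1)).sub_left (Commute.one_left _))
  have hUinj : Function.Injective U := by
    refine (injective_iff_map_eq_zero U).2 fun w hw => ?_
    rw [hU, LinearMap.add_apply, Module.End.one_apply] at hw
    have hw' : T w = -w := by
      have := congrArg T hw
      rw [map_add, map_zero, hTS] at this
      exact eq_neg_of_add_eq_zero_left this
    have hi : ∀ i : ℕ, (T ^ i) w = (-1 : F) ^ i • w := by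
      intro i
      induction i with
      | zero => simp
      | succ i ih => rw [pow_succ' T, Module.End.mul_apply, ih, map_smul, hw', pow_succ, mul_smul, neg_one_smul]
    have := hi p
    rw [hTp, Module.End.one_apply, ((Fact.out : p.Prime).odd_of_ne_two hp).neg_one_pow, neg_one_smul,
      eq_neg_iff_add_eq_zero, ← two_smul F, smul_eq_zero] at this
    exact this.resolve_left h2
  have hWU : ∀ k, W.map (U ^ k) = W := by
    intro k
    have hle : W.map (U ^ k) ≤ W := map_pow_le U (by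
      rintro _ ⟨v, hv, rfl⟩
      rw [hU, LinearMap.add_apply, Module.End.one_apply]
      exact W.add_mem hv (hWpow _ v hv)) k
    refine Submodule.eq_of_le_of_finrank_le hle (le_of_eq ?_)
    refine (LinearMap.finrank_range_of_inj (f := (U ^ k).domRestrict W) ?_).symm.trans ?_
    · intro a b h
      refine Subtype.ext (hUinj.iterate k ?_)
      rw [← Module.End.coe_pow]
      exact h
    · rw [LinearMap.range_domRestrict]
  have hNK : ∀ k, imDim N W k = finrank F ↥(W.map (K ^ k)) := by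
    intro k
    rw [imDim, hKNU, hUN.mul_pow, Module.End.mul_eq_comp, Submodule.map_comp, hWU]
  have heven : ∀ k, Odd k → Even (imDim N W k) := by
    intro k hk
    rw [hNK]
    let b := Module.finBasis F W
    let L : (Fin (finrank F W) → F) →ₗ[F] (ι → F) := (K ^ k) ∘ₗ W.subtype ∘ₗ b.equivFun.symm.toLinearMap
    let A : Matrix (Fin (finrank F W)) (Fin (finrank F W)) F :=
      Matrix.of fun i j => B (b i : ι → F) ((K ^ k) (b j : ι → F))
    have hA : ∀ c, A *ᵥ c = fun i => B (b i : ι → F) (L c) := by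
      intro c
      funext i
      simp [A, L, Matrix.mulVec, dotProduct, Module.Basis.equivFun_symm_apply, map_sum, mul_comm]
    have hAalt : ∀ c, c ⬝ᵥ (A *ᵥ c) = 0 := by
      intro c
      rw [hA]
      have hw : c ⬝ᵥ (fun i => B (b i : ι → F) (L c)) = B ((b.equivFun.symm c : W) : ι → F) (L c) := by
        simp [dotProduct, Module.Basis.equivFun_symm_apply, map_sum]
      rw [hw]
      set w : ι → F := ((b.equivFun.symm c : W) : ι → F)
      show B w ((K ^ k) w) = 0
      have h := hKpow k w w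
      rw [hk.neg_one_pow, neg_one_mul, hBsymm, eq_neg_iff_add_eq_zero, ← two_mul] at h
      exact (mul_eq_zero.1 h).resolve_left h2
    have hker : LinearMap.ker A.mulVecLin = LinearMap.ker L := by
      ext c
      simp only [LinearMap.mem_ker, Matrix.mulVecLin_apply, hA]
      refine ⟨fun h => ?_, fun h => funext fun i => by simp [h]⟩
      have hmem : L c ∈ W := by
        show (K ^ k) _ ∈ W
        refine map_pow_le K ?_ k (Submodule.mem_map_of_mem (b.equivFun.symm c).2)
        rintro _ ⟨v, hv, rfl⟩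
        rw [hK, LinearMap.sub_apply]
        exact W.sub_mem (hWx (Submodule.mem_map_of_mem hv)) (hWpow _ v hv)
      by_contra h0
      obtain ⟨⟨y, hy, hy'⟩, -⟩ := hW _ hmem h0
      apply hy'
      have hz : B.flip (L c) ∘ₗ W.subtype = 0 := b.ext fun i => congrFun h i
      exact LinearMap.congr_fun hz ⟨y, hy⟩
    have h1 := LinearMap.finrank_range_add_finrank_ker A.mulVecLin
    have h3 := LinearMap.finrank_range_add_finrank_ker L
    have hLr : LinearMap.range L = W.map (K ^ k) := by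
      show LinearMap.range ((K ^ k) ∘ₗ W.subtype ∘ₗ b.equivFun.symm.toLinearMap) = _
      rw [LinearMap.range_comp, LinearMap.range_comp_of_range_eq_top _ b.equivFun.symm.range, Submodule.range_subtype]
    rw [hker, ← h3] at h1
    have := Nat.add_right_cancel h1
    rw [← hLr, ← this]
    exact Cfsg.Agent.KsAltRank.even_rank A hAalt
  intro e he
  rcases Nat.eq_zero_or_pos e with rfl | hpos
  · rw [Multiset.count_eq_zero_of_notMem]
    · exact Even.zero
    · exact fun h => (hμ 0 (Multiset.mem_of_le (hμν ▸ Multiset.le_add_right _ _) h)).false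
  obtain ⟨s, rfl⟩ : ∃ s, e = s + 1 := ⟨e - 1, by omega⟩
  have hso : Odd s := Nat.even_add_one.1 he |> Nat.not_even_iff_odd.1
  have hc := count_partProfile ν s
  rw [hν, hν, hν] at hc
  have he1 := heven s hso
  have he2 := heven (s + 2) (hso.add_even even_two)
  rw [Nat.even_iff] at he1 he2 ⊢
  omega

/-- The space is of plus type when the image of the skew part is totally singular of half the dimension. -/
theorem isPlusTypeOn_of_square_zero {p : ℕ} [Fact p.Prime] [CharP F p] (hp : p ≠ 2)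
    {Q : (ι → F) → F} (hQ : Cfsg.Geo.IsNondegenerateQuadraticForm Q)
    {x : GL ι F} (hx : x ∈ Cfsg.isometryGroup F Q)
    {W : Submodule F (ι → F)} (hWx : W.map (Matrix.toLin' (x : Matrix ι ι F)) ≤ W)
    (h2z : imDim (Matrix.toLin' ((x : Matrix ι ι F) - 1)) W 2 = 0)
    (hhalf : 2 * imDim (Matrix.toLin' ((x : Matrix ι ι F) - 1)) W 1 = finrank F ↥W) :
    Cfsg.Geo.IsPlusTypeOn Q W := by
  have h2 : (2 : F) ≠ 0 := by
    intro h
    have : (p : ℕ) ∣ 2 := (CharP.cast_eq_zero_iff F p 2).1 (by exact_mod_cast h)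
    exact hp ((Nat.prime_dvd_prime_iff_eq Fact.out Nat.prime_two).1 this)
  refine ⟨W.map (Matrix.toLin' ((x : Matrix ι ι F) - 1)), ?_, ?_, ?_⟩
  · rintro _ ⟨v, hv, rfl⟩
    rw [map_sub, Matrix.toLin'_one, LinearMap.sub_apply, LinearMap.id_apply]
    exact W.sub_mem (hWx (Submodule.mem_map_of_mem hv)) hv
  · rintro _ ⟨v, hv, rfl⟩
    set N : Module.End F (ι → F) := Matrix.toLin' ((x : Matrix ι ι F) - 1) with hN
    have hNN : N (N v) = 0 := by
      have h0 : W.map (N ^ 2) = ⊥ := Submodule.finrank_eq_zero.1 h2z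
      have : (N ^ 2) v ∈ W.map (N ^ 2) := Submodule.mem_map_of_mem hv
      rwa [h0, Submodule.mem_bot, pow_two, Module.End.mul_apply] at this
    have hB : ∀ a b, Q (a + b) = Q a + Q b + QuadraticMap.polar Q a b := fun a b => by
      simp [QuadraticMap.polar]
    have hxe : ∀ w, (x : Matrix ι ι F) *ᵥ w = N w + w := fun w => by
      rw [hN, Matrix.toLin'_apply, Matrix.sub_mulVec, Matrix.one_mulVec, sub_add_cancel]
    have hP : ∀ a b, QuadraticMap.polar Q (N a + a) (N b + b) = QuadraticMap.polar Q a b := fun a b => by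
      rw [← hxe, ← hxe]
      simp only [QuadraticMap.polar, ← Matrix.mulVec_add]
      rw [show ∀ w, Q ((x : Matrix ι ι F) *ᵥ w) = Q w from fun w => hx w w,
        show ∀ w, Q ((x : Matrix ι ι F) *ᵥ w) = Q w from fun w => hx w w,
        show ∀ w, Q ((x : Matrix ι ι F) *ᵥ w) = Q w from fun w => hx w w]
    have hq1 := hP v (N v)
    rw [hNN, zero_add, hQ.polar_bilinear.add_left, add_eq_right] at hq1
    have hself : QuadraticMap.polar Q (N v) (N v) = 2 * Q (N v) := by
      have : N v + N v = (2 : F) • N v := (two_smul F (N v)).symm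
      simp only [QuadraticMap.polar, this, hQ.smul]
      ring
    rw [hself] at hq1
    exact (mul_eq_zero.1 hq1).resolve_left h2
  · rw [← hhalf, imDim, pow_one]

end CfsgLib.OrthUnipotent
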