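import Mathlib

/-!
Linear maps of prime order `r` over a field with `q` elements, `r` prime to `q`.
-/

set_option autoImplicit false

namespace CfsgLib.OrderR

open Module

variable {F V : Type*} [Field F] [AddCommGroup V] [Module F V]

lemma cast_ne_zero {p r : ℕ} [CharP F p] [Fact p.Prime] [Fact r.Prime] (h : r ≠ p) : (r : F) ≠ 0 := by
  rw [Ne, CharP.cast_eq_zero_iff F p]
  exact fun hd => h ((Nat.prime_dvd_prime_iff_eq Fact.out Fact.out).1 hd).symm

lemma natCast_ne_zero_of_card [Fintype F] {p q r : ℕ} [CharP F p] [Fact p.Prime] [Fact r.Prime]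
    (hq : Fintype.card F = q) (h : r ≠ p) : (q : ZMod r) ≠ 0 := by
  obtain ⟨n, -, hn⟩ := FiniteField.card F p
  rw [← hq, hn, Nat.cast_pow]
  refine pow_ne_zero _ fun h0 => h ?_
  exact ((Nat.prime_dvd_prime_iff_eq Fact.out Fact.out).1 ((ZMod.natCast_eq_zero_iff p r).1 h0))

lemma orderOf_dvd_iff {q r m : ℕ} [Fact r.Prime] (hq : 1 ≤ q) :
    orderOf (q : ZMod r) ∣ m ↔ r ∣ q ^ m - 1 := by
  rw [orderOf_dvd_iff_pow_eq_one, ← ZMod.natCast_eq_zero_iff, Nat.cast_sub (Nat.one_le_pow _ _ hq),
    Nat.cast_pow, Nat.cast_one, sub_eq_zero]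

/-- The fixed space and the moving space of a map of order prime to the characteristic are disjoint. -/
lemma disjoint_fix_move (T : Module.End F V) {r : ℕ} (hT : T ^ r = 1) (hr : (r : F) ≠ 0) :
    Disjoint (LinearMap.ker (T - 1)) (LinearMap.range (T - 1)) := by
  rw [Submodule.disjoint_def]
  rintro v hv ⟨w, rfl⟩
  set v := (T - 1) w with hvd
  have hTv : T v = v := by simpa [sub_eq_zero] using hv
  have hTw : T w = w + v := by rw [hvd]; simp
  have h : ∀ n : ℕ, (T ^ n) w = w + (n : F) • v := by
    intro n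
    induction n with
    | zero => simp
    | succ n ih =>
      rw [pow_succ', Module.End.mul_apply, ih, map_add, map_smul, hTw, hTv, Nat.cast_succ, add_smul, one_smul]
      abel
  have := h r
  rw [hT, Module.End.one_apply, left_eq_add] at this
  exact (smul_eq_zero.1 this).resolve_left hr

lemma isCompl_fix_move [FiniteDimensional F V] (T : Module.End F V) {r : ℕ} (hT : T ^ r = 1) (hr : (r : F) ≠ 0) :
    IsCompl (LinearMap.ker (T - 1)) (LinearMap.range (T - 1)) := by
  refine ⟨disjoint_fix_move T hT hr, codisjoint_iff.2 (Submodule.eq_top_of_finrank_eq ?_)⟩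
  have h := Submodule.finrank_sup_add_finrank_inf_eq (LinearMap.ker (T - 1)) (LinearMap.range (T - 1))
  rw [(disjoint_fix_move T hT hr).eq_bot, finrank_bot] at h
  have h2 := LinearMap.finrank_range_add_finrank_ker (T - 1)
  omega

/-- An invariant subspace with no non-zero fixed vector has dimension a multiple of the order of `q` modulo `r`. -/
theorem orderOf_dvd_finrank [Fintype F] [FiniteDimensional F V] (T : Module.End F V) {r q : ℕ} [Fact r.Prime]
    (hq : Fintype.card F = q) (hT : T ^ r = 1) (X : Submodule F V) (hX : X.map T ≤ X)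
    (hfix : ∀ v ∈ X, T v = v → v = 0) : orderOf (q : ZMod r) ∣ finrank F ↥X := by
  classical
  have : Finite V := Module.finite_of_finite F
  have hr1 : 1 ≤ r := (Fact.out : r.Prime).one_lt.le
  have hTX : ∀ v ∈ X, T v ∈ X := fun v hv => hX (Submodule.mem_map_of_mem hv)
  have hpow : ∀ (n : ℕ) (v : V), v ∈ X → (T ^ n) v ∈ X := by
    intro n
    induction n with
    | zero => intro v hv; simpa using hv
    | succ n ih => intro v hv; rw [pow_succ', Module.End.mul_apply]; exact hTX _ (ih v hv)
  let e : Equiv.Perm X :=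
    { toFun := fun v => ⟨T v, hTX v v.2⟩
      invFun := fun v => ⟨(T ^ (r - 1)) v, hpow _ v v.2⟩
      left_inv := fun v => Subtype.ext (by
        show (T ^ (r - 1)) (T v) = v
        rw [← Module.End.mul_apply, ← pow_succ, Nat.sub_add_cancel hr1, hT, Module.End.one_apply])
      right_inv := fun v => Subtype.ext (by
        show T ((T ^ (r - 1)) v) = v
        rw [← Module.End.mul_apply, ← pow_succ', Nat.sub_add_cancel hr1, hT, Module.End.one_apply]) }
  have he : ∀ (n : ℕ) (v : X), (((e ^ n) v : X) : V) = (T ^ n) v := by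
    intro n
    induction n with
    | zero => intro v; simp
    | succ n ih =>
      intro v
      rw [pow_succ', Equiv.Perm.mul_apply, pow_succ', Module.End.mul_apply, ← ih v]
      rfl
  have her : e ^ r = 1 := Equiv.ext fun v => Subtype.ext (by rw [he, hT]; simp)
  have hG : IsPGroup r (Subgroup.zpowers e) := by
    obtain ⟨k, -, hk⟩ := (Nat.dvd_prime_pow (Fact.out : r.Prime)).1
      (show orderOf e ∣ r ^ 1 by rw [pow_one]; exact orderOf_dvd_of_pow_eq_one her)
    exact IsPGroup.of_card (n := k) (by rw [Nat.card_zpowers, hk])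
  have hfix' : MulAction.fixedPoints (Subgroup.zpowers e) X = {0} := by
    refine Set.eq_singleton_iff_unique_mem.2 ⟨fun g => ?_, fun v hv => ?_⟩
    · obtain ⟨_, n, rfl⟩ := g
      show (e ^ n) 0 = 0
      exact Equiv.Perm.zpow_apply_eq_self_of_apply_eq_self (Subtype.ext (map_zero T)) n
    · have h := hv ⟨e, Subgroup.mem_zpowers e⟩
      exact Subtype.ext (hfix v v.2 (congrArg Subtype.val h))
  have hmod := hG.card_modEq_card_fixedPoints X
  have h1 : Nat.card ({0} : Set X) = 1 := by simp
  rw [hfix', h1, Module.natCard_eq_pow_finrank (K := F) (V := X), Nat.card_eq_fintype_card, hq] at hmod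
  rw [orderOf_dvd_iff (by rw [← hq]; exact Fintype.card_pos)]
  exact (Nat.modEq_iff_dvd' (Nat.one_le_pow _ _ (by rw [← hq]; exact Fintype.card_pos))).1 hmod.symm

end CfsgLib.OrderR
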