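import Cfsg.Agent.Lib.Maximal99.OrderElt

/-!
Linear maps of prime order `r` prime to `q`: cyclic bases and witnesses with prescribed moving space.
-/

set_option autoImplicit false

namespace CfsgLib.SemiR

open Module Polynomial

variable {F : Type*} [Field F] [Fintype F]

/-- The irreducible factors of `X ^ r - 1` other than `X - 1` have degree the order of `q` modulo `r`. -/
theorem natDegree_eq {r q c : ℕ} [Fact r.Prime] (hq : Fintype.card F = q) (hc : c = orderOf (q : ZMod r)) (hc0 : 0 < c)
    {g : F[X]} (hm : g.Monic) (hg : Irreducible g) (hdvd : g ∣ X ^ r - 1) (hne : g ≠ X - C 1) : g.natDegree = c := by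
  classical
  have : Fact (Irreducible g) := ⟨hg⟩
  let pb := AdjoinRoot.powerBasis hg.ne_zero
  have : Module.Finite F (AdjoinRoot g) := pb.finite
  have : Finite (AdjoinRoot g) := Module.finite_of_finite F
  have : Fintype (AdjoinRoot g) := Fintype.ofFinite _
  have hcard : Fintype.card (AdjoinRoot g) = q ^ g.natDegree := by
    rw [Module.card_eq_pow_finrank (K := F), pb.finrank, AdjoinRoot.powerBasis_dim, hq]
  have hq1 : 1 < q := by rw [← hq]; exact Fintype.one_lt_card
  set ζ := AdjoinRoot.root g with hζ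
  have hζr : ζ ^ r = 1 := by
    have h := AdjoinRoot.mk_eq_zero.2 hdvd
    simp only [map_sub, map_pow, AdjoinRoot.mk_X, map_one] at h
    exact sub_eq_zero.1 h
  have hζ1 : ζ ≠ 1 := by
    intro h
    have hd : g ∣ X - C 1 := by
      rw [← AdjoinRoot.mk_eq_zero, map_sub, AdjoinRoot.mk_X, AdjoinRoot.mk_C, map_one, ← hζ, h, sub_self]
    exact hne (eq_of_monic_of_associated hm (monic_X_sub_C 1) (hg.associated_of_dvd (irreducible_X_sub_C 1) hd))
  have hord : orderOf ζ = r := orderOf_eq_prime hζr hζ1
  have hζ0 : ζ ≠ 0 := fun h => by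
    rw [h, zero_pow (Fact.out : r.Prime).ne_zero] at hζr; exact zero_ne_one hζr
  refine le_antisymm ?_ ?_
  · -- the whole field is fixed by the `c`-th power of Frobenius
    have hfix : ζ ^ q ^ c = ζ := by
      obtain ⟨k, hk⟩ := (CfsgLib.OrderR.orderOf_dvd_iff (r := r) hq1.le).1 (dvd_of_eq hc.symm)
      rw [show q ^ c = r * k + 1 by have := Nat.one_le_pow c q (by omega); omega, pow_succ, pow_mul, hζr, one_pow, one_mul]
    obtain ⟨p, hp⟩ := CharP.exists F
    have : Fact p.Prime := ⟨CharP.char_is_prime F p⟩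
    have : CharP (AdjoinRoot g) p := charP_of_injective_algebraMap (algebraMap F (AdjoinRoot g)).injective p
    obtain ⟨f, -, hf⟩ := FiniteField.card F p
    rw [hq] at hf
    have hall : ∀ x : AdjoinRoot g, x ^ q ^ c = x := by
      intro x
      induction x using AdjoinRoot.induction_on with
      | ih P =>
        induction P using Polynomial.induction_on' with
        | add a b ha hb =>
          rw [map_add, hf, ← pow_mul, add_pow_char_pow, pow_mul, ← hf, ha, hb]
        | monomial m a =>
          rw [← C_mul_X_pow_eq_monomial, map_mul, map_pow, AdjoinRoot.mk_X, AdjoinRoot.mk_C, ← hζ, mul_pow, ← pow_mul,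
            mul_comm m, pow_mul, hfix]
          congr 1
          have ha : ∀ j : ℕ, a ^ q ^ j = a := fun j => by
            induction j with
            | zero => simp
            | succ j ih => rw [pow_succ, pow_mul, ih, ← hq, FiniteField.pow_card]
          rw [← map_pow, ha]
    have hle : Fintype.card (AdjoinRoot g) ≤ q ^ c := by
      have h1 : 1 < q ^ c := Nat.one_lt_pow (by omega) hq1
      refine le_trans ?_ (le_of_eq (FiniteField.X_pow_card_sub_X_natDegree_eq (AdjoinRoot g) h1))
      exact Polynomial.card_le_degree_of_subset_roots (p := X ^ q ^ c - X) (Z := Finset.univ) fun x _ => by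
        rw [mem_roots (FiniteField.X_pow_card_sub_X_ne_zero _ h1)]
        simp [IsRoot, hall x]
    rw [hcard] at hle
    exact (Nat.pow_le_pow_iff_right hq1).1 hle
  · have h1 : r ∣ Fintype.card (AdjoinRoot g) - 1 := by
      rw [← hord]
      exact orderOf_dvd_of_pow_eq_one (FiniteField.pow_card_sub_one_eq_one _ hζ0)
    rw [hcard] at h1
    have h2 : orderOf (q : ZMod r) ∣ g.natDegree := (CfsgLib.OrderR.orderOf_dvd_iff hq1.le).2 h1
    rw [← hc] at h2
    exact Nat.le_of_dvd hg.natDegree_pos h2

variable {V : Type*} [AddCommGroup V] [Module F V] [FiniteDimensional F V]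

omit [Fintype F] [FiniteDimensional F V] in
lemma aeval_mem {T : Module.End F V} {S : Submodule F V} (hS : ∀ x ∈ S, T x ∈ S) (p : F[X]) {x : V} (hx : x ∈ S) :
    aeval T p x ∈ S := by
  induction p using Polynomial.induction_on' with
  | add a b ha hb => rw [map_add, LinearMap.add_apply]; exact S.add_mem ha hb
  | monomial m a =>
    rw [aeval_monomial, Module.End.mul_apply, Module.algebraMap_end_apply]
    refine S.smul_mem _ ?_
    induction m with
    | zero => simpa using hx
    | succ m ih => rw [pow_succ', Module.End.mul_apply]; exact hS _ ih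

set_option maxHeartbeats 1000000 in
/-- Fixed vectors and cyclic pieces of dimension `c`. -/
theorem exists_cyclic_basis {r q c : ℕ} [Fact r.Prime] (hq : Fintype.card F = q) (hc : c = orderOf (q : ZMod r))
    (hc0 : 0 < c) (hr0 : (r : F) ≠ 0) (T : Module.End F V) (hT : T ^ r = 1) :
    ∃ (e k : ℕ) (b : Basis ((Fin e × Fin c) ⊕ Fin k) F V) (v : Fin e → V) (g : Fin e → F[X]),
      (∀ i j, b (.inl (i, j)) = (T ^ (j : ℕ)) (v i)) ∧ (∀ l, T (b (.inr l)) = b (.inr l)) ∧
      (∀ i, (g i).Monic ∧ Irreducible (g i) ∧ (g i).natDegree = c ∧ g i ∣ X ^ r - 1 ∧ aeval T (g i) (v i) = 0) ∧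
      (∀ i j, T (b (.inl (i, j))) ∈ Submodule.span F (Set.range fun j' => b (.inl (i, j')))) ∧
      (∀ i, ∑ j ∈ Finset.range r, (T ^ j) (v i) = 0) ∧
      finrank F ↥(LinearMap.range (T - 1)) = e * c ∧ finrank F ↥(LinearMap.ker (T - 1)) = k := by
  classical
  obtain ⟨k, hk⟩ : ∃ k, finrank F ↥(LinearMap.ker (T - 1)) = k := ⟨_, rfl⟩
  obtain ⟨bK⟩ : Nonempty (Basis (Fin k) F ↥(LinearMap.ker (T - 1))) := ⟨Module.finBasisOfFinrankEq F _ hk⟩
  let u : Fin k → V := fun l => (bK l : V)
  have hu : ∀ l, T (u l) = u l := fun l => by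
    have := (bK l).2
    rw [LinearMap.mem_ker, LinearMap.sub_apply, Module.End.one_apply, sub_eq_zero] at this
    exact this
  have huker : Submodule.span F (Set.range u) = LinearMap.ker (T - 1) := by
    rw [show Set.range u = (LinearMap.ker (T - 1)).subtype '' Set.range bK by
      rw [← Set.range_comp]; rfl, Submodule.span_image, Basis.span_eq, Submodule.map_subtype_top]
  let fam : ∀ e : ℕ, (Fin e → V) → (Fin e × Fin c) ⊕ Fin k → V := fun e v =>
    Sum.elim (fun p => (T ^ (p.2 : ℕ)) (v p.1)) u
  let Good : ∀ e : ℕ, (Fin e → V) → (Fin e → F[X]) → Prop := fun e v g =>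
    LinearIndependent F (fam e v) ∧
    (∀ i, (g i).Monic ∧ Irreducible (g i) ∧ (g i).natDegree = c ∧ g i ∣ X ^ r - 1 ∧ aeval T (g i) (v i) = 0) ∧
    (∀ i, ∑ j ∈ Finset.range r, (T ^ j) (v i) = 0)
  have hpiece : ∀ (w : V) (g : F[X]), g.Monic → g.natDegree = c → aeval T g w = 0 → ∀ j : Fin c,
      T ((T ^ (j : ℕ)) w) ∈ Submodule.span F (Set.range fun j' : Fin c => (T ^ (j' : ℕ)) w) := by
    intro w g hgm hgc hgw j
    rw [← Module.End.mul_apply, ← pow_succ']
    by_cases hj : (j : ℕ) + 1 < c
    · exact Submodule.subset_span ⟨⟨_, hj⟩, rfl⟩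
    · rw [show (j : ℕ) + 1 = c by omega]
      have h := hgw
      rw [aeval_eq_sum_range, Finset.sum_range_succ, LinearMap.add_apply, hgm.coeff_natDegree, one_smul,
        LinearMap.sum_apply, hgc, add_eq_zero_iff_eq_neg'] at h
      rw [h]
      refine Submodule.neg_mem _ (Submodule.sum_mem _ fun m hm => ?_)
      exact Submodule.smul_mem _ _ (Submodule.subset_span ⟨⟨m, Finset.mem_range.1 hm⟩, rfl⟩)
  have step : ∀ e v g, Good e v g → Submodule.span F (Set.range (fam e v)) = ⊤ ∨
      ∃ v' g', Good (e + 1) v' g' := by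
    rintro e v g ⟨hli, hg, hsum⟩
    refine or_iff_not_imp_left.2 fun hne => ?_
    set S := Submodule.span F (Set.range (fam e v)) with hS
    have hTS : ∀ x ∈ S, T x ∈ S := by
      intro x hx
      refine (Submodule.span_le.2 ?_ : S ≤ S.comap T) hx
      rintro _ ⟨⟨i, j⟩ | l, rfl⟩
      · show T ((T ^ (j : ℕ)) (v i)) ∈ S
        refine Submodule.span_mono ?_ (hpiece (v i) (g i) (hg i).1 (hg i).2.2.1 (hg i).2.2.2.2 j)
        rintro _ ⟨j', rfl⟩
        exact ⟨.inl (i, j'), rfl⟩
      · show T (u l) ∈ S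
        rw [hu]
        exact Submodule.subset_span ⟨.inr l, rfl⟩
    obtain ⟨x, hx⟩ : ∃ x, x ∉ S := by
      by_contra h
      push Not at h
      exact hne (Submodule.eq_top_iff'.2 h)
    let I : Ideal F[X] :=
      { carrier := {p | aeval T p x ∈ S}
        add_mem' := fun {a b} ha hb => by
          simp only [Set.mem_setOf_eq, map_add, LinearMap.add_apply] at ha hb ⊢
          exact S.add_mem ha hb
        zero_mem' := by simp
        smul_mem' := fun a b hb => by
          simp only [Set.mem_setOf_eq, smul_eq_mul, map_mul, Module.End.mul_apply] at hb ⊢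
          exact aeval_mem hTS a hb }
    have hxr : (X ^ r - 1 : F[X]) ∈ I := by
      show aeval T (X ^ r - 1 : F[X]) x ∈ S
      rw [map_sub, map_pow, aeval_X, map_one, hT, sub_self, LinearMap.zero_apply]
      exact S.zero_mem
    obtain ⟨μ, hμ⟩ := (IsPrincipalIdealRing.principal I).principal
    have hμr : μ ∣ X ^ r - 1 := by rw [hμ] at hxr; exact Ideal.mem_span_singleton.1 hxr
    have hμ1 : ¬ IsUnit μ := by
      intro hu'
      have h1 : (1 : F[X]) ∈ I := by rw [hμ]; exact Ideal.mem_span_singleton.2 hu'.dvd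
      exact hx (by simpa [I] using h1)
    obtain ⟨g₀, hg0m, hg0i, m, rfl⟩ := exists_monic_irreducible_factor μ hμ1
    set y := aeval T m x with hy
    have hgy : aeval T g₀ y ∈ S := by
      have : g₀ * m ∈ I := by rw [hμ]; exact Ideal.mem_span_singleton_self _
      simpa [I, hy] using this
    have hyS : y ∉ S := by
      intro h
      have : m ∈ I := h
      rw [hμ] at this
      have hd := Ideal.mem_span_singleton.1 this
      have hm0 : m ≠ 0 := by
        rintro rfl
        rw [mul_zero, zero_dvd_iff] at hμr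
        exact X_pow_sub_C_ne_zero (Fact.out : r.Prime).pos (1 : F) (by simpa using hμr)
      exact hg0i.not_isUnit (isUnit_of_dvd_one ((mul_dvd_mul_iff_right hm0).1 (by simpa using hd)))
    obtain ⟨h, hh⟩ : g₀ ∣ X ^ r - 1 := (dvd_mul_right g₀ m).trans hμr
    have hsep : (g₀ * h).Separable := hh ▸ X_pow_sub_one_separable_iff.2 hr0
    obtain ⟨a, b, hab⟩ := hsep.isCoprime
    set y' := aeval T (b * h) y with hy'
    have hgy' : aeval T g₀ y' = 0 := by
      rw [hy', ← Module.End.mul_apply, ← map_mul, show g₀ * (b * h) = b * (g₀ * h) by ring, ← hh, map_mul, map_sub,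
        map_pow, aeval_X, map_one, hT, sub_self, mul_zero, LinearMap.zero_apply]
    have hy'S : y' ∉ S := by
      intro h'
      apply hyS
      have : y = aeval T (a * g₀) y + y' := by
        rw [hy', ← LinearMap.add_apply, ← map_add, hab, map_one, Module.End.one_apply]
      rw [this, map_mul, Module.End.mul_apply]
      exact S.add_mem (aeval_mem hTS a hgy) h'
    have hker : LinearMap.ker (T - 1) ≤ S := by
      rw [← huker, Submodule.span_le]
      rintro _ ⟨l, rfl⟩
      exact Submodule.subset_span ⟨.inr l, rfl⟩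
    have hg1 : g₀ ≠ X - C 1 := by
      intro he
      refine hy'S (hker ?_)
      rw [he, map_sub, aeval_X, aeval_C, map_one] at hgy'
      exact hgy'
    have hdeg : g₀.natDegree = c := natDegree_eq hq hc hc0 hg0m hg0i ⟨h, hh⟩ hg1
    have key : ∀ p : F[X], p.natDegree < c → aeval T p y' ∈ S → p = 0 := by
      intro p hp hpS
      by_contra hp0
      have hco : IsCoprime g₀ p := (hg0i.coprime_iff_not_dvd).2 fun hd => by
        have := natDegree_le_of_dvd hd hp0
        omega
      obtain ⟨a', b', hab'⟩ := hco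
      apply hy'S
      have : y' = aeval T (a' * g₀) y' + aeval T (b' * p) y' := by
        rw [← LinearMap.add_apply, ← map_add, hab', map_one, Module.End.one_apply]
      rw [this, map_mul, map_mul, Module.End.mul_apply, Module.End.mul_apply, hgy', map_zero, zero_add]
      exact aeval_mem hTS b' hpS
    refine ⟨Fin.cons y' v, Fin.cons g₀ g, ?_, ?_, ?_⟩
    · rw [Fintype.linearIndependent_iff]
      intro co hco
      simp only [fam, Fintype.sum_sum_type, Fintype.sum_prod_type, Sum.elim_inl, Sum.elim_inr, Fin.sum_univ_succ,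
        Fin.cons_zero, Fin.cons_succ] at hco
      set rest := (∑ i : Fin e, ∑ j : Fin c, co (.inl (i.succ, j)) • (T ^ (j : ℕ)) (v i)) +
        ∑ l : Fin k, co (.inr l) • u l with hrest
      have hmem : rest ∈ S := S.add_mem
        (Submodule.sum_mem _ fun i _ => Submodule.sum_mem _ fun j _ =>
          S.smul_mem _ (Submodule.subset_span ⟨.inl (i, j), rfl⟩))
        (Submodule.sum_mem _ fun l _ => S.smul_mem _ (Submodule.subset_span ⟨.inr l, rfl⟩))
      let P : F[X] := ∑ j : Fin c, monomial (j : ℕ) (co (.inl (0, j)))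
      have hP : aeval T P y' = ∑ j : Fin c, co (.inl (0, j)) • (T ^ (j : ℕ)) y' := by
        simp [P, map_sum, aeval_monomial, Module.End.mul_apply, Module.algebraMap_end_apply]
      have htot : aeval T P y' + rest = 0 := by rw [hP, hrest, ← hco]; abel
      have hP0 : P = 0 := by
        refine key P ?_ ((Submodule.add_mem_iff_left _ hmem).1 (htot ▸ S.zero_mem))
        refine (natDegree_sum_le _ _).trans_lt ((Finset.fold_max_lt _).2 ⟨hc0, fun j _ => ?_⟩)
        exact (natDegree_monomial_le _).trans_lt j.2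
      have hco0 : ∀ j : Fin c, co (.inl (0, j)) = 0 := fun j => by
        have := congrArg (fun p => p.coeff (j : ℕ)) hP0
        simpa [P, finsetSum_coeff, coeff_monomial, Fin.val_inj] using this
      rw [hP0, map_zero, LinearMap.zero_apply, zero_add] at htot
      have hr' := Fintype.linearIndependent_iff.1 hli
        (Sum.elim (fun p => co (.inl (p.1.succ, p.2))) (fun l => co (.inr l)))
        (by simpa [fam, Fintype.sum_sum_type, Fintype.sum_prod_type] using htot)
      rintro (⟨i, j⟩ | l)
      · refine Fin.cases ?_ (fun i => ?_) i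
        · exact hco0 j
        · exact hr' (.inl (i, j))
      · exact hr' (.inr l)
    · intro i
      refine Fin.cases ?_ (fun i => ?_) i
      · simpa using ⟨hg0m, hg0i, hdeg, ⟨h, hh⟩, hgy'⟩
      · simpa using hg i
    · intro i
      refine Fin.cases ?_ (fun i => ?_) i
      · simp only [Fin.cons_zero]
        have hgeom : (X ^ r - 1 : F[X]) = (∑ j ∈ Finset.range r, X ^ j) * (X - C 1) := by
          rw [map_one, geom_sum_mul]
        have hd : g₀ ∣ ∑ j ∈ Finset.range r, X ^ j := by
          have h' : g₀ ∣ (∑ j ∈ Finset.range r, X ^ j) * (X - C 1) := hgeom ▸ ⟨h, hh⟩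
          refine ((hg0i.coprime_iff_not_dvd).2 fun hd => hg1 ?_).dvd_of_dvd_mul_right h'
          exact eq_of_monic_of_associated hg0m (monic_X_sub_C 1) (hg0i.associated_of_dvd (irreducible_X_sub_C 1) hd)
        obtain ⟨w, hw⟩ := hd
        have : aeval T (∑ j ∈ Finset.range r, X ^ j : F[X]) y' = 0 := by
          rw [hw, mul_comm, map_mul, Module.End.mul_apply, hgy', map_zero]
        simpa [map_sum] using this
      · simpa using hsum i
  have hgood : ∀ e, (∀ e' < e, ∀ v g, Good e' v g → Submodule.span F (Set.range (fam e' v)) ≠ ⊤) →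
      ∃ v g, Good e v g := by
    intro e
    induction e with
    | zero =>
      intro _
      refine ⟨Fin.elim0, Fin.elim0, ?_, fun i => i.elim0, fun i => i.elim0⟩
      have : fam 0 Fin.elim0 = u ∘ (Equiv.emptySum (Fin 0 × Fin c) (Fin k)) := by
        funext x
        rcases x with ⟨i, _⟩ | l
        · exact i.elim0
        · rfl
      show LinearIndependent F (fam 0 Fin.elim0)
      rw [this]
      refine (linearIndependent_equiv (Equiv.emptySum (Fin 0 × Fin c) (Fin k))).2 ?_
      exact bK.linearIndependent.map' (LinearMap.ker (T - 1)).subtype (Submodule.ker_subtype _)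
    | succ e ih =>
      intro h
      obtain ⟨v, g, hG⟩ := ih fun e' he' => h e' (by omega)
      exact (step e v g hG).resolve_left (h e (by omega) v g hG)
  obtain ⟨e, v, g, ⟨hli, hg, hsum⟩, hspan⟩ : ∃ e v g, Good e v g ∧ Submodule.span F (Set.range (fam e v)) = ⊤ := by
    by_contra hcon
    push Not at hcon
    obtain ⟨v, g, hli, -⟩ := hgood (finrank F V + 1) fun e' _ v g hG => hcon e' v g hG
    have := hli.fintype_card_le_finrank
    simp only [Fintype.card_sum, Fintype.card_prod, Fintype.card_fin] at this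
    have : finrank F V + 1 ≤ (finrank F V + 1) * c := Nat.le_mul_of_pos_right _ hc0
    omega
  let b := Basis.mk hli hspan.ge
  have hb : ∀ x, b x = fam e v x := fun x => Basis.mk_apply _ _ x
  refine ⟨e, k, b, v, g, fun i j => by rw [hb]; rfl, fun l => by rw [hb]; exact hu l, hg, fun i j => ?_, hsum, ?_, hk⟩
  · simp only [hb]
    exact hpiece (v i) (g i) (hg i).1 (hg i).2.2.1 (hg i).2.2.2.2 j
  · have h1 := LinearMap.finrank_range_add_finrank_ker (T - 1)
    have h2 := Module.finrank_eq_card_basis b
    simp only [Fintype.card_sum, Fintype.card_prod, Fintype.card_fin] at h2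
    omega

omit [FiniteDimensional F V] in
lemma det_eq_one {r q : ℕ} [Fact r.Prime] (hq : Fintype.card F = q) (hrq : ¬ r ∣ q - 1) {x : F} (hx : x ^ r = 1) :
    x = 1 := by
  have h0 : x ≠ 0 := by
    intro h; rw [h, zero_pow (Fact.out : r.Prime).ne_zero] at hx; exact zero_ne_one hx
  have h2 : x ^ (q - 1) = 1 := hq ▸ FiniteField.pow_card_sub_one_eq_one _ h0
  have := pow_gcd_eq_one.2 ⟨hx, h2⟩
  rwa [((Fact.out : r.Prime).coprime_iff_not_dvd).2 hrq, pow_one] at this

/-- An element of `SL(n)` with `e` equal pieces and `k` fixed dimensions. -/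
theorem exists_witness {r q c : ℕ} [Fact r.Prime] (hq : Fintype.card F = q) (hc : c = orderOf (q : ZMod r))
    (hc1 : 1 < c) (hr0 : (r : F) ≠ 0) {n e k : ℕ} (hn : e * c + k = n) :
    ∃ (x : Matrix.SpecialLinearGroup (Fin n) F) (g : F[X]),
      (x : Matrix (Fin n) (Fin n) F) ^ r = 1 ∧ g.Monic ∧ Irreducible g ∧ g.natDegree = c ∧ g ∣ X ^ r - 1 ∧
      (∀ v, aeval (Matrix.toLinAlgEquiv' (x : Matrix (Fin n) (Fin n) F) : Module.End F (Fin n → F)) g
        ((Matrix.toLinAlgEquiv' (x : Matrix (Fin n) (Fin n) F) - 1 : Module.End F (Fin n → F)) v) = 0) ∧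
      finrank F ↥(LinearMap.range (Matrix.toLinAlgEquiv' (x : Matrix (Fin n) (Fin n) F) - 1 : Module.End F (Fin n → F))) = e * c := by
  classical
  obtain ⟨Y, hY1, hY2⟩ := CfsgLib.OrderElt.exists_fixedFree hq hc (by omega)
  set y : Module.End F (Fin c → F) := Matrix.toLinAlgEquiv' Y with hy
  have hyr : y ^ r = 1 := by rw [hy, ← map_pow, hY1, map_one]
  obtain ⟨e1, k1, b, v, gs, hb, -, hgs, -, -, hd1, hd2⟩ := exists_cyclic_basis hq hc (by omega) hr0 y hyr
  have hker : LinearMap.ker (y - 1) = ⊥ := (Submodule.eq_bot_iff _).2 fun w hw => hY2 w (by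
    simpa [hy, sub_eq_zero, Matrix.toLinAlgEquiv'_apply] using hw)
  have hk1 : k1 = 0 := by rw [← hd2, hker, finrank_bot]
  have hcard := Module.finrank_eq_card_basis b
  simp only [Fintype.card_sum, Fintype.card_prod, Fintype.card_fin, Module.finrank_fin_fun] at hcard
  subst hk1
  obtain rfl : e1 = 1 := Nat.eq_of_mul_eq_mul_right (show 0 < c by omega) (by omega)
  obtain ⟨hgm, hgi, hgd, hgr, hgv⟩ := hgs 0
  have hg0 : aeval y (gs 0) = 0 := b.ext fun x => by
    rcases x with ⟨i, j⟩ | l
    · obtain rfl : i = 0 := Subsingleton.elim _ _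
      rw [hb, ← Module.End.mul_apply, show y ^ (j : ℕ) = aeval y (X ^ (j : ℕ) : F[X]) by simp, ← map_mul, mul_comm,
        map_mul, Module.End.mul_apply, hgv, map_zero, LinearMap.zero_apply]
    · exact l.elim0
  have hfr : finrank F (Fin n → F) = finrank F ((Fin e → Fin c → F) × (Fin k → F)) := by
    simp [Module.finrank_prod, Module.finrank_pi_fintype, ← hn]
  let Φ := LinearEquiv.ofFinrankEq _ _ hfr
  let P : Module.End F ((Fin e → Fin c → F) × (Fin k → F)) := (y.compLeft (Fin e)).prodMap LinearMap.id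
  let T : Module.End F (Fin n → F) := Φ.symm.toLinearMap ∘ₗ P ∘ₗ Φ.toLinearMap
  have hTi : ∀ (i : ℕ) w, (T ^ i) w = Φ.symm ((fun j => (y ^ i) ((Φ w).1 j)), (Φ w).2) := by
    intro i
    induction i with
    | zero => intro w; simp
    | succ i ih =>
      intro w
      rw [pow_succ', Module.End.mul_apply, ih]
      simp only [T, LinearMap.comp_apply, LinearEquiv.coe_coe, LinearEquiv.apply_symm_apply]
      rw [pow_succ']
      rfl
  have hTr : T ^ r = 1 := LinearMap.ext fun w => by rw [hTi, hyr]; simp
  have hT1 : ∀ w, (T - 1) w = Φ.symm ((fun j => (y - 1) ((Φ w).1 j)), 0) := by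
    intro w
    rw [LinearMap.sub_apply, ← pow_one T, hTi, pow_one, Module.End.one_apply]
    apply Φ.injective
    rw [map_sub, LinearEquiv.apply_symm_apply, LinearEquiv.apply_symm_apply]
    ext <;> simp
  have hq1 : 1 ≤ q := by rw [← hq]; exact Fintype.card_pos
  have hrq : ¬ r ∣ q - 1 := fun hd => by
    have : orderOf (q : ZMod r) ∣ 1 := (CfsgLib.OrderR.orderOf_dvd_iff hq1).2 (by rwa [pow_one])
    rw [← hc, Nat.dvd_one] at this
    omega
  have hdet : LinearMap.det T = 1 := det_eq_one hq hrq (by rw [← map_pow, hTr, map_one])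
  refine ⟨⟨LinearMap.toMatrix' T, by rw [LinearMap.det_toMatrix', hdet]⟩, gs 0, ?_, hgm, hgi, hgd, hgr, ?_, ?_⟩
  all_goals
    have hTT : (Matrix.toLinAlgEquiv' (LinearMap.toMatrix' T) : Module.End F (Fin n → F)) = T :=
      LinearMap.ext fun w => by rw [Matrix.toLinAlgEquiv'_apply, LinearMap.toMatrix'_mulVec]
  · apply Matrix.toLinAlgEquiv'.injective
    rw [map_pow, map_one]
    exact (congrArg (· ^ r) hTT).trans hTr
  · intro w
    show aeval (Matrix.toLinAlgEquiv' (LinearMap.toMatrix' T) : Module.End F (Fin n → F)) (gs 0)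
      ((Matrix.toLinAlgEquiv' (LinearMap.toMatrix' T) - 1 : Module.End F (Fin n → F)) w) = 0
    rw [hTT, hT1, aeval_eq_sum_range, LinearMap.sum_apply]
    simp only [LinearMap.smul_apply, hTi, LinearEquiv.apply_symm_apply, ← map_smul, ← map_sum]
    rw [← map_zero Φ.symm]
    congr 1
    refine Prod.ext (funext fun j => ?_) ?_
    · simp only [Prod.fst_sum, Prod.smul_fst, Finset.sum_apply, Pi.smul_apply, Prod.fst_zero, Pi.zero_apply]
      simpa [aeval_eq_sum_range] using LinearMap.congr_fun hg0 ((y - 1) ((Φ w).1 j))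
    · simp [Prod.snd_sum]
  · show finrank F ↥(LinearMap.range (Matrix.toLinAlgEquiv' (LinearMap.toMatrix' T) - 1 : Module.End F (Fin n → F))) = e * c
    rw [hTT]
    let L : (Fin e → Fin c → F) →ₗ[F] (Fin n → F) := Φ.symm.toLinearMap ∘ₗ LinearMap.inl F _ (Fin k → F)
    have hsurj : Function.Surjective (y - 1 : Module.End F (Fin c → F)) := LinearMap.injective_iff_surjective.1 (LinearMap.ker_eq_bot.1 hker)
    have hrange : LinearMap.range (T - 1) = LinearMap.range L := by
      refine le_antisymm ?_ ?_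
      · rintro _ ⟨w, rfl⟩
        exact ⟨fun j => (y - 1) ((Φ w).1 j), (hT1 w).symm⟩
      · rintro _ ⟨f, rfl⟩
        choose f' hf' using fun j => hsurj (f j)
        exact ⟨Φ.symm (f', 0), by rw [hT1, LinearEquiv.apply_symm_apply]; simp [L, hf']⟩
    have hL : Function.Injective L := fun f f' h => (Prod.mk.inj (Φ.symm.injective h)).1
    rw [hrange, LinearMap.finrank_range_of_inj hL, Module.finrank_pi_fintype]
    simp

end CfsgLib.SemiR
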