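import Mathlib
import Cfsg.Prelude.Def_GeometricClasses
import Cfsg.Agent.Lib.Geo.FieldTransvection
import Cfsg.Agent.Lib.Maximal99.SemiR

/-!
Elements `g` with `g ^ n` scalar in the normaliser of a field subalgebra of prime degree `n` in `M_n(F)`.
-/

set_option autoImplicit false

namespace CfsgLib.SingerConj

open Cfsg Cfsg.Geo Matrix Module Polynomial

variable {F : Type*} [Field F] {n : ℕ}

section field

variable {K : Subalgebra F (Matrix (Fin n) (Fin n) F)} (hK : IsFieldSubalgebra n K)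
include hK

lemma mulVec_inj {a b : Matrix (Fin n) (Fin n) F} (ha : a ∈ K) (hb : b ∈ K) {v : Fin n → F} (hv : v ≠ 0)
    (h : a *ᵥ v = b *ᵥ v) : a = b := by
  by_contra hne
  obtain ⟨y, hy, hxy⟩ := hK.inv _ (K.sub_mem ha hb) (sub_ne_zero.2 hne)
  apply hv
  rw [← Matrix.one_mulVec v, ← hxy, hK.comm _ (K.sub_mem ha hb) _ hy, ← Matrix.mulVec_mulVec, Matrix.sub_mulVec, h,
    sub_self, Matrix.mulVec_zero]

/-- Evaluation at a nonzero vector. -/
lemma exists_equiv {v : Fin n → F} (hv : v ≠ 0) :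
    ∃ e : K ≃ₗ[F] (Fin n → F), ∀ a : K, e a = (a : Matrix (Fin n) (Fin n) F) *ᵥ v := by
  let L : K →ₗ[F] (Fin n → F) :=
    { toFun := fun a => (a : Matrix (Fin n) (Fin n) F) *ᵥ v
      map_add' := fun a b => Matrix.add_mulVec _ _ _
      map_smul' := fun c a => Matrix.smul_mulVec c _ _ }
  have hinj : Function.Injective L := fun a b h => Subtype.ext (mulVec_inj hK a.2 b.2 hv h)
  exact ⟨L.linearEquivOfInjective hinj (by rw [hK.finrank_eq, Module.finrank_fin_fun]), fun a => rfl⟩

/-- Something commuting with all of `K` lies in `K`. -/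
lemma mem_of_comm {g : Matrix (Fin n) (Fin n) F} {v : Fin n → F} (hv : v ≠ 0) (h : ∀ a ∈ K, g * a = a * g) :
    g ∈ K := by
  obtain ⟨e, he⟩ := exists_equiv hK hv
  obtain ⟨b, hb⟩ := e.surjective (g *ᵥ v)
  suffices g = b by rw [this]; exact b.2
  refine Matrix.toLin'.injective (LinearMap.ext fun w => ?_)
  obtain ⟨a, rfl⟩ := e.surjective w
  rw [Matrix.toLin'_apply, Matrix.toLin'_apply, he, Matrix.mulVec_mulVec, h _ a.2, ← Matrix.mulVec_mulVec,
    ← hb, he, Matrix.mulVec_mulVec, Matrix.mulVec_mulVec, hK.comm _ a.2 _ b.2]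

/-- A nonscalar normalising element with scalar `n`-th power has eigenspaces of dimension at most one. -/
theorem eigen_le_one [NeZero n] (hn : n.Prime) {g : GL (Fin n) F} (hg : g ∈ subalgebraNormalizer K)
    {z : F} (hgn : (g : Matrix (Fin n) (Fin n) F) ^ n = z • (1 : Matrix (Fin n) (Fin n) F))
    (hns : ∀ c : F, (g : Matrix (Fin n) (Fin n) F) ≠ c • (1 : Matrix (Fin n) (Fin n) F))
    {c : F} {v w : Fin n → F} (hv : v ≠ 0) (hgv : (g : Matrix (Fin n) (Fin n) F) *ᵥ v = c • v)
    (hgw : (g : Matrix (Fin n) (Fin n) F) *ᵥ w = c • w) : ∃ d : F, w = d • v := by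
  classical
  set G : Matrix (Fin n) (Fin n) F := (g : Matrix (Fin n) (Fin n) F) with hG
  have hc : c ≠ 0 := by
    intro h
    apply hv
    rw [← Matrix.one_mulVec v, ← Units.inv_mul g, ← Matrix.mulVec_mulVec, ← hG, hgv, h, zero_smul, Matrix.mulVec_zero]
  have hz : c ^ n = z := by
    have h1 : ∀ j : ℕ, (G ^ j) *ᵥ v = c ^ j • v := by
      intro j
      induction j with
      | zero => simp
      | succ j ih => rw [pow_succ, ← Matrix.mulVec_mulVec, hgv, Matrix.mulVec_smul, ih, smul_smul, ← pow_succ']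
    have h2 := h1 n
    rw [hgn, Matrix.smul_mulVec, Matrix.one_mulVec] at h2
    exact (smul_left_injective F hv h2).symm
  obtain ⟨e, he⟩ := exists_equiv hK hv
  obtain ⟨a, rfl⟩ := e.surjective w
  rw [he] at hgw ⊢
  -- `a` commutes with `g`
  set a' : Matrix (Fin n) (Fin n) F := G * a.1 * ((g⁻¹ : GL (Fin n) F) : Matrix (Fin n) (Fin n) F) with ha'
  have ha'K : a' ∈ K := (hg a.1).1 a.2
  have hcomm : G * a.1 = a.1 * G := by
    have h : a' = a.1 := by
      refine mulVec_inj hK ha'K a.2 hv (smul_right_injective (Fin n → F) hc ?_)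
      calc c • (a' *ᵥ v) = a' *ᵥ (G *ᵥ v) := by rw [hgv, Matrix.mulVec_smul]
        _ = (G * a.1) *ᵥ v := by rw [Matrix.mulVec_mulVec, ha', mul_assoc (G * a.1), hG, Units.inv_mul, mul_one]
        _ = c • (a.1 *ᵥ v) := by rw [← Matrix.mulVec_mulVec, hgw]
    rw [ha'] at h
    conv_rhs => rw [← h]
    rw [mul_assoc (G * a.1), hG, Units.inv_mul, mul_one]
  letI : Field K := Geo.FieldTransvection.fieldOf hK
  have : IsSimpleOrder (Subalgebra F K) :=
    Subalgebra.isSimpleOrder_of_finrank_prime F K (by rw [hK.finrank_eq]; exact hn)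
  rcases IsSimpleOrder.eq_bot_or_eq_top ((Subalgebra.centralizer F {G}).comap K.val) with h | h
  · have ha : a ∈ ((Subalgebra.centralizer F {G}).comap K.val) := by
      simp only [Subalgebra.mem_comap, Subalgebra.coe_val, Subalgebra.mem_centralizer_iff, Set.mem_singleton_iff,
        forall_eq]
      exact hcomm
    rw [h, Algebra.mem_bot] at ha
    obtain ⟨d, rfl⟩ := ha
    refine ⟨d, ?_⟩
    show (algebraMap F (Matrix (Fin n) (Fin n) F) d) *ᵥ v = _
    rw [Algebra.algebraMap_eq_smul_one, Matrix.smul_mulVec, Matrix.one_mulVec]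
  · exfalso
    have hGK : G ∈ K := mem_of_comm hK hv fun b hb => by
      have : (⟨b, hb⟩ : K) ∈ ((Subalgebra.centralizer F {G}).comap K.val) := h ▸ Algebra.mem_top
      simp only [Subalgebra.mem_comap, Subalgebra.coe_val, Subalgebra.mem_centralizer_iff, Set.mem_singleton_iff,
        forall_eq] at this
      exact this
    refine hns c ?_
    refine mulVec_inj hK hGK (K.smul_mem K.one_mem c) hv ?_
    rw [hgv, Matrix.smul_mulVec, Matrix.one_mulVec]

variable [Fintype F]

/-- The determinant is surjective on the normaliser. -/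
theorem exists_mem_det [NeZero n] {d : F} (hd : d ≠ 0) :
    ∃ h : GL (Fin n) F, h ∈ subalgebraNormalizer K ∧ (h : Matrix (Fin n) (Fin n) F).det = d := by
  classical
  letI : Field K := Geo.FieldTransvection.fieldOf hK
  haveI : FiniteDimensional F K := Module.finite_of_finrank_pos (by rw [hK.finrank_eq]; exact NeZero.pos n)
  haveI : Finite K := Module.finite_of_finite F
  obtain ⟨a, ha⟩ := FiniteField.norm_surjective F K d
  obtain ⟨v, hv⟩ := exists_ne (0 : Fin n → F)
  obtain ⟨e, he⟩ := exists_equiv hK hv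
  have hdet : (a : Matrix (Fin n) (Fin n) F).det = d := by
    rw [← ha, Algebra.norm_apply, ← LinearMap.det_toLin', ← LinearMap.det_conj (Algebra.lmul F K a) e]
    congr 1
    refine LinearMap.ext fun w => ?_
    obtain ⟨b, rfl⟩ := e.surjective w
    rw [LinearMap.comp_apply, LinearMap.comp_apply, LinearEquiv.coe_coe, LinearEquiv.coe_coe, e.symm_apply_apply, he,
      Matrix.toLin'_apply, he, Algebra.coe_lmul_eq_mul, LinearMap.mul_apply', Subalgebra.coe_mul, Matrix.mulVec_mulVec]
  refine ⟨Matrix.GeneralLinearGroup.mkOfDetNeZero (a : Matrix (Fin n) (Fin n) F) (by rw [hdet]; exact hd),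
    fun k => ?_, hdet⟩
  set h : GL (Fin n) F := Matrix.GeneralLinearGroup.mkOfDetNeZero (a : Matrix (Fin n) (Fin n) F) (by rw [hdet]; exact hd)
    with hh
  have hha : (h : Matrix (Fin n) (Fin n) F) = a := rfl
  constructor
  · intro hk
    rw [hha, hK.comm _ a.2 _ hk, mul_assoc, ← hha, Units.mul_inv, mul_one]
    exact hk
  · intro hk
    have h2 : k * (h : Matrix (Fin n) (Fin n) F) = (h : Matrix (Fin n) (Fin n) F) * k := by
      have h3 := hK.comm _ a.2 _ hk
      rw [← hha] at h3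
      apply h.isUnit.mul_left_cancel
      calc (h : Matrix (Fin n) (Fin n) F) * (k * h)
          = (h : Matrix (Fin n) (Fin n) F) * k * ((h⁻¹ : GL (Fin n) F) : Matrix (Fin n) (Fin n) F) * h * h := by
            simp [mul_assoc]
        _ = (h : Matrix (Fin n) (Fin n) F) * ((h : Matrix (Fin n) (Fin n) F) * k *
              ((h⁻¹ : GL (Fin n) F) : Matrix (Fin n) (Fin n) F)) * h := by rw [← h3]
        _ = _ := by simp [mul_assoc]
    rwa [← h2, mul_assoc, Units.mul_inv, mul_one] at hk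

/-- Conjugacy into the normaliser inside `SL` follows from conjugacy inside `GL`. -/
theorem exists_sl_conj_mem [NeZero n] (x : SpecialLinearGroup (Fin n) F) (g : GL (Fin n) F)
    (hg : g⁻¹ * SpecialLinearGroup.toGL x * g ∈ subalgebraNormalizer K) :
    ∃ P : SpecialLinearGroup (Fin n) F,
      P⁻¹ * x * P ∈ (subalgebraNormalizer K).comap
        (SpecialLinearGroup.toGL : SpecialLinearGroup (Fin n) F →* GL (Fin n) F) := by
  have hd : (g : Matrix (Fin n) (Fin n) F).det ≠ 0 := ((Matrix.isUnit_iff_isUnit_det _).1 g.isUnit).ne_zero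
  obtain ⟨h, hh, hhd⟩ := exists_mem_det hK (inv_ne_zero hd)
  let P : SpecialLinearGroup (Fin n) F :=
    ⟨((g * h : GL (Fin n) F) : Matrix (Fin n) (Fin n) F), by
      rw [Units.val_mul, Matrix.det_mul, hhd, mul_inv_cancel₀ hd]⟩
  have hP : SpecialLinearGroup.toGL P = g * h := Units.ext rfl
  refine ⟨P, ?_⟩
  rw [Subgroup.mem_comap, map_mul, map_mul, map_inv, hP,
    show (g * h)⁻¹ * SpecialLinearGroup.toGL x * (g * h) = h⁻¹ * (g⁻¹ * SpecialLinearGroup.toGL x * g) * h by group]
  exact mul_mem (mul_mem (inv_mem hh) hg) hh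

/-- A nontrivial field automorphism gives a normalising element of order `n`. -/
theorem exists_frob [NeZero n] (hn : n.Prime) :
    ∃ S : GL (Fin n) F, S ∈ subalgebraNormalizer K ∧ (S : Matrix (Fin n) (Fin n) F) ^ n = 1 ∧
      ∀ c : F, (S : Matrix (Fin n) (Fin n) F) ≠ c • (1 : Matrix (Fin n) (Fin n) F) := by
  classical
  letI : Field K := Geo.FieldTransvection.fieldOf hK
  haveI : FiniteDimensional F K := Module.finite_of_finrank_pos (by rw [hK.finrank_eq]; exact hn.pos)
  haveI : Finite K := Module.finite_of_finite F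
  haveI : IsGalois F K := GaloisField.instIsGaloisOfFinite
  haveI : Fact n.Prime := ⟨hn⟩
  obtain ⟨σ, hσ⟩ := exists_prime_orderOf_dvd_card' (G := K ≃ₐ[F] K) n
    (by rw [IsGalois.card_aut_eq_finrank, hK.finrank_eq])
  obtain ⟨v, hv⟩ := exists_ne (0 : Fin n → F)
  obtain ⟨e, he⟩ := exists_equiv hK hv
  let L : (K ≃ₐ[F] K) →* (Matrix (Fin n) (Fin n) F) :=
    { toFun := fun τ => LinearMap.toMatrix' (e.toLinearMap ∘ₗ τ.toLinearMap ∘ₗ e.symm.toLinearMap)
      map_one' := by
        rw [← LinearMap.toMatrix'_id]; congr 1; exact LinearMap.ext fun w => by simp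
      map_mul' := fun τ υ => by
        rw [← LinearMap.toMatrix'_comp]; congr 1; exact LinearMap.ext fun w => by simp }
  let S : GL (Fin n) F := L.toHomUnits σ
  have hS : (S : Matrix (Fin n) (Fin n) F) = L σ := rfl
  have hSv : ∀ a : K, (S : Matrix (Fin n) (Fin n) F) *ᵥ ((a : Matrix (Fin n) (Fin n) F) *ᵥ v) =
      (σ a : Matrix (Fin n) (Fin n) F) *ᵥ v := fun a => by
    rw [hS, ← he, ← he, ← Matrix.toLin'_apply]
    simp [L]
  have hconj : ∀ b : K, (S : Matrix (Fin n) (Fin n) F) * b * ((S⁻¹ : GL (Fin n) F) : Matrix (Fin n) (Fin n) F) = σ b := by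
    intro b
    suffices (S : Matrix (Fin n) (Fin n) F) * b = σ b * S by rw [this, mul_assoc, Units.mul_inv, mul_one]
    refine Matrix.toLin'.injective (LinearMap.ext fun w => ?_)
    obtain ⟨a, rfl⟩ := e.surjective w
    simp only [Matrix.toLin'_apply, ← Matrix.mulVec_mulVec, he]
    rw [hSv a, Matrix.mulVec_mulVec (v := v), ← Subalgebra.coe_mul, hSv, map_mul, Subalgebra.coe_mul, Matrix.mulVec_mulVec]
  refine ⟨S, fun k => ⟨fun hk => ?_, fun hk => ?_⟩, ?_, fun c h => ?_⟩
  · rw [hconj ⟨k, hk⟩]; exact (σ _).2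
  · obtain ⟨b, hb⟩ := σ.surjective ⟨_, hk⟩
    have h2 := hconj b
    rw [hb] at h2
    have : (b : Matrix (Fin n) (Fin n) F) = k := S.isUnit.mul_left_cancel (S⁻¹.isUnit.mul_right_cancel h2)
    exact this ▸ b.2
  · have h1 := pow_orderOf_eq_one σ
    rw [hσ] at h1
    rw [hS, ← map_pow, h1, map_one]
  · have h1 : σ = 1 := by
      refine AlgEquiv.ext fun a => ?_
      have h2 := hconj a
      have h3 : Commute (S : Matrix (Fin n) (Fin n) F) (a : Matrix (Fin n) (Fin n) F) := by
        rw [h]; exact (Commute.one_left _).smul_left c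
      rw [h3.eq, mul_assoc, Units.mul_inv, mul_one] at h2
      exact Subtype.ext h2.symm
    rw [h1, orderOf_one] at hσ
    exact hn.one_lt.ne hσ

end field

/-- Cyclic elements with the same scalar power are similar. -/
theorem exists_conj_of_cyclic {x y : GL (Fin n) F} {z : F}
    (hx : (x : Matrix (Fin n) (Fin n) F) ^ n = z • (1 : Matrix (Fin n) (Fin n) F))
    (hy : (y : Matrix (Fin n) (Fin n) F) ^ n = z • (1 : Matrix (Fin n) (Fin n) F))
    {v w : Fin n → F}
    (hv : LinearIndependent F fun i : Fin n => ((x : Matrix (Fin n) (Fin n) F) ^ (i : ℕ)) *ᵥ v)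
    (hw : LinearIndependent F fun i : Fin n => ((y : Matrix (Fin n) (Fin n) F) ^ (i : ℕ)) *ᵥ w) :
    ∃ g : GL (Fin n) F, g⁻¹ * x * g = y := by
  rcases Nat.eq_zero_or_pos n with rfl | hn
  · exact ⟨1, Units.ext (Subsingleton.elim _ _)⟩
  haveI : Nonempty (Fin n) := ⟨⟨0, hn⟩⟩
  let bx := basisOfLinearIndependentOfCardEqFinrank hv (by simp)
  let by' := basisOfLinearIndependentOfCardEqFinrank hw (by simp)
  let e := by'.equiv bx (Equiv.refl _)
  have hpow : ∀ j : ℕ, j ≤ n → e (((y : Matrix (Fin n) (Fin n) F) ^ j) *ᵥ w) = ((x : Matrix (Fin n) (Fin n) F) ^ j) *ᵥ v := by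
    have hlt : ∀ j : ℕ, j < n → e (((y : Matrix (Fin n) (Fin n) F) ^ j) *ᵥ w) = ((x : Matrix (Fin n) (Fin n) F) ^ j) *ᵥ v := by
      intro j hj
      have h := by'.equiv_apply ⟨j, hj⟩ bx (Equiv.refl _)
      simpa [by', bx, e] using h
    intro j hj
    rcases Nat.lt_or_eq_of_le hj with h | rfl
    · exact hlt j h
    · have h0 := hlt 0 hn
      rw [pow_zero, pow_zero, Matrix.one_mulVec, Matrix.one_mulVec] at h0
      rw [hx, hy, Matrix.smul_mulVec, Matrix.smul_mulVec, map_smul, Matrix.one_mulVec, Matrix.one_mulVec, h0]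
  let g : GL (Fin n) F := ⟨LinearMap.toMatrix' e.toLinearMap, LinearMap.toMatrix' e.symm.toLinearMap,
    by rw [← LinearMap.toMatrix'_comp, ← LinearMap.toMatrix'_id]; congr 1; exact LinearMap.ext fun u => by simp,
    by rw [← LinearMap.toMatrix'_comp, ← LinearMap.toMatrix'_id]; congr 1; exact LinearMap.ext fun u => by simp⟩
  have hg : ∀ u, (g : Matrix (Fin n) (Fin n) F) *ᵥ u = e u := fun u => by
    exact LinearMap.toMatrix'_mulVec e.toLinearMap u
  refine ⟨g, ?_⟩
  suffices x * g = g * y by rw [mul_assoc, this, inv_mul_cancel_left]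
  refine Units.ext (Matrix.toLin'.injective (by'.ext fun j => ?_))
  have hj : by' j = ((y : Matrix (Fin n) (Fin n) F) ^ (j : ℕ)) *ᵥ w := by simp [by']
  simp only [Matrix.toLin'_apply, Units.val_mul, hj, ← Matrix.mulVec_mulVec, hg]
  rw [hpow _ j.2.le, Matrix.mulVec_mulVec _ (y : Matrix (Fin n) (Fin n) F), ← pow_succ', hpow _ j.2,
    Matrix.mulVec_mulVec, ← pow_succ']

/-- Every vector is cyclic when the minimal polynomial `X ^ n - z` is irreducible. -/
theorem cyclic_of_irreducible {x : Matrix (Fin n) (Fin n) F} {z : F}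
    (hx : x ^ n = z • (1 : Matrix (Fin n) (Fin n) F)) (hirr : Irreducible (X ^ n - C z : F[X]))
    {v : Fin n → F} (hv : v ≠ 0) : LinearIndependent F fun i : Fin n => (x ^ (i : ℕ)) *ᵥ v := by
  classical
  rcases Nat.eq_zero_or_pos n with rfl | hn
  · exact linearIndependent_empty_type
  refine Fintype.linearIndependent_iff.2 fun c hc i => ?_
  set p : F[X] := ∑ i : Fin n, C (c i) * X ^ (i : ℕ) with hp
  have hev : (aeval x p) *ᵥ v = 0 := by
    rw [hp, map_sum, Matrix.sum_mulVec, ← hc]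
    refine Finset.sum_congr rfl fun j _ => ?_
    rw [map_mul, aeval_C, map_pow, aeval_X, ← Algebra.smul_def, Matrix.smul_mulVec]
  have hp0 : p = 0 := by
    by_contra hne
    have hdeg : p.degree < n := by
      rw [hp]; exact Polynomial.degree_sum_fin_lt c
    rcases hirr.coprime_iff_not_dvd.2 (fun hd => hne (Polynomial.eq_zero_of_dvd_of_degree_lt hd (by
      rw [Polynomial.degree_X_pow_sub_C hn]; exact hdeg))) with ⟨a, b, hab⟩
    have h := congrArg (fun f => (aeval x f) *ᵥ v) hab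
    simp only [map_add, map_mul, map_sub, map_pow, aeval_X, aeval_C, map_one, Matrix.one_mulVec, hx,
      Algebra.algebraMap_eq_smul_one, sub_self, mul_zero, zero_add] at h
    rw [← Matrix.mulVec_mulVec, hev, Matrix.mulVec_zero] at h
    exact hv h.symm
  have := congrArg (fun f => f.coeff (i : ℕ)) hp0
  simpa [hp, Polynomial.coeff_C_mul_X_pow, Fin.val_inj] using this

/-- A cyclic vector for elements of order `n` when the order of `q` modulo `n` is `n - 1`. -/
theorem cyclic_of_order [Fintype F] {q : ℕ} [Fact n.Prime] (hq : Fintype.card F = q) (hn3 : 3 ≤ n)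
    (ho : orderOf (q : ZMod n) = n - 1) (hn0 : (n : F) ≠ 0) {y : Matrix (Fin n) (Fin n) F} (hy : y ^ n = 1)
    (hne : y ≠ 1) : ∃ v : Fin n → F, LinearIndependent F fun i : Fin n => (y ^ (i : ℕ)) *ᵥ v := by
  classical
  obtain ⟨m, rfl⟩ : ∃ m, n = m + 1 := ⟨n - 1, by omega⟩
  rw [Nat.add_sub_cancel] at ho
  set T : Module.End F (Fin (m + 1) → F) := Matrix.toLinAlgEquiv' y with hT
  have hTn : T ^ (m + 1) = 1 := by rw [hT, ← map_pow, hy, map_one]
  obtain ⟨e, k, b, v, g, hb, hfix, -, -, hsum, -, -⟩ :=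
    CfsgLib.SemiR.exists_cyclic_basis hq ho.symm (by omega) hn0 T hTn
  have hdim : e * m + k = m + 1 := by
    have := Module.finrank_eq_card_basis b
    rw [Module.finrank_fin_fun, Fintype.card_sum, Fintype.card_prod, Fintype.card_fin, Fintype.card_fin,
      Fintype.card_fin] at this
    omega
  have he : e ≠ 0 := by
    rintro rfl
    refine hne (Matrix.toLinAlgEquiv'.injective (b.ext fun i => ?_))
    rcases i with ⟨i, -⟩ | l
    · exact i.elim0
    · rw [← hT, hfix, map_one, Module.End.one_apply]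
  have he1 : e = 1 := by
    rcases Nat.lt_or_ge e 2 with h | h
    · omega
    · have := Nat.mul_le_mul_right m h
      omega
  subst he1
  have hk : k = 1 := by omega
  subst hk
  set u := b (.inr 0) with hu
  refine ⟨v 0 + u, Fintype.linearIndependent_iff.2 fun c hc => ?_⟩
  have hTu : ∀ j : ℕ, (T ^ j) u = u := fun j => by
    induction j with
    | zero => simp
    | succ j ih => rw [pow_succ', Module.End.mul_apply, ih, hu, hfix]
  have hterm : ∀ i : Fin (m + 1), (y ^ (i : ℕ)) *ᵥ (v 0 + u) = (T ^ (i : ℕ)) (v 0) + u := fun i => by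
    rw [← Matrix.toLinAlgEquiv'_apply, map_pow, ← hT, map_add, hTu]
  simp only [hterm] at hc
  have hlast : (T ^ m) (v 0) = -∑ j : Fin m, b (.inl (0, j)) := by
    have := hsum 0
    rw [Finset.sum_range_succ, ← Fin.sum_univ_eq_sum_range (fun j => (T ^ j) (v 0)) m] at this
    rw [eq_neg_of_add_eq_zero_right this]
    simp [hb]
  rw [Fin.sum_univ_castSucc] at hc
  simp only [Fin.val_castSucc, Fin.val_last, hlast] at hc
  have hb' : ∀ j : Fin m, (T ^ (j : ℕ)) (v 0) = b (.inl (0, j)) := fun j => (hb 0 j).symm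
  simp only [hb', smul_add, smul_neg, Finset.smul_sum, Finset.sum_add_distrib, ← Finset.sum_smul] at hc
  let d : (Fin 1 × Fin m) ⊕ Fin 1 → F :=
    Sum.elim (fun p => c p.2.castSucc - c (Fin.last m)) (fun _ => (∑ j : Fin m, c j.castSucc) + c (Fin.last m))
  have hd : ∀ i, d i = 0 := by
    refine Fintype.linearIndependent_iff.1 b.linearIndependent d ?_
    rw [← hc, Fintype.sum_sum_type, Fintype.sum_prod_type]
    simp only [d, Sum.elim_inl, Sum.elim_inr, Fin.sum_univ_one, sub_smul, Finset.sum_sub_distrib, add_smul, hu]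
    module
  have heq : ∀ j : Fin m, c j.castSucc = c (Fin.last m) := fun j => sub_eq_zero.1 (hd (.inl (0, j)))
  have hz : c (Fin.last m) = 0 := by
    have h := hd (.inr 0)
    simp only [d, Sum.elim_inr, heq, Finset.sum_const, Finset.card_univ, Fintype.card_fin, nsmul_eq_mul] at h
    have h' : ((m + 1 : ℕ) : F) * c (Fin.last m) = 0 := by push_cast; linear_combination h
    exact (mul_eq_zero.1 h').resolve_left hn0
  intro i
  exact Fin.lastCases hz (fun j => (heq j).trans hz) i

/-- Main positive criterion. -/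
theorem exists_conj_mem_of_order [Fintype F] {q : ℕ} [Fact n.Prime] (hq : Fintype.card F = q) (hn3 : 3 ≤ n)
    (ho : orderOf (q : ZMod n) = n - 1) (hn0 : (n : F) ≠ 0) {K : Subalgebra F (Matrix (Fin n) (Fin n) F)}
    (hK : IsFieldSubalgebra n K) (x : SpecialLinearGroup (Fin n) F)
    (hx : ∃ z : F, ((x ^ n : SpecialLinearGroup (Fin n) F) : Matrix (Fin n) (Fin n) F) = z • (1 : Matrix (Fin n) (Fin n) F))
    (hns : ∀ z : F, (x : Matrix (Fin n) (Fin n) F) ≠ z • (1 : Matrix (Fin n) (Fin n) F)) :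
    ∃ P : SpecialLinearGroup (Fin n) F,
      P⁻¹ * x * P ∈ (subalgebraNormalizer K).comap
        (SpecialLinearGroup.toGL : SpecialLinearGroup (Fin n) F →* GL (Fin n) F) := by
  classical
  have hnp : n.Prime := Fact.out
  haveI : NeZero n := ⟨hnp.ne_zero⟩
  obtain ⟨z, hz⟩ := hx
  replace hz : (x : Matrix (Fin n) (Fin n) F) ^ n = z • (1 : Matrix (Fin n) (Fin n) F) := by
    rw [← hz]; exact (Matrix.SpecialLinearGroup.coe_pow x n).symm
  have hz0 : z ≠ 0 := by
    rintro rfl
    have h := congrArg Matrix.det hz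
    rw [Matrix.det_pow, x.det_coe, one_pow, zero_smul, Matrix.det_zero] at h
    exact one_ne_zero h
  have hq1 : 1 ≤ q := by rw [← hq]; exact Fintype.card_pos
  have hcop : (Nat.card Fˣ).Coprime n := by
    rw [Nat.card_eq_fintype_card, Fintype.card_units, hq]
    refine Nat.Coprime.symm ((hnp.coprime_iff_not_dvd).2 fun hd => ?_)
    have : orderOf (q : ZMod n) ∣ 1 := (CfsgLib.OrderR.orderOf_dvd_iff hq1).2 (by rwa [pow_one])
    rw [ho, Nat.dvd_one] at this
    omega
  obtain ⟨c, hc⟩ := (powCoprime hcop).surjective (Units.mk0 z hz0)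
  have hc' : (c : F) ^ n = z := by
    have := congrArg Units.val hc
    simpa [powCoprime_apply] using this
  let C' : GL (Fin n) F := Units.map (algebraMap F (Matrix (Fin n) (Fin n) F)).toMonoidHom c
  have hC : (C' : Matrix (Fin n) (Fin n) F) = (c : F) • (1 : Matrix (Fin n) (Fin n) F) :=
    Algebra.algebraMap_eq_smul_one _
  have hCinv : ((C'⁻¹ : GL (Fin n) F) : Matrix (Fin n) (Fin n) F) = (c : F)⁻¹ • (1 : Matrix (Fin n) (Fin n) F) := by
    rw [← map_inv]
    exact (Algebra.algebraMap_eq_smul_one _).trans (by rw [Units.val_inv_eq_inv_val])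
  set y : GL (Fin n) F := C'⁻¹ * SpecialLinearGroup.toGL x with hy
  have hyv : (y : Matrix (Fin n) (Fin n) F) = (c : F)⁻¹ • (x : Matrix (Fin n) (Fin n) F) := by
    rw [hy, Units.val_mul, hCinv, Matrix.smul_mul, one_mul]; rfl
  have hyn : (y : Matrix (Fin n) (Fin n) F) ^ n = (1 : F) • (1 : Matrix (Fin n) (Fin n) F) := by
    rw [hyv, _root_.smul_pow, hz, smul_smul, inv_pow, hc', inv_mul_cancel₀ hz0]
  obtain ⟨S, hS, hSn, hSns⟩ := exists_frob hK hnp
  obtain ⟨v, hv⟩ := cyclic_of_order hq hn3 ho hn0 (y := (y : Matrix (Fin n) (Fin n) F))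
    (by rw [hyn, one_smul]) (fun h => hns c (by rw [hyv] at h; rw [← h, smul_smul, mul_inv_cancel₀ c.ne_zero, one_smul]))
  obtain ⟨w, hw⟩ := cyclic_of_order hq hn3 ho hn0 hSn (fun h => hSns 1 (by rw [h, one_smul]))
  obtain ⟨g, hg⟩ := exists_conj_of_cyclic hyn (y := S) (by rw [hSn, one_smul]) hv hw
  refine exists_sl_conj_mem hK x g ?_
  have hCK : C' ∈ subalgebraNormalizer K := fun k => by
    simp [hC, hCinv, smul_smul]
  have hcomm : g⁻¹ * C' = C' * g⁻¹ := Units.ext (by simp [Units.val_mul, hC])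
  have : g⁻¹ * SpecialLinearGroup.toGL x * g = C' * S := by
    rw [← hg, hy]
    rw [show C' * (g⁻¹ * (C'⁻¹ * SpecialLinearGroup.toGL x) * g) = (C' * g⁻¹) * C'⁻¹ * SpecialLinearGroup.toGL x * g by
      group, ← hcomm]
    group
  rw [this]
  exact mul_mem hCK hS

/-- An element with an eigenspace of dimension at least two is not conjugate into the normaliser. -/
theorem not_conj_mem [NeZero n] (hn : n.Prime) {K : Subalgebra F (Matrix (Fin n) (Fin n) F)}
    (hK : IsFieldSubalgebra n K) (x : SpecialLinearGroup (Fin n) F) {z : F}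
    (hx : (x : Matrix (Fin n) (Fin n) F) ^ n = z • (1 : Matrix (Fin n) (Fin n) F))
    (hns : ∀ c : F, (x : Matrix (Fin n) (Fin n) F) ≠ c • (1 : Matrix (Fin n) (Fin n) F))
    {c : F} {v w : Fin n → F} (hli : LinearIndependent F ![v, w])
    (hv : (x : Matrix (Fin n) (Fin n) F) *ᵥ v = c • v) (hw : (x : Matrix (Fin n) (Fin n) F) *ᵥ w = c • w) :
    ¬ ∃ P : SpecialLinearGroup (Fin n) F,
      P⁻¹ * x * P ∈ (subalgebraNormalizer K).comap
        (SpecialLinearGroup.toGL : SpecialLinearGroup (Fin n) F →* GL (Fin n) F) := by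
  rintro ⟨P, hP⟩
  rw [Subgroup.mem_comap] at hP
  set A : Matrix (Fin n) (Fin n) F := (P : Matrix (Fin n) (Fin n) F) with hA
  set B : Matrix (Fin n) (Fin n) F := ((P⁻¹ : SpecialLinearGroup (Fin n) F) : Matrix (Fin n) (Fin n) F) with hB
  set X : Matrix (Fin n) (Fin n) F := (x : Matrix (Fin n) (Fin n) F) with hX
  have hBA : B * A = 1 := by rw [hA, hB, ← Matrix.SpecialLinearGroup.coe_mul, inv_mul_cancel]; rfl
  have hAB : A * B = 1 := by rw [hA, hB, ← Matrix.SpecialLinearGroup.coe_mul, mul_inv_cancel]; rfl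
  set g : GL (Fin n) F := SpecialLinearGroup.toGL (P⁻¹ * x * P) with hg
  have hgv : (g : Matrix (Fin n) (Fin n) F) = B * X * A := rfl
  have hgn : (g : Matrix (Fin n) (Fin n) F) ^ n = z • (1 : Matrix (Fin n) (Fin n) F) := by
    have key : ∀ j : ℕ, (B * X * A) ^ j = B * X ^ j * A := by
      intro j
      induction j with
      | zero => rw [pow_zero, pow_zero, mul_one, hBA]
      | succ j ih =>
        rw [pow_succ, pow_succ, ih]
        calc B * X ^ j * A * (B * X * A) = B * X ^ j * (A * B) * (X * A) := by simp only [mul_assoc]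
          _ = _ := by rw [hAB, mul_one]; simp only [mul_assoc]
    rw [hgv, key, hx, Matrix.mul_smul, mul_one, Matrix.smul_mul, hBA]
  have hgns : ∀ d : F, (g : Matrix (Fin n) (Fin n) F) ≠ d • (1 : Matrix (Fin n) (Fin n) F) := by
    intro d h
    refine hns d ?_
    calc X = A * (B * X * A) * B := by
          rw [show A * (B * X * A) * B = (A * B) * X * (A * B) by simp only [mul_assoc], hAB, one_mul, mul_one]
      _ = _ := by rw [← hgv, h, Matrix.mul_smul, mul_one, Matrix.smul_mul, hAB]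
  have hev : ∀ u, X *ᵥ u = c • u → (g : Matrix (Fin n) (Fin n) F) *ᵥ (B *ᵥ u) = c • (B *ᵥ u) := by
    intro u hu
    rw [hgv, Matrix.mulVec_mulVec, mul_assoc, hAB, mul_one, ← Matrix.mulVec_mulVec, hu, Matrix.mulVec_smul]
  have hback : ∀ u, A *ᵥ (B *ᵥ u) = u := fun u => by rw [Matrix.mulVec_mulVec, hAB, Matrix.one_mulVec]
  have hv0 : B *ᵥ v ≠ 0 := fun h => by
    have := hback v
    rw [h, Matrix.mulVec_zero] at this
    exact hli.ne_zero 0 (by simpa using this.symm)
  obtain ⟨d, hd⟩ := eigen_le_one hK hn hP hgn hgns hv0 (hev v hv) (hev w hw)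
  have hwd : w = d • v := by rw [← hback w, hd, Matrix.mulVec_smul, hback]
  have := (LinearIndependent.pair_iff.1 hli) d (-1) (by rw [hwd, neg_one_smul, add_neg_cancel])
  exact neg_ne_zero.2 one_ne_zero this.2

end CfsgLib.SingerConj
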