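import Cfsg.Agent.Lib.Maximal99.SquareScalar
import Cfsg.Agent.Lib.QuadFin.Gram

/-!
Conjugation inside `SL(n)`, and determinants in the centraliser of a map with scalar square.
-/

set_option autoImplicit false

namespace CfsgLib.ConjTools

open Module Matrix

variable {F : Type*} [Field F] {V : Type*} [AddCommGroup V] [Module F V]

/-- A scalar can be split off: the centraliser of `T` has elements of every determinant. -/
def DetSurj (T : V →ₗ[F] V) : Prop :=
  ∀ c : F, c ≠ 0 → ∃ e : V ≃ₗ[F] V, (∀ v, e (T v) = T (e v)) ∧ LinearMap.det e.toLinearMap = c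

/-- An element of `SL(n)` whose centraliser has all determinants is conjugate inside `SL(n)` to anything it is
conjugate to. -/
theorem exists_sl_conj {n : ℕ} (x : SpecialLinearGroup (Fin n) F)
    (g : (Fin n → F) ≃ₗ[F] (Fin n → F)) (h : DetSurj (Matrix.toLin' (x : Matrix (Fin n) (Fin n) F))) :
    ∃ P : SpecialLinearGroup (Fin n) F, ∀ v,
      ((P⁻¹ * x * P : SpecialLinearGroup (Fin n) F) : Matrix (Fin n) (Fin n) F) *ᵥ v =
        g.symm ((x : Matrix (Fin n) (Fin n) F) *ᵥ g v) := by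
  obtain ⟨e, he, hed⟩ := h (LinearMap.det g.toLinearMap)⁻¹
    (inv_ne_zero (IsUnit.ne_zero (LinearEquiv.isUnit_det' g)))
  set g' := g.trans e with hg'
  have hdet : (LinearMap.toMatrix' g'.toLinearMap).det = 1 := by
    rw [LinearMap.det_toMatrix', hg', show (g.trans e).toLinearMap = e.toLinearMap.comp g.toLinearMap from rfl,
      LinearMap.det_comp, hed, inv_mul_cancel₀ (IsUnit.ne_zero (LinearEquiv.isUnit_det' g))]
  obtain ⟨P, hP⟩ : ∃ P : SpecialLinearGroup (Fin n) F, ∀ v, (P : Matrix (Fin n) (Fin n) F) *ᵥ v = g' v :=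
    ⟨⟨_, hdet⟩, fun v => by
      show LinearMap.toMatrix' g'.toLinearMap *ᵥ v = _
      rw [← Matrix.toLin'_apply, Matrix.toLin'_toMatrix']
      rfl⟩
  refine ⟨P, fun v => ?_⟩
  show (((P⁻¹ : SpecialLinearGroup (Fin n) F) : Matrix (Fin n) (Fin n) F) * (x : Matrix (Fin n) (Fin n) F) * (P : Matrix (Fin n) (Fin n) F)) *ᵥ v = _
  rw [← Matrix.mulVec_mulVec, ← Matrix.mulVec_mulVec, hP]
  have h1 : (x : Matrix (Fin n) (Fin n) F) *ᵥ (g' v) = g' (g.symm ((x : Matrix (Fin n) (Fin n) F) *ᵥ g v)) := by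
    rw [hg', LinearEquiv.trans_apply, LinearEquiv.trans_apply, LinearEquiv.apply_symm_apply, ← Matrix.toLin'_apply,
      ← Matrix.toLin'_apply, he]
  have h2 : ((P⁻¹ : SpecialLinearGroup (Fin n) F) : Matrix (Fin n) (Fin n) F) * (P : Matrix (Fin n) (Fin n) F) = 1 := by
    show ((P⁻¹ * P : SpecialLinearGroup (Fin n) F) : Matrix (Fin n) (Fin n) F) = 1
    rw [inv_mul_cancel]
    rfl
  rw [h1, ← hP, Matrix.mulVec_mulVec, h2, Matrix.one_mulVec]

section block

variable {ι : Type*} [Fintype ι] [DecidableEq ι]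

/-- The map acting by a square matrix on a subfamily of a basis and trivially on the rest. -/
theorem exists_block_map (b : Basis ι F V) {κ : Type*} [Fintype κ] [DecidableEq κ] (φ : κ → ι)
    (hφ : Function.Injective φ) (A : Matrix κ κ F) :
    ∃ L : V →ₗ[F] V, LinearMap.det L = A.det ∧ (∀ k, L (b (φ k)) = ∑ k', A k' k • b (φ k')) ∧
      ∀ i, i ∉ Set.range φ → L (b i) = b i := by
  classical
  let e : ι ≃ κ ⊕ ↥((Set.range φ)ᶜ : Set ι) :=
    (Equiv.Set.sumCompl (Set.range φ)).symm.trans ((Equiv.ofInjective φ hφ).symm.sumCongr (Equiv.refl _))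
  let b' := b.reindex e
  have hl : ∀ k, b' (.inl k) = b (φ k) := fun k => by simp [b', e, Equiv.ofInjective]
  have hr : ∀ i, b' (.inr i) = b i := fun i => by simp [b', e]
  refine ⟨Matrix.toLin b' b' (fromBlocks A 0 0 1), by rw [LinearMap.det_toLin, det_fromBlocks_zero₂₁, det_one, mul_one],
    fun k => ?_, fun i hi => ?_⟩
  · rw [← hl, Matrix.toLin_self, Fintype.sum_sum_type]
    simp [hl]
  · rw [← hr ⟨i, hi⟩, Matrix.toLin_self, Fintype.sum_sum_type]
    simp [Matrix.one_apply, ite_smul]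

lemma exists_equiv_of_det_ne_zero [FiniteDimensional F V] (L : V →ₗ[F] V) (h : LinearMap.det L ≠ 0) :
    ∃ e : V ≃ₗ[F] V, (∀ v, e v = L v) ∧ LinearMap.det e.toLinearMap = LinearMap.det L :=
  ⟨LinearMap.equivOfDetNeZero L h, fun v => by rfl, by rfl⟩

end block

open CfsgLib.SquareScalar

/-- An eigenvector in the pair basis makes the centraliser large. -/
theorem detSurj_of_eigen [FiniteDimensional F V] {T : V →ₗ[F] V} {z : F} {s l : ℕ} (hb : HasPairBasis T z s l)
    (hl : 0 < l) : DetSurj T := by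
  classical
  obtain ⟨b, μ, h1, h2, h3, -⟩ := hb
  intro c hc
  obtain ⟨L, hL, hLin, hLout⟩ := exists_block_map b (fun _ : Fin 1 => Sum.inr ⟨0, hl⟩)
    (Function.injective_of_subsingleton _) (Matrix.of fun _ _ => c)
  have hd : LinearMap.det L = c := by rw [hL, det_fin_one]; rfl
  obtain ⟨e, he, hed⟩ := exists_equiv_of_det_ne_zero L (hd ▸ hc)
  refine ⟨e, fun v => ?_, hed.trans hd⟩
  rw [he, he]
  refine LinearMap.congr_fun (b.ext (f₁ := L ∘ₗ T) (f₂ := T ∘ₗ L) fun i => ?_) v
  simp only [LinearMap.comp_apply]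
  have hsc : ∀ j : Fin l, ∃ d : F, L (b (.inr j)) = d • b (.inr j) := by
    intro j
    by_cases hj : j = ⟨0, hl⟩
    · exact ⟨c, by subst hj; simpa using hLin 0⟩
    · exact ⟨1, by rw [one_smul, hLout _ (by rintro ⟨_, h⟩; exact hj (Sum.inr.inj h).symm)]⟩
  rcases i with ⟨i, ε⟩ | j
  · cases ε
    · rw [h1, hLout _ (by simp), hLout _ (by simp), h1]
    · rw [h2, map_smul, hLout _ (by simp), hLout _ (by simp), h2]
  · obtain ⟨d, hd⟩ := hsc j
    rw [h3, map_smul, hd, map_smul, h3, smul_smul, smul_smul, mul_comm]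

/-- On one pair one finds every `α ^ 2 - z β ^ 2` as a determinant in the centraliser. -/
theorem exists_comm_det_pair [FiniteDimensional F V] {T : V →ₗ[F] V} {z : F} {s l : ℕ} (hb : HasPairBasis T z s l)
    (hs : 0 < s) (α β : F) (hne : α * α - z * (β * β) ≠ 0) :
    ∃ e : V ≃ₗ[F] V, (∀ v, e (T v) = T (e v)) ∧ LinearMap.det e.toLinearMap = α * α - z * (β * β) := by
  classical
  obtain ⟨b, μ, h1, h2, h3, -⟩ := hb
  let φ : Fin 2 → (Fin s × Bool) ⊕ Fin l := ![Sum.inl (⟨0, hs⟩, false), Sum.inl (⟨0, hs⟩, true)]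
  obtain ⟨L, hL, hLin, hLout⟩ := exists_block_map b φ (by intro i j; fin_cases i <;> fin_cases j <;> simp [φ])
    !![α, z * β; β, α]
  have hd : LinearMap.det L = α * α - z * (β * β) := by rw [hL, det_fin_two_of]; ring
  obtain ⟨e, he, hed⟩ := exists_equiv_of_det_ne_zero L (hd ▸ hne)
  refine ⟨e, fun v => ?_, hed.trans hd⟩
  have e0 : L (b (.inl (⟨0, hs⟩, false))) = α • b (.inl (⟨0, hs⟩, false)) + β • b (.inl (⟨0, hs⟩, true)) := by
    simpa [φ, Fin.sum_univ_two] using hLin 0
  have e1 : L (b (.inl (⟨0, hs⟩, true))) = (z * β) • b (.inl (⟨0, hs⟩, false)) + α • b (.inl (⟨0, hs⟩, true)) := by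
    simpa [φ, Fin.sum_univ_two] using hLin 1
  have hout : ∀ (i : Fin s) (ε : Bool), i ≠ ⟨0, hs⟩ → L (b (.inl (i, ε))) = b (.inl (i, ε)) := by
    intro i ε hi
    refine hLout _ ?_
    rintro ⟨k, hk⟩
    fin_cases k <;> simp [φ] at hk <;> exact hi hk.1.symm
  rw [he, he]
  refine LinearMap.congr_fun (b.ext (f₁ := L ∘ₗ T) (f₂ := T ∘ₗ L) fun i => ?_) v
  simp only [LinearMap.comp_apply]
  rcases i with ⟨i, ε⟩ | j
  · by_cases hi : i = ⟨0, hs⟩
    · subst hi
      cases ε
      · rw [h1, e1, e0, map_add, map_smul, map_smul, h1, h2, smul_smul, add_comm, mul_comm β z]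
      · rw [h2, map_smul, e0, e1, map_add, map_smul, map_smul, h1, h2, smul_add, smul_smul, smul_smul, smul_smul,
          add_comm, mul_comm z α]
    · cases ε
      · rw [h1, hout i true hi, hout i false hi, h1]
      · rw [h2, map_smul, hout i true hi, hout i false hi, h2]
  · have hj : L (b (.inr j)) = b (.inr j) := hLout _ (by rintro ⟨k, hk⟩; fin_cases k <;> simp [φ] at hk)
    rw [h3, map_smul, hj, h3]

/-- The centraliser has all determinants unless `T` consists of pairs over a square in odd characteristic. -/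
theorem detSurj [Fintype F] [FiniteDimensional F V] {T : V →ₗ[F] V} {z : F} {s l : ℕ} (hb : HasPairBasis T z s l)
    (hz : z ≠ 0) (hpos : 0 < s + l) (h : 0 < l ∨ (2 : F) = 0 ∨ ¬ IsSquare z) : DetSurj T := by
  rcases Nat.eq_zero_or_pos l with hl | hl
  · have hs : 0 < s := by omega
    intro c hc
    rcases h with h | h | h
    · omega
    · have hF : ringChar F = 2 := by
        refine CharP.ringChar_of_prime_eq_zero Nat.prime_two ?_
        exact_mod_cast h
      obtain ⟨α, rfl⟩ := FiniteField.isSquare_of_char_two hF c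
      obtain ⟨e, he, hed⟩ := exists_comm_det_pair hb hs α 0 (by simpa using hc)
      exact ⟨e, he, hed.trans (by ring)⟩
    · have h2 : (2 : F) ≠ 0 := by
        intro h2
        exact h (FiniteField.isSquare_of_char_two (CharP.ringChar_of_prime_eq_zero Nat.prime_two (by exact_mod_cast h2)) z)
      obtain ⟨α, β, hab⟩ := CfsgLib.QuadFin.exists_eq_one h2 c⁻¹ (-z * c⁻¹) (inv_ne_zero hc)
        (mul_ne_zero (neg_ne_zero.2 hz) (inv_ne_zero hc))
      have heq : α * α - z * (β * β) = c := by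
        field_simp at hab
        linear_combination hab
      obtain ⟨e, he, hed⟩ := exists_comm_det_pair hb hs α β (heq ▸ hc)
      exact ⟨e, he, hed.trans heq⟩
  · exact detSurj_of_eigen hb hl

/-- `-1` is an `n`-th power in the field with `q` elements, `q` odd, exactly when `(n)_2 < (q - 1)_2`. -/
theorem exists_pow_eq_neg_one_iff [Fintype F] {q n : ℕ} (hq : Fintype.card F = q) (h2 : (2 : F) ≠ 0) (hn : 0 < n) :
    (∃ c : F, c ^ n = -1) ↔ padicValNat 2 n < padicValNat 2 (q - 1) := by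
  classical
  have hq1 : 1 < q := by rw [← hq]; exact Fintype.one_lt_card
  have hne : (-1 : F) ≠ 1 := fun h => h2 (by linear_combination -h)
  have hcard : Nat.card Fˣ = q - 1 := by rw [Nat.card_eq_fintype_card, Fintype.card_units, hq]
  set a := padicValNat 2 n with ha
  obtain ⟨m, hm⟩ := pow_padicValNat_dvd (p := 2) (n := n)
  rw [← ha] at hm
  have hmodd : m % 2 = 1 := by
    by_contra hcon
    obtain ⟨m', rfl⟩ : 2 ∣ m := by omega
    have h' : 2 ^ (a + 1) ∣ n := ⟨m', by rw [hm]; ring⟩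
    rw [padicValNat_dvd_iff_le (by omega)] at h'
    omega
  constructor
  · rintro ⟨c, hc⟩
    have hc0 : c ≠ 0 := by rintro rfl; rw [zero_pow (by omega)] at hc; simp at hc
    let u := Units.mk0 c hc0
    have hu : orderOf u = orderOf c := (orderOf_units (y := u)).symm
    have hnd : ¬ orderOf u ∣ n := fun hd => by
      rw [hu, orderOf_dvd_iff_pow_eq_one, hc] at hd
      exact hne hd
    have h2n : orderOf u ∣ 2 * n := by
      rw [hu, orderOf_dvd_iff_pow_eq_one, mul_comm, pow_mul, hc, neg_one_sq]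
    have hdq : orderOf u ∣ q - 1 := hcard ▸ orderOf_dvd_natCard u
    have hpow : 2 ^ (a + 1) ∣ orderOf u := by
      by_contra hcon
      apply hnd
      obtain ⟨i, w, hwodd, hw⟩ := Nat.exists_eq_two_pow_mul_odd (orderOf_pos u).ne'
      rw [hw] at hcon h2n ⊢
      have hi : i ≤ a := by
        by_contra h'
        exact hcon (dvd_trans (pow_dvd_pow 2 (by omega)) (dvd_mul_right _ _))
      have hwn : w ∣ m := by
        have h4 : w ∣ 2 * n := dvd_trans (dvd_mul_left _ _) h2n
        rw [hm, ← mul_assoc, ← pow_succ'] at h4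
        exact (Nat.Coprime.pow_right _ (Nat.coprime_two_right.2 hwodd)).dvd_of_dvd_mul_left h4
      rw [hm]
      exact Nat.mul_dvd_mul (pow_dvd_pow 2 hi) hwn
    have := (padicValNat_dvd_iff_le (by omega : q - 1 ≠ 0)).1 (dvd_trans hpow hdq)
    omega
  · intro hlt
    have hd : 2 ^ (a + 1) ∣ q - 1 := (padicValNat_dvd_iff_le (by omega : q - 1 ≠ 0)).2 (by omega)
    obtain ⟨u, hu⟩ := IsCyclic.exists_ofOrder_eq_natCard (α := Fˣ)
    obtain ⟨k, hk⟩ := hd
    rw [hcard, hk] at hu
    have hu2 : orderOf (u ^ k) = 2 ^ (a + 1) := by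
      have hk0 : k ≠ 0 := by rintro rfl; omega
      rw [orderOf_pow' _ hk0, hu, Nat.gcd_eq_right (dvd_mul_left _ _), Nat.mul_div_cancel _ (Nat.pos_of_ne_zero hk0)]
    refine ⟨((u ^ k : Fˣ) : F), ?_⟩
    set y : F := (((u ^ k : Fˣ) : F)) ^ (2 ^ a) with hy
    have hy2 : y * y = 1 := by
      rw [hy, ← pow_add, ← two_mul, ← pow_succ', ← Units.val_pow_eq_pow_val, ← hu2, pow_orderOf_eq_one, Units.val_one]
    have hy1 : y ≠ 1 := by
      intro h
      have h' : (u ^ k) ^ (2 ^ a) = 1 := Units.ext (by rw [Units.val_pow_eq_pow_val]; exact h)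
      have := Nat.le_of_dvd (Nat.two_pow_pos a) (hu2 ▸ orderOf_dvd_of_pow_eq_one h')
      rw [pow_succ] at this
      have := Nat.two_pow_pos a
      omega
    have hy' : y = -1 := (mul_self_eq_one_iff.1 hy2).resolve_left hy1
    rw [hm, pow_mul, ← hy, hy']
    exact Odd.neg_one_pow (Nat.odd_iff.2 hmodd)

end CfsgLib.ConjTools
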