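import Cfsg.Prelude.Def_GeometricClasses
import Cfsg.Agent.Lib.GeomClasses.Decomp

/-!
Decompositions into equidimensional subspaces from a basis, and counting them.
-/

set_option autoImplicit false

namespace CfsgLib.BlockDecomp

open Module

variable {ι : Type} [Fintype ι] [DecidableEq ι] {F : Type*} [Field F]

/-- A basis with labelled vectors gives a decomposition; a map respecting the labels permutes it. -/
theorem of_basis {κ τ : Type*} [Fintype κ] [Fintype τ] [DecidableEq τ] {a t : ℕ} (ha : 0 < a) (ht : 2 ≤ t)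
    (hτ : Fintype.card τ = t) (b : Basis κ F (ι → F)) (β : κ → τ)
    (hfib : ∀ j, Fintype.card {k // β k = j} = a) (σ : Equiv.Perm τ) (T : (ι → F) →ₗ[F] (ι → F))
    (hinj : Function.Injective T) (hT : ∀ k, T (b k) ∈ Submodule.span F (b '' {l | β l = σ (β k)})) :
    ∃ D : Fin t → Submodule F (ι → F), Cfsg.Geo.IsMDecomposition a D ∧
      ∃ π : Equiv.Perm (Fin t), ∀ j, (D j).map T = D (π j) := by
  classical
  let e : Fin t ≃ τ := (Fintype.equivFinOfCardEq hτ).symm
  let D : Fin t → Submodule F (ι → F) := fun j => Submodule.span F (b '' {k | β k = e j})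
  have hdim : ∀ j, finrank F (D j) = a := by
    intro j
    have hset : b '' {k | β k = e j} = Set.range (b ∘ (Subtype.val : {k // β k = e j} → κ)) := by
      rw [Set.range_comp, Subtype.range_coe_subtype]
    show finrank F (Submodule.span F (b '' {k | β k = e j})) = a
    rw [hset, finrank_span_eq_card (b.linearIndependent.comp _ Subtype.val_injective), hfib]
  have hsup : iSup D = ⊤ := by
    rw [eq_top_iff, ← b.span_eq, Submodule.span_le]
    rintro _ ⟨k, rfl⟩
    exact (le_iSup D (e.symm (β k))) (Submodule.subset_span ⟨k, by simp, rfl⟩)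
  have hindep : iSupIndep D := by
    intro j
    refine Disjoint.mono_right ?_ (b.linearIndependent.disjoint_span_image
      (s := {k | β k = e j}) (t := {k | β k ≠ e j}) (Set.disjoint_left.2 fun k h h' => h' h))
    exact iSup₂_le fun j' hj' => Submodule.span_mono (Set.image_mono fun k (hk : β k = e j') h =>
      hj' (e.injective (hk.symm.trans h)))
  refine ⟨D, ⟨ht, ha, hdim, hindep, hsup⟩, (e.trans σ).trans e.symm, fun j => ?_⟩
  refine Submodule.eq_of_le_of_finrank_le ?_ ?_
  · rw [Submodule.map_span_le]
    rintro _ ⟨k, hk, rfl⟩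
    have := hT k
    rw [show β k = e j from hk] at this
    simpa [D] using this
  · rw [(Submodule.equivMapOfInjective T hinj (D j)).finrank_eq.symm, hdim, hdim]

variable {t a : ℕ}

theorem injective_of_isMDecomposition {D : Fin t → Submodule F (ι → F)} (hD : Cfsg.Geo.IsMDecomposition a D) :
    Function.Injective D := by
  intro i j h
  by_contra hne
  have hd := hD.indep.pairwiseDisjoint hne
  simp only [Function.onFun, h, disjoint_self] at hd
  have := hD.finrank_eq j
  rw [hd, finrank_bot] at this
  exact hD.pos.ne this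

/-- Any two decompositions differ by a linear automorphism. -/
theorem exists_equiv {D D' : Fin t → Submodule F (ι → F)} (hD : Cfsg.Geo.IsMDecomposition a D)
    (hD' : Cfsg.Geo.IsMDecomposition a D') :
    ∃ g : (ι → F) ≃ₗ[F] (ι → F), ∀ j, (D j).map g.toLinearMap = D' j := by
  classical
  let bas : ∀ j, Basis (Fin a) F (D j) := fun j => Module.finBasisOfFinrankEq F _ (hD.finrank_eq j)
  let bas' : ∀ j, Basis (Fin a) F (D' j) := fun j => Module.finBasisOfFinrankEq F _ (hD'.finrank_eq j)
  let b := (GeomClasses.Decomp.isInternal hD).collectedBasis bas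
  let b' := (GeomClasses.Decomp.isInternal hD').collectedBasis bas'
  refine ⟨b.equiv b' (Equiv.refl _), fun j => ?_⟩
  have hspan : ∀ (E : Submodule F (ι → F)) (c : Basis (Fin a) F E), Submodule.span F (Set.range fun i => (c i : ι → F)) = E := by
    intro E c
    rw [show Set.range (fun i => (c i : ι → F)) = E.subtype '' Set.range c by rw [← Set.range_comp]; rfl,
      Submodule.span_image, c.span_eq, Submodule.map_subtype_top]
  conv_lhs => rw [← hspan (D j) (bas j)]
  conv_rhs => rw [← hspan (D' j) (bas' j)]
  rw [Submodule.map_span, ← Set.range_comp]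
  congr 2
  funext i
  have e1 : b ⟨j, i⟩ = (bas j i : ι → F) := congrFun ((GeomClasses.Decomp.isInternal hD).collectedBasis_coe bas) ⟨j, i⟩
  have e2 : b' ⟨j, i⟩ = (bas' j i : ι → F) := congrFun ((GeomClasses.Decomp.isInternal hD').collectedBasis_coe bas') ⟨j, i⟩
  show b.equiv b' (Equiv.refl _) (bas j i : ι → F) = _
  rw [← e1, Basis.equiv_apply, Equiv.refl_apply, e2]

/-- A prime dividing the number of unordered decompositions divides the order of the general linear group. -/
theorem dvd_card_gl [Finite F] {r : ℕ} (ha : 0 < a) (ht : 2 ≤ t) (hn : Fintype.card ι = a * t)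
    (h : r ∣ Nat.card {D : Fin t → Submodule F (ι → F) // Cfsg.Geo.IsMDecomposition a D} / Nat.factorial t) :
    r ∣ Nat.card (GL ι F) := by
  classical
  set S := {D : Fin t → Submodule F (ι → F) // Cfsg.Geo.IsMDecomposition a D} with hS
  have hperm : ∀ (π : Equiv.Perm (Fin t)) (D : S), Cfsg.Geo.IsMDecomposition a (D.1 ∘ π) := fun π D =>
    ⟨D.2.two_le, D.2.pos, fun i => D.2.finrank_eq _, D.2.indep.comp π.injective, by
      rw [← D.2.iSup_eq_top]; exact Equiv.iSup_comp π⟩
  letI : MulAction (Equiv.Perm (Fin t)) S :=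
    { smul := fun π D => ⟨D.1 ∘ π.symm, hperm π.symm D⟩
      one_smul := fun D => rfl
      mul_smul := fun π π' D => rfl }
  have hfree : ∀ D : S, MulAction.stabilizer (Equiv.Perm (Fin t)) D = ⊥ := by
    intro D
    refine (Subgroup.eq_bot_iff_forall _).2 fun π hπ => Equiv.ext fun j => ?_
    have hπ' : D.1 ∘ π.symm = D.1 := congrArg Subtype.val hπ
    have := injective_of_isMDecomposition D.2 (congrFun hπ' (π j))
    simpa using this.symm
  have hN : Nat.card S = Nat.card (Quotient (MulAction.orbitRel (Equiv.Perm (Fin t)) S)) * t.factorial := by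
    rw [Nat.card_congr (MulAction.selfEquivOrbitsQuotientProd hfree), Nat.card_prod, Nat.card_perm, Nat.card_fin]
  rw [hN, Nat.mul_div_cancel _ t.factorial_pos] at h
  have hdvd : r ∣ Nat.card S := hN ▸ h.mul_right _
  obtain ⟨D₀⟩ : Nonempty S := by
    obtain ⟨D, hD, -⟩ := of_basis ha ht (Fintype.card_fin t)
      ((Pi.basisFun F ι).reindex (Fintype.equivOfCardEq (β := Fin t × Fin a) (by simp [hn, mul_comm])))
      Prod.fst (fun j => by
        rw [Fintype.card_congr (show {k : Fin t × Fin a // k.1 = j} ≃ Fin a from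
          { toFun := fun k => k.1.2, invFun := fun i => ⟨(j, i), rfl⟩,
            left_inv := fun k => Subtype.ext (Prod.ext k.2.symm rfl), right_inv := fun i => rfl }), Fintype.card_fin])
      1 LinearMap.id Function.injective_id (fun k => Submodule.subset_span ⟨k, rfl, rfl⟩)
    exact ⟨⟨D, hD⟩⟩
  have : Finite ((ι → F) ≃ₗ[F] (ι → F)) := Finite.of_injective (fun g v => g v) DFunLike.coe_injective
  let π : ((ι → F) ≃ₗ[F] (ι → F)) → S := fun g => ⟨fun j => (D₀.1 j).map g.toLinearMap,
    ⟨D₀.2.two_le, D₀.2.pos, fun i => by rw [LinearEquiv.finrank_map_eq]; exact D₀.2.finrank_eq i,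
      fun i => by
        have h1 : Disjoint ((D₀.1 i).map g.toLinearMap) ((⨆ (j : Fin t) (_ : j ≠ i), D₀.1 j).map g.toLinearMap) := by
          rw [disjoint_iff, ← Submodule.map_inf _ g.injective, (D₀.2.indep i).eq_bot, Submodule.map_bot]
        simpa [Submodule.map_iSup] using h1,
      by rw [← Submodule.map_iSup, D₀.2.iSup_eq_top, Submodule.map_top, LinearEquiv.range]⟩⟩
  have hfib : ∀ D : S, Nat.card {g // π g = D} = Nat.card {g // π g = D₀} := by
    intro D
    obtain ⟨g₀, hg₀⟩ := exists_equiv D₀.2 D.2
    have hinj : ∀ E : Submodule F (ι → F), (E.map g₀.toLinearMap).map g₀.symm.toLinearMap = E := fun E => by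
      rw [← Submodule.map_comp]; simp
    refine Nat.card_congr
      { toFun := fun g => ⟨g.1.trans g₀.symm, Subtype.ext (funext fun j => ?_)⟩
        invFun := fun g => ⟨g.1.trans g₀, Subtype.ext (funext fun j => ?_)⟩
        left_inv := fun g => Subtype.ext (LinearEquiv.ext fun v => by simp)
        right_inv := fun g => Subtype.ext (LinearEquiv.ext fun v => by simp) }
    · have hg := congrFun (congrArg Subtype.val g.2) j
      show (D₀.1 j).map (g.1.trans g₀.symm).toLinearMap = _
      rw [show (g.1.trans g₀.symm).toLinearMap = g₀.symm.toLinearMap ∘ₗ g.1.toLinearMap from rfl, Submodule.map_comp]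
      rw [show (D₀.1 j).map g.1.toLinearMap = D.1 j from hg, ← hg₀, hinj]
    · have hg := congrFun (congrArg Subtype.val g.2) j
      show (D₀.1 j).map (g.1.trans g₀).toLinearMap = _
      rw [show (g.1.trans g₀).toLinearMap = g₀.toLinearMap ∘ₗ g.1.toLinearMap from rfl, Submodule.map_comp]
      rw [show (D₀.1 j).map g.1.toLinearMap = D₀.1 j from hg, hg₀]
  have : Fintype S := Fintype.ofFinite _
  have hcard : Nat.card ((ι → F) ≃ₗ[F] (ι → F)) = Nat.card S * Nat.card {g // π g = D₀} := by
    rw [← Nat.card_congr (Equiv.sigmaFiberEquiv π), Nat.card_sigma, Finset.sum_congr rfl (fun D _ => hfib D),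
      Finset.sum_const, Finset.card_univ, smul_eq_mul, Nat.card_eq_fintype_card (α := S)]
  rw [Nat.card_congr (Matrix.GeneralLinearGroup.toLin.trans
    (LinearMap.GeneralLinearGroup.generalLinearEquiv F (ι → F))).toEquiv, hcard]
  exact hdvd.mul_right _

end CfsgLib.BlockDecomp
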