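import Cfsg.Agent.Lib.Maximal99.OrderR

/-!
Elements of prime order `r` of `SL(n)` over a field with `q` elements, with smallest possible moving space.
-/

set_option autoImplicit false

namespace CfsgLib.OrderElt

open Module Matrix

variable {F : Type*} [Field F] [Fintype F]

/-- `GL(i)` has an element of order `r` without fixed vectors, when `i` is the order of `q` modulo `r`. -/
theorem exists_fixedFree {r q i : ℕ} [Fact r.Prime] (hq : Fintype.card F = q) (hi : i = orderOf (q : ZMod r))
    (hi0 : 0 < i) :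
    ∃ y : Matrix (Fin i) (Fin i) F, y ^ r = 1 ∧ ∀ v : Fin i → F, y *ᵥ v = v → v = 0 := by
  classical
  have hq1 : 1 ≤ q := by rw [← hq]; exact Fintype.card_pos
  have hdvd : r ∣ Nat.card (GL (Fin i) F) := by
    rw [Matrix.card_GL_field, hq]
    refine dvd_trans ?_ (Finset.dvd_prod_of_mem _ (Finset.mem_univ (⟨0, hi0⟩ : Fin i)))
    rw [pow_zero]
    exact (CfsgLib.OrderR.orderOf_dvd_iff hq1).1 (dvd_of_eq hi.symm)
  obtain ⟨y, hy⟩ := exists_prime_orderOf_dvd_card' r hdvd
  have hy1 : ((y : Matrix (Fin i) (Fin i) F)) ^ r = 1 := by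
    rw [← Units.val_pow_eq_pow_val, ← hy, pow_orderOf_eq_one, Units.val_one]
  refine ⟨y, hy1, ?_⟩
  set T : Module.End F (Fin i → F) := Matrix.toLinAlgEquiv' (y : Matrix (Fin i) (Fin i) F) with hTdef
  have hT : T ^ r = 1 := by rw [hTdef, ← map_pow, hy1, map_one]
  have hr : (T - 1) ≠ 0 := by
    intro h
    rw [sub_eq_zero, hTdef, ← map_one (Matrix.toLinAlgEquiv' (R := F) (n := Fin i)), EmbeddingLike.apply_eq_iff_eq] at h
    rw [show y = 1 from Units.ext h, orderOf_one] at hy
    exact (Fact.out : r.Prime).one_lt.ne hy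
  have hr0 : (r : F) ≠ 0 := by
    obtain ⟨p, hp⟩ := CharP.exists F
    have : Fact p.Prime := ⟨CharP.char_is_prime F p⟩
    refine CfsgLib.OrderR.cast_ne_zero (p := p) fun h => ?_
    subst h
    obtain ⟨e, -, he⟩ := FiniteField.card F r
    rw [hq] at he
    have : (q : ZMod r) = 0 := by rw [he, Nat.cast_pow, ZMod.natCast_self, zero_pow e.ne_zero]
    rw [this] at hi
    rw [hi, orderOf_eq_zero_iff'.2 (fun n hn => by rw [zero_pow (by omega)]; exact zero_ne_one)] at hi0
    exact lt_irrefl _ hi0
  have hcompl := CfsgLib.OrderR.isCompl_fix_move T hT hr0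
  have hdim := Submodule.finrank_add_eq_of_isCompl hcompl
  rw [Module.finrank_fin_fun] at hdim
  have hinv : (LinearMap.range (T - 1)).map T ≤ LinearMap.range (T - 1) := by
    rintro _ ⟨_, ⟨w, rfl⟩, rfl⟩
    exact ⟨T w, by simp⟩
  have hX : i ∣ finrank F ↥(LinearMap.range (T - 1)) := by
    refine hi.dvd.trans ?_
    refine CfsgLib.OrderR.orderOf_dvd_finrank T hq hT _ hinv fun v hv hfix => ?_
    exact Submodule.disjoint_def.1 hcompl.disjoint v (by simp [hfix]) hv
  have hpos : 0 < finrank F ↥(LinearMap.range (T - 1)) := by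
    rw [Nat.pos_iff_ne_zero, Ne, Submodule.finrank_eq_zero, LinearMap.range_eq_bot]
    exact hr
  have := Nat.le_of_dvd hpos hX
  intro v hv
  have hker : LinearMap.ker (T - 1) = ⊥ := Submodule.finrank_eq_zero.1 (by omega)
  have : v ∈ LinearMap.ker (T - 1) := by
    simp [hTdef, Matrix.toLinAlgEquiv'_apply, hv]
  rwa [hker, Submodule.mem_bot] at this

/-- `SL(n)` has an element of order `r` whose moving space has dimension exactly `i`, when `i > 1` is the order of `q`
modulo `r`. -/
theorem exists_sl_move {r q i n : ℕ} [Fact r.Prime] (hq : Fintype.card F = q) (hi : i = orderOf (q : ZMod r))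
    (hi1 : 1 < i) (hin : i ≤ n) :
    ∃ x : Matrix.SpecialLinearGroup (Fin n) F, ((x : Matrix (Fin n) (Fin n) F)) ^ r = 1 ∧
      finrank F ↥(LinearMap.ker (Matrix.toLinAlgEquiv' (x : Matrix (Fin n) (Fin n) F) - 1 : Module.End F (Fin n → F))) = n - i := by
  classical
  obtain ⟨y, hy1, hy2⟩ := exists_fixedFree hq hi (by omega)
  have hq1 : 1 ≤ q := by rw [← hq]; exact Fintype.card_pos
  have hdet : y.det = 1 := by
    have h1 : y.det ^ r = 1 := by rw [← Matrix.det_pow, hy1, Matrix.det_one]
    have h0 : y.det ≠ 0 := by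
      intro h; rw [h, zero_pow (Fact.out : r.Prime).ne_zero] at h1; exact zero_ne_one h1
    have h2 : y.det ^ (q - 1) = 1 := hq ▸ FiniteField.pow_card_sub_one_eq_one _ h0
    have h3 : Nat.gcd r (q - 1) = 1 := by
      refine ((Fact.out : r.Prime).coprime_iff_not_dvd).2 fun hd => ?_
      have : orderOf (q : ZMod r) ∣ 1 := (CfsgLib.OrderR.orderOf_dvd_iff hq1).2 (by rwa [pow_one])
      rw [← hi, Nat.dvd_one] at this
      omega
    have := pow_gcd_eq_one.2 ⟨h1, h2⟩
    rwa [h3, pow_one] at this
  obtain ⟨k, rfl⟩ : ∃ k, n = i + k := ⟨n - i, by omega⟩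
  let B : Matrix (Fin i ⊕ Fin k) (Fin i ⊕ Fin k) F := Matrix.fromBlocks y 0 0 1
  let φ := Matrix.reindexAlgEquiv F F (finSumFinEquiv (m := i) (n := k))
  have hB : B ^ r = 1 := by
    rw [show B = Matrix.fromBlocks y 0 0 1 from rfl, Matrix.fromBlocks_diagonal_pow, hy1, one_pow,
      Matrix.fromBlocks_one]
  refine ⟨⟨φ B, by rw [Matrix.det_reindexAlgEquiv, Matrix.det_fromBlocks_zero₂₁, hdet, Matrix.det_one, one_mul]⟩,
    by show φ B ^ r = 1; rw [← map_pow, hB, map_one], ?_⟩
  let L : (Fin k → F) →ₗ[F] (Fin (i + k) → F) :=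
    { toFun := fun w j => Sum.elim (0 : Fin i → F) w (finSumFinEquiv.symm j)
      map_add' := fun u w => funext fun j => by
        rcases h : finSumFinEquiv.symm j with a | a <;> simp [h]
      map_smul' := fun c w => funext fun j => by
        rcases h : finSumFinEquiv.symm j with a | a <;> simp [h] }
  have hL : Function.Injective L := fun u w h => funext fun a => by
    simpa [L] using congrFun h (finSumFinEquiv (Sum.inr a))
  have hφ : ∀ v : Fin (i + k) → F, φ B *ᵥ v = fun j => (B *ᵥ (v ∘ finSumFinEquiv)) (finSumFinEquiv.symm j) := fun v => by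
    funext j
    rw [Matrix.mulVec, dotProduct, Matrix.mulVec, dotProduct, ← Equiv.sum_comp (finSumFinEquiv (m := i) (n := k))]
    simp [φ]
  have hrange : LinearMap.range L =
      LinearMap.ker (Matrix.toLinAlgEquiv' (φ B) - 1 : Module.End F (Fin (i + k) → F)) := by
    ext v
    simp only [LinearMap.mem_range, LinearMap.mem_ker, LinearMap.sub_apply, Module.End.one_apply, sub_eq_zero,
      Matrix.toLinAlgEquiv'_apply, hφ]
    constructor
    · rintro ⟨w, rfl⟩
      funext j
      have e : (L w) ∘ finSumFinEquiv = Sum.elim (0 : Fin i → F) w := funext fun a => by simp [L]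
      rw [e, show B = Matrix.fromBlocks y 0 0 1 from rfl, Matrix.fromBlocks_mulVec]
      simp [L]
    · intro h
      have h' : B *ᵥ (v ∘ finSumFinEquiv) = v ∘ finSumFinEquiv := funext fun a => by
        simpa using congrFun h (finSumFinEquiv a)
      rw [show B = Matrix.fromBlocks y 0 0 1 from rfl, Matrix.fromBlocks_mulVec] at h'
      refine ⟨fun a => v (finSumFinEquiv (Sum.inr a)), funext fun j => ?_⟩
      obtain ⟨a | a, rfl⟩ := (finSumFinEquiv (m := i) (n := k)).surjective j
      · have := congrFun (hy2 ((v ∘ finSumFinEquiv) ∘ Sum.inl) (funext fun b => by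
          simpa using congrFun h' (Sum.inl b))) a
        have e : v (finSumFinEquiv (Sum.inl a)) = 0 := this
        rw [e]
        simp [L]
      · simp [L]
  show finrank F ↥(LinearMap.ker (Matrix.toLinAlgEquiv' (φ B) - 1 : Module.End F (Fin (i + k) → F))) = _
  rw [← hrange, LinearMap.finrank_range_of_inj hL, Module.finrank_fin_fun, Nat.add_sub_cancel_left]

end CfsgLib.OrderElt
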