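import Cfsg.Agent.Lib.Maximal99.SemiR
import Cfsg.Agent.Lib.Sp.Card
import Cfsg.Agent.S0752

/-!
Isometries of prime order `r` of alternating forms, `r` prime to `q`: orthogonal splittings and witnesses.
-/

set_option autoImplicit false

namespace CfsgLib.SympSemiR

open Module Polynomial
open LinearMap (BilinForm)

variable {F : Type*} [Field F] {V : Type*} [AddCommGroup V] [Module F V] [FiniteDimensional F V]
  (B : BilinForm F V)

/-- Non-degenerate on a subspace. -/
def Nd (W : Submodule F V) : Prop := ∀ u ∈ W, (∀ v ∈ W, B u v = 0) → u = 0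

variable {B} (hA : B.IsAlt)
include hA

lemma mem_orth {W : Submodule F V} {x : V} : x ∈ B.orthogonal W ↔ ∀ w ∈ W, B x w = 0 :=
  forall₂_congr fun w _ => by
    show B w x = 0 ↔ _
    rw [CfsgLib.Sp.alt_flip hA x w, neg_eq_zero]

lemma nd_even {W : Submodule F V} (hW : Nd B W) : Even (finrank F W) := by
  obtain ⟨m, k, b, -, -, -, h4⟩ := Cfsg.Agent.S0752.result (B.restrict W) (fun v => hA v)
  rcases Nat.eq_zero_or_pos k with rfl | hk
  · exact ⟨m, by simpa using Module.finrank_eq_card_basis b⟩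
  · exact absurd (Subtype.ext (hW _ (b (Sum.inr ⟨0, hk⟩)).2 fun v hv => h4 ⟨0, hk⟩ ⟨v, hv⟩)) (b.ne_zero _)

lemma nd_sup {W₁ W₂ : Submodule F V} (h₁ : Nd B W₁) (h₂ : Nd B W₂) (h : ∀ u ∈ W₁, ∀ v ∈ W₂, B u v = 0) :
    Nd B (W₁ ⊔ W₂) ∧ finrank F ↥(W₁ ⊔ W₂) = finrank F W₁ + finrank F W₂ := by
  have h' : ∀ v ∈ W₂, ∀ u ∈ W₁, B v u = 0 := fun v hv u hu => by
    rw [CfsgLib.Sp.alt_flip hA u v, h u hu v hv, neg_zero]
  refine ⟨fun x hx hall => ?_, ?_⟩
  · obtain ⟨a, ha, b, hb, rfl⟩ := Submodule.mem_sup.1 hx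
    have ha0 : a = 0 := h₁ a ha fun v hv => by simpa [h' b hb v hv] using hall v (Submodule.mem_sup_left hv)
    have hb0 : b = 0 := h₂ b hb fun v hv => by simpa [h a ha v hv] using hall v (Submodule.mem_sup_right hv)
    rw [ha0, hb0, add_zero]
  · have hd : W₁ ⊓ W₂ = ⊥ := (Submodule.eq_bot_iff _).2 fun x hx => h₁ x hx.1 fun v hv => h' x hx.2 v hv
    have := Submodule.finrank_sup_add_finrank_inf_eq W₁ W₂
    rw [hd, finrank_bot, add_zero] at this
    exact this

lemma nd_inf_orth {R W : Submodule F V} (hR : Nd B R) (hW : Nd B W) (hWR : W ≤ R) :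
    Nd B (R ⊓ B.orthogonal W) ∧ finrank F R = finrank F W + finrank F ↥(R ⊓ B.orthogonal W) := by
  let f : R →ₗ[F] Module.Dual F W := W.subtype.dualMap ∘ₗ B ∘ₗ R.subtype
  have hf : ∀ (x : R) (w : W), f x w = B x w := fun _ _ => rfl
  let g : W →ₗ[F] Module.Dual F W := f ∘ₗ Submodule.inclusion hWR
  have hg : Function.Injective g := (injective_iff_map_eq_zero _).2 fun w hw =>
    Subtype.ext (hW w w.2 fun v hv => LinearMap.congr_fun hw ⟨v, hv⟩)
  have hgs : Function.Surjective g :=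
    (LinearMap.injective_iff_surjective_of_finrank_eq_finrank Subspace.dual_finrank_eq.symm).1 hg
  have hfs : Function.Surjective f := fun φ => let ⟨w, hw⟩ := hgs φ; ⟨_, hw⟩
  refine ⟨fun x hx hall => hR x hx.1 fun y hy => ?_, ?_⟩
  · obtain ⟨w, hw⟩ := hgs (f ⟨y, hy⟩)
    have hy' : y - (w : V) ∈ R ⊓ B.orthogonal W := ⟨R.sub_mem hy (hWR w.2), (mem_orth hA).2 fun v hv => by
      have := LinearMap.congr_fun hw ⟨v, hv⟩
      rw [map_sub, LinearMap.sub_apply, sub_eq_zero]
      exact this.symm⟩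
    have h1 := hall _ hy'
    rw [map_sub, (mem_orth hA).1 hx.2 w w.2, sub_zero] at h1
    exact h1
  · have hd := LinearMap.finrank_range_add_finrank_ker f
    have hker : LinearMap.ker f = (R ⊓ B.orthogonal W).comap R.subtype := by
      ext x
      simp only [LinearMap.mem_ker, Submodule.mem_comap, Submodule.mem_inf, Submodule.coe_subtype, x.2, true_and,
        mem_orth hA]
      exact ⟨fun h w hw => LinearMap.congr_fun h ⟨w, hw⟩, fun h => LinearMap.ext fun w => h w w.2⟩
    rw [LinearMap.range_eq_top.2 hfs, finrank_top, Subspace.dual_finrank_eq, hker,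
      (Submodule.comapSubtypeEquivOfLe (inf_le_left : R ⊓ B.orthogonal W ≤ R)).finrank_eq] at hd
    exact hd.symm

/-- A non-zero non-degenerate subspace contains a non-degenerate plane. -/
lemma exists_plane {U : Submodule F V} (hU : Nd B U) (hne : U ≠ ⊥) : ∃ W ≤ U, Nd B W ∧ finrank F W = 2 := by
  obtain ⟨u, hu, hu0⟩ := U.exists_mem_ne_zero_of_ne_bot hne
  obtain ⟨v, hv, huv⟩ : ∃ v ∈ U, B u v ≠ 0 := by
    by_contra h
    push Not at h
    exact hu0 (hU u hu h)
  have hvu : B v u ≠ 0 := by rw [CfsgLib.Sp.alt_flip hA u v]; simpa using huv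
  refine ⟨Submodule.span F {u, v}, Submodule.span_le.2 (Set.insert_subset hu (by simpa using hv)), ?_, ?_⟩
  · intro x hx hall
    obtain ⟨a, b, rfl⟩ := Submodule.mem_span_pair.1 hx
    have h1 := hall u (Submodule.subset_span (by simp))
    have h2 := hall v (Submodule.subset_span (by simp))
    simp only [map_add, map_smul, LinearMap.add_apply, LinearMap.smul_apply, smul_eq_mul, hA.self_eq_zero u,
      hA.self_eq_zero v, mul_zero, zero_add, add_zero, mul_eq_zero, huv, hvu, or_false] at h1 h2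
    simp [h1, h2]
  · have hli : LinearIndependent F ![u, v] := LinearIndependent.pair_iff.2 fun s t hst => by
      have h1 := congrArg (fun x => B x u) hst
      have h2 := congrArg (fun x => B x v) hst
      simp only [map_add, map_smul, LinearMap.add_apply, LinearMap.smul_apply, smul_eq_mul, hA.self_eq_zero u,
        hA.self_eq_zero v, mul_zero, zero_add, add_zero, mul_eq_zero, huv, hvu, or_false, map_zero,
        LinearMap.zero_apply] at h1 h2
      exact ⟨h2, h1⟩
    rw [show ({u, v} : Set V) = Set.range ![u, v] by simp [Set.pair_comm], finrank_span_eq_card hli, Fintype.card_fin]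

omit hA [FiniteDimensional F V] in
lemma pow_mem {T : Module.End F V} {W : Submodule F V} (hW : ∀ x ∈ W, T x ∈ W) :
    ∀ (n : ℕ), ∀ x ∈ W, (T ^ n) x ∈ W := by
  intro n
  induction n with
  | zero => intro x hx; simpa using hx
  | succ n ih => intro x hx; rw [pow_succ', Module.End.mul_apply]; exact hW _ (ih x hx)

variable {T : Module.End F V} (hTB : ∀ v w, B (T v) (T w) = B v w) {r : ℕ} [Fact r.Prime] (hT : T ^ r = 1)
include hTB

omit hA [FiniteDimensional F V] in
lemma isometry_pow : ∀ (n : ℕ) v w, B ((T ^ n) v) ((T ^ n) w) = B v w := by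
  intro n
  induction n with
  | zero => intro v w; simp
  | succ n ih => intro v w; rw [pow_succ', Module.End.mul_apply, Module.End.mul_apply, hTB, ih]

include hT

omit hA [FiniteDimensional F V] in
lemma adjoint (n : ℕ) (v w : V) : B ((T ^ n) v) w = B v (((T ^ (r - 1)) ^ n) w) := by
  conv_rhs => rw [← isometry_pow hTB n]
  congr 1
  rw [← Module.End.mul_apply, ← pow_mul, ← pow_add, show n + (r - 1) * n = r * n by
    have := (Fact.out : r.Prime).pos
    conv_rhs => rw [show r = r - 1 + 1 by omega, add_mul, one_mul]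
    ring, pow_mul, hT, one_pow, Module.End.one_apply]

lemma orth_inv {W : Submodule F V} (hW : ∀ x ∈ W, T x ∈ W) : ∀ x ∈ B.orthogonal W, T x ∈ B.orthogonal W := by
  intro x hx w hw
  show B w (T x) = 0
  have h1 : B w (T x) = B ((T ^ (r - 1)) w) x := by
    rw [← hTB ((T ^ (r - 1)) w) x, ← Module.End.mul_apply, ← pow_succ',
      Nat.sub_add_cancel (Fact.out : r.Prime).pos, hT, Module.End.one_apply]
  rw [h1]
  exact hx _ (pow_mem hW _ w hw)

omit hA [FiniteDimensional F V] hT in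
lemma fix_orth_move {v : V} (hv : v ∈ LinearMap.ker (T - 1)) {w : V} (hw : w ∈ LinearMap.range (T - 1)) :
    B v w = 0 := by
  obtain ⟨y, rfl⟩ := hw
  have hv' : T v = v := by simpa [sub_eq_zero] using hv
  rw [LinearMap.sub_apply, Module.End.one_apply, map_sub, sub_eq_zero]
  conv_rhs => rw [← hTB v y, hv']

lemma nd_fix_move (hr0 : (r : F) ≠ 0) (hV : Nd B (⊤ : Submodule F V)) :
    Nd B (LinearMap.ker (T - 1)) ∧ Nd B (LinearMap.range (T - 1)) := by
  have hc := CfsgLib.OrderR.isCompl_fix_move T hT hr0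
  constructor
  all_goals
    intro u hu hall
    refine hV u Submodule.mem_top fun v _ => ?_
    obtain ⟨a, ha, b, hb, rfl⟩ := Submodule.mem_sup.1 (show v ∈ LinearMap.ker (T - 1) ⊔ LinearMap.range (T - 1) by
      rw [hc.sup_eq_top]; exact Submodule.mem_top)
  · rw [map_add, hall a ha, fix_orth_move hTB hu hb, add_zero]
  · rw [map_add, hall b hb, CfsgLib.Sp.alt_flip hA a u, fix_orth_move hTB ha hu, neg_zero, add_zero]

omit hA hTB in
lemma inf_fix_sup_map (hr0 : (r : F) ≠ 0) {U : Submodule F V} (hU : ∀ x ∈ U, T x ∈ U) :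
    (U ⊓ LinearMap.ker (T - 1)) ⊔ U.map (T - 1) = U := by
  have hle : U.map (T - 1) ≤ U := by
    rintro _ ⟨x, hx, rfl⟩
    exact U.sub_mem (hU x hx) hx
  refine Submodule.eq_of_le_of_finrank_le (sup_le inf_le_left hle) ?_
  have h1 := Submodule.finrank_sup_add_finrank_inf_eq (U ⊓ LinearMap.ker (T - 1)) (U.map (T - 1))
  have h2 : (U ⊓ LinearMap.ker (T - 1)) ⊓ U.map (T - 1) = ⊥ := ((CfsgLib.OrderR.disjoint_fix_move T hT hr0).mono
    inf_le_right LinearMap.map_le_range).eq_bot
  rw [h2, finrank_bot, add_zero] at h1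
  have h3 := LinearMap.finrank_range_add_finrank_ker ((T - 1).domRestrict U)
  have h4 : LinearMap.range ((T - 1).domRestrict U) = U.map (T - 1) := LinearMap.range_domRestrict U (T - 1)
  have h5 : LinearMap.ker ((T - 1).domRestrict U) = (U ⊓ LinearMap.ker (T - 1)).comap U.subtype := by
    ext x; simp [LinearMap.domRestrict_apply]
  rw [h4, h5, (Submodule.comapSubtypeEquivOfLe (inf_le_left : U ⊓ LinearMap.ker (T - 1) ≤ U)).finrank_eq] at h3
  omega

variable [Fintype F] {q i c : ℕ} (hq : Fintype.card F = q) (hi : i = orderOf (q : ZMod r))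
  (hc : c = if Even i then i else 2 * i)
include hq hi

/-- Each vector of a fixed-point-free invariant subspace is in a span of pieces of dimension `i`. -/
lemma exists_irred (hi0 : 0 < i) (hr0 : (r : F) ≠ 0) {U : Submodule F V} (hTU : ∀ x ∈ U, T x ∈ U)
    (hfix : ∀ v ∈ U, T v = v → v = 0) (f : V →ₗ[F] F) (hf : ∃ x ∈ U, f x ≠ 0) :
    ∃ X : Submodule F V, X ≤ U ∧ (∀ x ∈ X, T x ∈ X) ∧ finrank F X = i ∧
      (∃ g : F[X], g.natDegree = i ∧ g.Monic ∧ ∀ x ∈ X, aeval T g x = 0) ∧ ∃ x ∈ X, f x ≠ 0 := by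
  classical
  let T' : Module.End F U := T.restrict hTU
  have hT' : ∀ (n : ℕ) (x : U), (((T' ^ n) x : U) : V) = (T ^ n) x := by
    intro n
    induction n with
    | zero => intro x; simp
    | succ n ih => intro x; rw [pow_succ', Module.End.mul_apply, pow_succ', Module.End.mul_apply, ← ih]; rfl
  have hT'r : T' ^ r = 1 := LinearMap.ext fun x => Subtype.ext (by rw [hT', hT]; rfl)
  obtain ⟨e, k, b, v, g, hb, -, hg, hpiece, -, -, hk⟩ :=
    CfsgLib.SemiR.exists_cyclic_basis hq hi hi0 hr0 T' hT'r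
  have hk0 : k = 0 := by
    have : LinearMap.ker (T' - 1) = ⊥ := (Submodule.eq_bot_iff _).2 fun x hx => Subtype.ext <| hfix x x.2 <| by
      have := congrArg Subtype.val (show (T' - 1) x = 0 from hx)
      simpa [sub_eq_zero, T'] using this
    rw [← hk, this, finrank_bot]
  subst hk0
  obtain ⟨l, hl⟩ : ∃ l, f (b l : V) ≠ 0 := by
    by_contra h
    push Not at h
    obtain ⟨x, hx, hfx⟩ := hf
    have hz : f ∘ₗ U.subtype = 0 := b.ext fun l => h l
    exact hfx (LinearMap.congr_fun hz ⟨x, hx⟩)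
  rcases l with ⟨l, j⟩ | l
  swap
  · exact l.elim0
  let w : Fin i → V := fun j => (b (.inl (l, j)) : V)
  have hw : LinearIndependent F w :=
    (b.linearIndependent.comp (fun j : Fin i => Sum.inl (l, j)) fun a a' h => (Prod.mk.inj (Sum.inl.inj h)).2).map'
      U.subtype (Submodule.ker_subtype U)
  refine ⟨Submodule.span F (Set.range w), Submodule.span_le.2 ?_, fun x hx => ?_, ?_, ⟨g l, (hg l).2.2.1, (hg l).1, ?_⟩,
    w j, Submodule.subset_span ⟨j, rfl⟩, hl⟩
  · rintro _ ⟨j, rfl⟩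
    exact (b (.inl (l, j))).2
  · refine (Submodule.span_le.2 ?_ : Submodule.span F (Set.range w) ≤ (Submodule.span F (Set.range w)).comap T) hx
    rintro _ ⟨j, rfl⟩
    have := Submodule.apply_mem_span_image_of_mem_span U.subtype (hpiece l j)
    rwa [← Set.range_comp] at this
  · rw [finrank_span_eq_card hw, Fintype.card_fin]
  · intro x hx
    refine (Submodule.span_le.2 ?_ : Submodule.span F (Set.range w) ≤ LinearMap.ker (aeval T (g l))) hx
    rintro _ ⟨j, rfl⟩
    have h0 : aeval T' (g l) (b (.inl (l, j))) = 0 := by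
      rw [hb, ← Module.End.mul_apply, show T' ^ (j : ℕ) = aeval T' (X ^ (j : ℕ) : F[X]) by simp, ← map_mul, mul_comm,
        map_mul, Module.End.mul_apply, (hg l).2.2.2.2, map_zero]
    have h1 := congrArg Subtype.val h0
    rw [SetLike.mem_coe, LinearMap.mem_ker, aeval_eq_sum_range, LinearMap.sum_apply]
    rw [aeval_eq_sum_range, LinearMap.sum_apply] at h1
    simpa [hT', Submodule.coe_sum] using h1

include hc

lemma dvd_finrank_moved {U : Submodule F V} (hU : Nd B U) (hTU : ∀ x ∈ U, T x ∈ U)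
    (hfix : ∀ v ∈ U, T v = v → v = 0) : c ∣ finrank F U := by
  have h1 : i ∣ finrank F U := hi ▸ CfsgLib.OrderR.orderOf_dvd_finrank T hq hT U
    (by rintro _ ⟨x, hx, rfl⟩; exact hTU x hx) hfix
  rw [hc]
  split_ifs with he
  · exact h1
  · exact (Nat.Coprime.mul_dvd_of_dvd_of_dvd (Nat.coprime_two_left.2 (Nat.not_even_iff_odd.1 he))
      (nd_even hA hU).two_dvd h1)

/-- A fixed-point-free non-degenerate invariant subspace contains one of dimension `c`. -/
theorem exists_piece (hr2 : r ≠ 2) (hi0 : 0 < i) (hr0 : (r : F) ≠ 0) {U : Submodule F V} (hU : Nd B U)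
    (hTU : ∀ x ∈ U, T x ∈ U) (hfix : ∀ v ∈ U, T v = v → v = 0) (hne : U ≠ ⊥) :
    ∃ W ≤ U, Nd B W ∧ (∀ x ∈ W, T x ∈ W) ∧ finrank F W = c := by
  classical
  have hflip : ∀ x y, B y x = -B x y := CfsgLib.Sp.alt_flip hA
  have hsimple : ∀ X ≤ U, (∀ x ∈ X, T x ∈ X) → finrank F X ≤ i → X = ⊥ ∨ finrank F X = i := by
    intro X hX hTX hle
    obtain ⟨w, hw⟩ : i ∣ finrank F X := hi ▸ CfsgLib.OrderR.orderOf_dvd_finrank T hq hT X
      (by rintro _ ⟨x, hx, rfl⟩; exact hTX x hx) (fun v hv => hfix v (hX hv))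
    rcases Nat.eq_zero_or_pos w with rfl | hw0
    · exact Or.inl (Submodule.finrank_eq_zero.1 (by rw [hw, mul_zero]))
    · exact Or.inr (le_antisymm hle (hw ▸ Nat.le_mul_of_pos_right i hw0))
  have hself : ∀ X ≤ U, (∀ x ∈ X, T x ∈ X) → finrank F X = i → Nd B X ∨ ∀ a ∈ X, ∀ b ∈ X, B a b = 0 := by
    intro X hX hTX hdim
    rcases hsimple (X ⊓ B.orthogonal X) (inf_le_left.trans hX)
      (fun x hx => ⟨hTX x hx.1, orth_inv hA hTB hT hTX x hx.2⟩) ((Submodule.finrank_mono inf_le_left).trans hdim.le) with h | h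
    · exact Or.inl fun u hu hall => (Submodule.eq_bot_iff _).1 h u ⟨hu, (mem_orth hA).2 hall⟩
    · have hXe : X ⊓ B.orthogonal X = X := Submodule.eq_of_le_of_finrank_le inf_le_left (by omega)
      exact Or.inr fun a ha b hb => (mem_orth hA).1 (hXe.ge ha).2 b hb
  obtain ⟨x₀, hx₀, hx₀0⟩ := U.exists_mem_ne_zero_of_ne_bot hne
  obtain ⟨y₀, hy₀, hxy₀⟩ : ∃ y ∈ U, B x₀ y ≠ 0 := by
    by_contra h
    push Not at h
    exact hx₀0 (hU x₀ hx₀ h)
  obtain ⟨X, hX, hTX, hXd, ⟨g, hgd, hgm, hg⟩, x₁, hx₁, hfx₁⟩ :=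
    exists_irred hA hTB hT hq hi hi0 hr0 hTU hfix (B x₀) ⟨y₀, hy₀, hxy₀⟩
  obtain ⟨X', hX', hTX', hX'd, -, x₂, hx₂, hfx₂⟩ :=
    exists_irred hA hTB hT hq hi hi0 hr0 hTU hfix (B x₁) ⟨x₀, hx₀, by rw [hflip x₀ x₁]; simpa using hfx₁⟩
  have hne' : Odd i → ∀ Y : Submodule F V, finrank F Y = i → ¬ Nd B Y := fun ho Y hY hn => by
    have := nd_even hA hn
    rw [hY] at this
    exact Nat.not_even_iff_odd.2 ho this
  by_cases hndX : Nd B X
  · rcases Nat.even_or_odd i with he | ho
    · exact ⟨X, hX, hndX, hTX, by rw [hc, if_pos he, hXd]⟩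
    · exact absurd hndX (hne' ho X hXd)
  by_cases hndX' : Nd B X'
  · rcases Nat.even_or_odd i with he | ho
    · exact ⟨X', hX', hndX', hTX', by rw [hc, if_pos he, hX'd]⟩
    · exact absurd hndX' (hne' ho X' hX'd)
  have hti := (hself X hX hTX hXd).resolve_left hndX
  have hti' := (hself X' hX' hTX' hX'd).resolve_left hndX'
  have hmeet : ∀ (P Q : Submodule F V), Q ≤ U → (∀ x ∈ P, T x ∈ P) → (∀ x ∈ Q, T x ∈ Q) → finrank F Q = i →
      (∃ a ∈ P, ∃ b ∈ Q, B a b ≠ 0) → Q ⊓ B.orthogonal P = ⊥ := by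
    rintro P Q hQ hTP hTQ hQd ⟨a, ha, b, hb, hab⟩
    refine (hsimple _ (inf_le_left.trans hQ) (fun x hx => ⟨hTQ x hx.1, orth_inv hA hTB hT hTP x hx.2⟩)
      ((Submodule.finrank_mono inf_le_left).trans hQd.le)).resolve_right fun h => hab ?_
    have hQe : Q ⊓ B.orthogonal P = Q := Submodule.eq_of_le_of_finrank_le inf_le_left (by omega)
    exact (hQe.ge hb).2 a ha
  have hm1 : X' ⊓ B.orthogonal X = ⊥ := hmeet X X' hX' hTX hTX' hX'd ⟨x₁, hx₁, x₂, hx₂, hfx₂⟩
  have hm2 : X ⊓ B.orthogonal X' = ⊥ := hmeet X' X hX hTX' hTX hXd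
    ⟨x₂, hx₂, x₁, hx₁, by rw [hflip x₁ x₂]; simpa using hfx₂⟩
  rcases Nat.even_or_odd i with he | ho
  · -- the pieces are paired and isomorphic
    obtain ⟨h, rfl⟩ := he
    set Q := q ^ h with hQ
    have hq1 : 1 ≤ q := by rw [← hq]; exact Fintype.card_pos
    have hQr : (Q : ZMod r) = -1 := by
      have h1 : ((q : ZMod r) ^ h) ^ 2 = 1 := by
        rw [← pow_mul, mul_two, hi, pow_orderOf_eq_one]
      rcases sq_eq_one_iff.1 h1 with h2 | h2
      · exfalso
        have := Nat.le_of_dvd (by omega) (orderOf_dvd_of_pow_eq_one h2)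
        omega
      · rw [hQ, Nat.cast_pow]; exact h2
    have hTQ : T ^ Q = T ^ (r - 1) := by
      rw [pow_eq_pow_mod Q hT]
      congr 1
      have : ((Q : ℕ) : ZMod r) = ((r - 1 : ℕ) : ZMod r) := by
        rw [hQr, Nat.cast_sub (Fact.out : r.Prime).pos, ZMod.natCast_self, Nat.cast_one, zero_sub]
      rw [ZMod.natCast_eq_natCast_iff'] at this
      rw [this, Nat.mod_eq_of_lt (by have := (Fact.out : r.Prime).pos; omega)]
    have hexp : ∀ n : ℕ, Polynomial.expand F (q ^ n) g = g ^ q ^ n := by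
      intro n
      induction n with
      | zero => simp
      | succ n ih =>
        rw [pow_succ, mul_comm, ← Polynomial.expand_expand, ih, map_pow, ← hq, FiniteField.expand_card, ← pow_mul]
    have hgX : ∀ x ∈ X, aeval (T ^ (r - 1)) g x = 0 := by
      intro x hx
      obtain ⟨Q', hQ'⟩ : ∃ Q', Q = Q' + 1 := ⟨Q - 1, by have := Nat.one_le_pow h q hq1; omega⟩
      rw [← hTQ, ← Polynomial.expand_aeval, hexp, ← hQ, hQ', pow_succ, map_mul, Module.End.mul_apply, hg x hx, map_zero]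
    have hgX' : ∀ x' ∈ X', aeval T g x' = 0 := by
      intro x' hx'
      refine (Submodule.eq_bot_iff _).1 hm1 _ ⟨CfsgLib.SemiR.aeval_mem hTX' g hx', (mem_orth hA).2 fun x hx => ?_⟩
      have h0 := congrArg (B x') (hgX x hx)
      rw [map_zero, aeval_eq_sum_range, LinearMap.sum_apply, map_sum] at h0
      rw [aeval_eq_sum_range, LinearMap.sum_apply, map_sum, LinearMap.sum_apply, ← h0]
      exact Finset.sum_congr rfl fun n _ => by
        rw [LinearMap.smul_apply, LinearMap.smul_apply, map_smul, map_smul, LinearMap.smul_apply, adjoint hTB hT]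
    obtain ⟨u, hu, hu0⟩ := X.exists_mem_ne_zero_of_ne_bot (by
      intro e
      have := hXd
      rw [e, finrank_bot] at this
      omega)
    let δ : Module.End F V := T - T ^ (r - 1)
    have hδ : ∀ x ∈ X', δ x ∈ X' := fun x hx => X'.sub_mem (hTX' x hx) (pow_mem hTX' _ x hx)
    have hδinj : ∀ x ∈ X', δ x = 0 → x = 0 := by
      intro x hx h0
      have h2 : (T ^ 2) x = x := by
        have := congrArg T (sub_eq_zero.1 (show T x - (T ^ (r - 1)) x = 0 from h0))
        rw [← Module.End.mul_apply T (T ^ (r - 1)), ← pow_succ', Nat.sub_add_cancel (Fact.out : r.Prime).pos, hT,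
          Module.End.one_apply, ← Module.End.mul_apply, ← pow_two] at this
        exact this
      obtain ⟨s, hs⟩ := (Fact.out : r.Prime).odd_of_ne_two hr2
      refine hfix x (hX' hx) ?_
      have h3 : ∀ n, ((T ^ 2) ^ n) x = x := by
        intro n
        induction n with
        | zero => simp
        | succ n ih => rw [pow_succ', Module.End.mul_apply, ih, h2]
      have h4 := LinearMap.congr_fun hT x
      rw [hs, pow_succ', Module.End.mul_apply, pow_mul, h3, Module.End.one_apply] at h4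
      exact h4
    obtain ⟨u', hu', huu'⟩ : ∃ u' ∈ X', B u (δ u') ≠ 0 := by
      by_contra hcon
      push Not at hcon
      refine hu0 ((Submodule.eq_bot_iff _).1 hm2 u ⟨hu, (mem_orth hA).2 fun y hy => ?_⟩)
      let δ' : X' →ₗ[F] X' := δ.restrict hδ
      have hinj : Function.Injective δ' := (injective_iff_map_eq_zero _).2 fun z hz =>
        Subtype.ext (hδinj z z.2 (congrArg Subtype.val hz))
      obtain ⟨z, hz⟩ := (LinearMap.injective_iff_surjective.1 hinj) ⟨y, hy⟩
      have : δ z = y := congrArg Subtype.val hz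
      rw [← this]
      exact hcon z z.2
    set w := u + u' with hw
    let W : Submodule F V := Submodule.span F (Set.range fun j : Fin (h + h) => (T ^ (j : ℕ)) w)
    have hgw : aeval T g w = 0 := by rw [hw, map_add, hg u hu, hgX' u' hu', add_zero]
    have hwW : w ∈ W := Submodule.subset_span ⟨⟨0, hi0⟩, by simp⟩
    have hTW : ∀ x ∈ W, T x ∈ W := by
      intro x hx
      refine (Submodule.span_le.2 ?_ : W ≤ W.comap T) hx
      rintro _ ⟨j, rfl⟩
      show T ((T ^ (j : ℕ)) w) ∈ W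
      rw [← Module.End.mul_apply, ← pow_succ']
      by_cases hj : (j : ℕ) + 1 < h + h
      · exact Submodule.subset_span ⟨⟨_, hj⟩, rfl⟩
      · rw [show (j : ℕ) + 1 = h + h by omega]
        have h0 := hgw
        rw [aeval_eq_sum_range, Finset.sum_range_succ, LinearMap.add_apply, hgm.coeff_natDegree, one_smul,
          LinearMap.sum_apply, hgd, add_eq_zero_iff_eq_neg'] at h0
        rw [h0]
        exact Submodule.neg_mem _ (Submodule.sum_mem _ fun m hm => Submodule.smul_mem _ _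
          (Submodule.subset_span ⟨⟨m, Finset.mem_range.1 hm⟩, rfl⟩))
    have hWU : W ≤ U := Submodule.span_le.2 (by
      rintro _ ⟨j, rfl⟩
      exact pow_mem hTU _ _ (U.add_mem (hX hu) (hX' hu')))
    have hWd : finrank F W ≤ h + h := (finrank_range_le_card _).trans (by rw [Fintype.card_fin])
    have hne0 : B w (T w) ≠ 0 := by
      have e1 : B u (T u) = 0 := hti u hu _ (hTX u hu)
      have e2 : B u' (T u') = 0 := hti' u' hu' _ (hTX' u' hu')
      have e3 : B u' (T u) = -B u ((T ^ (r - 1)) u') := by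
        rw [hflip (T u) u', show B (T u) u' = B u ((T ^ (r - 1)) u') by
          have := adjoint hTB hT 1 u u'
          simpa using this]
      have : B w (T w) = B u (δ u') := by
        simp only [hw, map_add, LinearMap.add_apply, e1, e2, e3, δ, LinearMap.sub_apply, map_sub]
        ring
      rwa [this]
    have hWd' : finrank F W = h + h := by
      refine (hsimple W hWU hTW hWd).resolve_left fun e => hne0 ?_
      rw [(Submodule.eq_bot_iff W).1 e w hwW]
      simp
    refine ⟨W, hWU, (hself W hWU hTW hWd').resolve_right fun hall => hne0 (hall w hwW _ (hTW w hwW)), hTW, ?_⟩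
    rw [hc, if_pos ⟨h, rfl⟩, hWd']
  · refine ⟨X ⊔ X', sup_le hX hX', ?_, ?_, ?_⟩
    · intro x hx hall
      obtain ⟨a, ha, b, hb, rfl⟩ := Submodule.mem_sup.1 hx
      have hb0 : b = 0 := (Submodule.eq_bot_iff _).1 hm1 b ⟨hb, (mem_orth hA).2 fun v hv => by
        simpa [hti a ha v hv] using hall v (Submodule.mem_sup_left hv)⟩
      have ha0 : a = 0 := (Submodule.eq_bot_iff _).1 hm2 a ⟨ha, (mem_orth hA).2 fun v hv => by
        simpa [hti' b hb v hv] using hall v (Submodule.mem_sup_right hv)⟩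
      rw [ha0, hb0, add_zero]
    · intro x hx
      obtain ⟨a, ha, b, hb, rfl⟩ := Submodule.mem_sup.1 hx
      rw [map_add]
      exact add_mem (Submodule.mem_sup_left (hTX a ha)) (Submodule.mem_sup_right (hTX' b hb))
    · have hd : X ⊓ X' = ⊥ := by
        refine (Submodule.eq_bot_iff _).2 fun x hx => (Submodule.eq_bot_iff _).1 hm1 x ⟨hx.2, (mem_orth hA).2 fun v hv => ?_⟩
        exact hti x hx.1 v hv
      have := Submodule.finrank_sup_add_finrank_inf_eq X X'
      rw [hd, finrank_bot, add_zero, hXd, hX'd] at this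
      rw [this, hc, if_neg (Nat.not_even_iff_odd.2 ho), two_mul]

omit hA hTB hT hq hi hc [Fintype F] in
/-- Pieces add up. -/
theorem exists_sub {B' : BilinForm F V} (hA' : B'.IsAlt) {T' : Module.End F V} {c' : ℕ}
    (hTB' : ∀ v w, B' (T' v) (T' w) = B' v w) {s : ℕ} [Fact s.Prime] (hT' : T' ^ s = 1) {R : Submodule F V}
    (hR : Nd B' R) (hTR : ∀ x ∈ R, T' x ∈ R)
    (hpiece : ∀ U ≤ R, Nd B' U → (∀ x ∈ U, T' x ∈ U) → U ≠ ⊥ →
      ∃ W ≤ U, Nd B' W ∧ (∀ x ∈ W, T' x ∈ W) ∧ finrank F W = c') :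
    ∀ e : ℕ, e * c' ≤ finrank F R → ∃ W ≤ R, Nd B' W ∧ (∀ x ∈ W, T' x ∈ W) ∧ finrank F W = e * c' := by
  intro e
  induction e with
  | zero => exact fun _ => ⟨⊥, bot_le, fun u hu _ => (Submodule.mem_bot F).1 hu, fun x hx => by
      rw [(Submodule.mem_bot F).1 hx, map_zero]; exact Submodule.zero_mem _, by rw [finrank_bot, zero_mul]⟩
  | succ e ih =>
    intro he
    rw [add_mul, one_mul] at he
    obtain ⟨W, hWR, hW, hTW, hWd⟩ := ih (by omega)
    obtain ⟨hU, hUd⟩ := nd_inf_orth hA' hR hW hWR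
    have hTU : ∀ x ∈ R ⊓ B'.orthogonal W, T' x ∈ R ⊓ B'.orthogonal W := fun x hx =>
      ⟨hTR x hx.1, orth_inv hA' hTB' hT' hTW x hx.2⟩
    rcases Nat.eq_zero_or_pos c' with hc' | hc'
    · exact ⟨W, hWR, hW, hTW, by rw [hWd, hc', mul_zero, mul_zero]⟩
    obtain ⟨P, hPU, hP, hTP, hPd⟩ := hpiece _ inf_le_left hU hTU (fun h => by rw [h, finrank_bot] at hUd; omega)
    obtain ⟨hWP, hWPd⟩ := nd_sup hA' hW hP fun u hu v hv => (hPU hv).2 u hu
    refine ⟨W ⊔ P, sup_le hWR (hPU.trans inf_le_left), hWP, fun x hx => ?_, by rw [hWPd, hWd, hPd, add_mul, one_mul]⟩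
    obtain ⟨a, ha, b, hb, rfl⟩ := Submodule.mem_sup.1 hx
    rw [map_add]
    exact add_mem (Submodule.mem_sup_left (hTW a ha)) (Submodule.mem_sup_right (hTP b hb))

end CfsgLib.SympSemiR
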