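import Cfsg.Prelude.Def_GeometricClasses

/-!
Operators satisfying an irreducible quadratic equation and extension-field structures of degree 2.
-/

set_option autoImplicit false

namespace CfsgLib.QuadStructure

open Module Matrix

variable {F V : Type*} [Field F] [AddCommGroup V] [Module F V]

/-- `W` is a root of `X ^ 2 - a X - b`. -/
def IsQuadOp (W : V →ₗ[F] V) (a b : F) : Prop := ∀ v, W (W v) = a • W v + b • v

/-- Such a root, for a polynomial without root in `F`, has a basis of pairs `v, W v`. -/
theorem exists_quad_basis [FiniteDimensional F V] {W : V →ₗ[F] V} {a b : F} (hW : IsQuadOp W a b)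
    (hirr : ∀ r : F, r * r ≠ a * r + b) :
    ∃ (s : ℕ) (c : Basis (Fin s ⊕ Fin s) F V), ∀ i, W (c (.inl i)) = c (.inr i) := by
  classical
  have step : ∀ (s : ℕ) (f : Fin s → V), LinearIndependent F (Sum.elim f fun i => W (f i)) →
      Submodule.span F (Set.range (Sum.elim f fun i => W (f i))) = ⊤ ∨
      ∃ g : Fin (s + 1) → V, LinearIndependent F (Sum.elim g fun i => W (g i)) := by
    intro s f hf
    refine or_iff_not_imp_left.2 fun hne => ?_
    set S := Submodule.span F (Set.range (Sum.elim f fun i => W (f i))) with hS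
    have hWS : ∀ w ∈ S, W w ∈ S := by
      intro w hw
      refine (Submodule.span_le.2 ?_ : S ≤ S.comap W) hw
      rintro _ ⟨i | i, rfl⟩
      · exact Submodule.subset_span ⟨.inr i, rfl⟩
      · show W (W (f i)) ∈ S
        rw [hW]
        exact S.add_mem (S.smul_mem _ (Submodule.subset_span ⟨.inr i, rfl⟩))
          (S.smul_mem _ (Submodule.subset_span ⟨.inl i, rfl⟩))
    obtain ⟨v, hv⟩ : ∃ v, v ∉ S := by
      by_contra h
      push Not at h
      exact hne (Submodule.eq_top_iff'.2 h)
    have key : ∀ α β : F, α • v + β • W v ∈ S → α = 0 ∧ β = 0 := by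
      intro α β h
      have h' := hWS _ h
      rw [map_add, map_smul, map_smul, hW] at h'
      have h2 : (α * (α + β * a) - β * (β * b)) • v ∈ S := by
        have := S.sub_mem (S.smul_mem (α + β * a) h) (S.smul_mem β h')
        have e : (α + β * a) • (α • v + β • W v) - β • (α • W v + β • (a • W v + b • v)) =
            (α * (α + β * a) - β * (β * b)) • v := by module
        rwa [e] at this
      have h3 : α * (α + β * a) - β * (β * b) = 0 := by
        by_contra h0
        exact hv ((Submodule.smul_mem_iff _ h0).1 h2)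
      by_cases hb : β = 0
      · subst hb
        exact ⟨mul_self_eq_zero.1 (by linear_combination h3), rfl⟩
      · refine absurd ?_ (hirr (-(α / β)))
        field_simp
        linear_combination h3
    refine ⟨Fin.cons v f, Fintype.linearIndependent_iff.2 fun g hg => ?_⟩
    simp only [Fintype.sum_sum_type, Sum.elim_inl, Sum.elim_inr, Fin.sum_univ_succ, Fin.cons_zero, Fin.cons_succ] at hg
    set rest := (∑ i : Fin s, g (.inl i.succ) • f i) + ∑ i : Fin s, g (.inr i.succ) • W (f i) with hrest
    have hmem : rest ∈ S := S.add_mem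
      (Submodule.sum_mem _ fun i _ => S.smul_mem _ (Submodule.subset_span ⟨.inl i, rfl⟩))
      (Submodule.sum_mem _ fun i _ => S.smul_mem _ (Submodule.subset_span ⟨.inr i, rfl⟩))
    have hsum : g (.inl 0) • v + g (.inr 0) • W v + rest = 0 := by rw [hrest, ← hg]; abel
    obtain ⟨h0, h1⟩ := key _ _ ((Submodule.add_mem_iff_left _ hmem).1 (hsum ▸ S.zero_mem))
    rw [h0, h1, zero_smul, zero_smul, zero_add, zero_add] at hsum
    have hr := Fintype.linearIndependent_iff.1 hf (Sum.elim (fun i => g (.inl i.succ)) (fun i => g (.inr i.succ)))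
      (by simpa [Fintype.sum_sum_type] using hsum)
    rintro (i | i) <;> refine Fin.cases ?_ ?_ i
    · exact h0
    · exact fun j => hr (.inl j)
    · exact h1
    · exact fun j => hr (.inr j)
  by_contra hcon
  have : ∀ s : ℕ, ∃ f : Fin s → V, LinearIndependent F (Sum.elim f fun i => W (f i)) := by
    intro s
    induction s with
    | zero => exact ⟨Fin.elim0, linearIndependent_empty_type⟩
    | succ s ih =>
      obtain ⟨f, hf⟩ := ih
      exact (step s f hf).resolve_left fun hsp => hcon ⟨s, Basis.mk hf hsp.ge, fun i => by simp⟩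
  obtain ⟨f, hf⟩ := this (finrank F V + 1)
  have := hf.fintype_card_le_finrank
  simp at this
  omega

/-- Any two such operators are conjugate. -/
theorem exists_conj [FiniteDimensional F V] {W W' : V →ₗ[F] V} {a b : F} (hW : IsQuadOp W a b) (hW' : IsQuadOp W' a b)
    (hirr : ∀ r : F, r * r ≠ a * r + b) : ∃ g : V ≃ₗ[F] V, ∀ v, g (W v) = W' (g v) := by
  obtain ⟨s, c, hc⟩ := exists_quad_basis hW hirr
  obtain ⟨s', c', hc'⟩ := exists_quad_basis hW' hirr
  obtain rfl : s = s' := by
    have h1 := Module.finrank_eq_card_basis c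
    have h2 := Module.finrank_eq_card_basis c'
    simp only [Fintype.card_sum, Fintype.card_fin] at h1 h2
    omega
  refine ⟨c.equiv c' (Equiv.refl _), fun v => ?_⟩
  refine LinearMap.congr_fun (c.ext (f₁ := (c.equiv c' (Equiv.refl _)).toLinearMap ∘ₗ W)
    (f₂ := W' ∘ₗ (c.equiv c' (Equiv.refl _)).toLinearMap) fun i => ?_) v
  simp only [LinearMap.comp_apply, LinearEquiv.coe_coe, Basis.equiv_apply, Equiv.refl_apply]
  rcases i with i | i
  · rw [hc, Basis.equiv_apply, Equiv.refl_apply, hc']
  · rw [← hc, hW, map_add, map_smul, map_smul, hc, Basis.equiv_apply, Basis.equiv_apply, Equiv.refl_apply,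
      Equiv.refl_apply, ← hc', hW']

section algebra

variable {ι : Type} [Fintype ι] [DecidableEq ι]

/-- A field subalgebra of degree 2 is spanned by a root of a polynomial without roots in `F`, and the roots of that
polynomial in it are this one and its conjugate. -/
theorem exists_generator {K : Subalgebra F (Matrix ι ι F)} (hK : Cfsg.Geo.IsFieldSubalgebra 2 K) :
    ∃ (W : Matrix ι ι F) (a b : F), W ∈ K ∧ (∀ r : F, r * r ≠ a * r + b) ∧
      W * W = a • W + b • (1 : Matrix ι ι F) ∧
      (∀ M, M ∈ K ↔ ∃ α β : F, M = α • (1 : Matrix ι ι F) + β • W) ∧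
      (∀ M ∈ K, M * M = a • M + b • (1 : Matrix ι ι F) → M = W ∨ M = a • (1 : Matrix ι ι F) - W) := by
  obtain ⟨hcomm, hinv, hdim⟩ := hK
  have hne : ∃ W ∈ K, ∀ α : F, W ≠ α • (1 : Matrix ι ι F) := by
    by_contra h
    push Not at h
    have : finrank F K ≤ 1 := by
      refine finrank_le_one ⟨1, K.one_mem⟩ fun w => ?_
      obtain ⟨α, hα⟩ := h w.1 w.2
      exact ⟨α, Subtype.ext hα.symm⟩
    omega
  obtain ⟨W, hW, hWs⟩ := hne
  have hz : ∀ x ∈ K, ∀ y : Matrix ι ι F, y * x = 0 → x = 0 ∨ y = 0 := by
    intro x hx y hxy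
    by_cases h : x = 0
    · exact Or.inl h
    · obtain ⟨x', -, hx'⟩ := hinv x hx h
      right
      calc y = y * (x * x') := by rw [hx', mul_one]
        _ = 0 := by rw [← mul_assoc, hxy, zero_mul]
  let one' : K := ⟨1, K.one_mem⟩
  let W' : K := ⟨W, hW⟩
  have hli : LinearIndependent F ![one', W'] := by
    rw [LinearIndependent.pair_iff]
    intro s t hst
    have hst' : s • (1 : Matrix ι ι F) + t • W = 0 := congrArg Subtype.val hst
    by_cases ht : t = 0
    · subst ht
      rw [zero_smul, add_zero, smul_eq_zero] at hst'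
      refine ⟨hst'.resolve_right fun h1 => hWs 0 ?_, rfl⟩
      rw [zero_smul, ← mul_one W, h1, mul_zero]
    · exfalso
      refine hWs (-(t⁻¹ * s)) ?_
      rw [neg_smul, mul_smul, ← smul_neg, eq_inv_smul_iff₀ ht]
      exact eq_neg_of_add_eq_zero_right hst'
  have hmem : ∀ M, M ∈ K ↔ ∃ α β : F, M = α • (1 : Matrix ι ι F) + β • W := by
    refine fun M => ⟨fun hM => ?_, ?_⟩
    · have hsp := hli.span_eq_top_of_card_eq_finrank (by simp [hdim])
      have : (⟨M, hM⟩ : K) ∈ Submodule.span F (Set.range ![one', W']) := hsp ▸ Submodule.mem_top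
      rw [Matrix.range_cons_cons_empty, Submodule.mem_span_pair] at this
      obtain ⟨α, β, h⟩ := this
      exact ⟨α, β, (congrArg Subtype.val h).symm⟩
    · rintro ⟨α, β, rfl⟩
      exact K.add_mem (K.smul_mem K.one_mem _) (K.smul_mem hW _)
  obtain ⟨b, a, hab⟩ := (hmem _).1 (K.mul_mem hW hW)
  have hWW : W * W = a • W + b • (1 : Matrix ι ι F) := by rw [hab, add_comm]
  refine ⟨W, a, b, hW, fun r hr => ?_, hWW, hmem, fun M hM hMM => ?_⟩
  · have h : (W - r • (1 : Matrix ι ι F)) * (W - (a - r) • (1 : Matrix ι ι F)) = 0 := by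
      simp only [sub_mul, mul_sub, Matrix.smul_mul, Matrix.mul_smul, one_mul, mul_one, hWW, smul_smul, sub_smul]
      rw [hr, add_smul]
      abel
    rcases hz _ (K.sub_mem hW (K.smul_mem K.one_mem _)) _ h with h0 | h0
    · exact hWs _ (sub_eq_zero.1 h0)
    · exact hWs _ (sub_eq_zero.1 h0)
  · have h : (M - W) * (M - (a • (1 : Matrix ι ι F) - W)) = 0 := by
      simp only [sub_mul, mul_sub, Matrix.mul_smul, mul_one, hWW, hMM, hcomm M hM W hW]
      abel
    rcases hz _ (K.sub_mem hM (K.sub_mem (K.smul_mem K.one_mem _) hW)) _ h with h0 | h0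
    · exact Or.inr (sub_eq_zero.1 h0)
    · exact Or.inl (sub_eq_zero.1 h0)

end algebra

end CfsgLib.QuadStructure
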