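import Cfsg.Agent.Lib.Maximal99.BlockDecomp

/-!
Linear maps of prime order permuting the summands of a decomposition.
-/

set_option autoImplicit false

namespace CfsgLib.PermSummands

open Module

variable {ι : Type} [Fintype ι] [DecidableEq ι] {F : Type*} [Field F] {a t r : ℕ} [Fact r.Prime]

/-- A permutation of the summands induced by a map of order `r` has order dividing `r`. -/
lemma perm_pow {D : Fin t → Submodule F (ι → F)} (hD : Cfsg.Geo.IsMDecomposition a D)
    {T : Module.End F (ι → F)} (hT : T ^ r = 1) {σ : Equiv.Perm (Fin t)} (hσ : ∀ j, (D j).map T = D (σ j)) :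
    σ ^ r = 1 ∧ ∀ (i : ℕ) j, ∀ v ∈ D j, (T ^ i) v ∈ D ((σ ^ i) j) := by
  have h : ∀ (i : ℕ) j, (D j).map (T ^ i) = D ((σ ^ i) j) := by
    intro i
    induction i with
    | zero => intro j; simp [Module.End.one_eq_id]
    | succ i ih =>
      intro j
      rw [pow_succ', Module.End.mul_eq_comp, Submodule.map_comp, ih, hσ, pow_succ', Equiv.Perm.mul_apply]
  refine ⟨Equiv.ext fun j => CfsgLib.BlockDecomp.injective_of_isMDecomposition hD ?_, fun i j v hv => ?_⟩
  · rw [← h, hT, Module.End.one_eq_id, Submodule.map_id]; rfl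
  · rw [← h]; exact Submodule.mem_map_of_mem hv

/-- Inside an orbit of a moved summand the powers are at distinct places. -/
lemma orbit_injective {σ : Equiv.Perm (Fin t)} (hσ : σ ^ r = 1) {j : Fin t} (hj : σ j ≠ j) :
    Function.Injective fun i : Fin r => (σ ^ (i : ℕ)) j := by
  intro i i' h
  by_contra hne
  wlog hlt : (i : ℕ) < i' generalizing i i'
  · exact this h.symm (Ne.symm hne) (lt_of_le_of_ne (not_lt.1 hlt) (fun e => hne (Fin.ext e.symm)))
  set d := (i' : ℕ) - i with hd
  have hd' : (σ ^ d) j = j := by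
    refine (σ ^ (i : ℕ)).injective ?_
    rw [← Equiv.Perm.mul_apply, ← pow_add, hd, Nat.add_sub_cancel' hlt.le]
    exact h.symm
  have hcop : Nat.Coprime d r := by
    rw [Nat.coprime_comm, (Fact.out : r.Prime).coprime_iff_not_dvd]
    exact fun hdvd => absurd (Nat.le_of_dvd (by omega) hdvd) (by omega)
  obtain ⟨m, hm⟩ : ∃ m, d * m % r = 1 := (Nat.exists_mul_mod_eq_one_of_coprime hcop (Fact.out : r.Prime).one_lt).imp fun m h => h.2
  refine hj ?_
  have h1 : ∀ m, ((σ ^ d) ^ m) j = j := by
    intro m
    induction m with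
    | zero => rfl
    | succ m ih => rw [pow_succ', Equiv.Perm.mul_apply, ih, hd']
  calc σ j = (σ ^ (d * m)) j := by rw [pow_eq_pow_mod _ hσ, hm, pow_one]
    _ = j := by rw [pow_mul]; exact h1 m

/-- The orbit sums of one moved summand are fixed. -/
lemma le_ker_of_moved {D : Fin t → Submodule F (ι → F)} (hD : Cfsg.Geo.IsMDecomposition a D)
    {T : Module.End F (ι → F)} (hT : T ^ r = 1) {σ : Equiv.Perm (Fin t)} (hσ : ∀ j, (D j).map T = D (σ j))
    {j : Fin t} (hj : σ j ≠ j) :
    a ≤ finrank F ↥(LinearMap.ker (T - 1)) ∧ a * (r - 1) ≤ finrank F ↥(LinearMap.range (T - 1)) := by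
  classical
  obtain ⟨hσr, hmem⟩ := perm_pow hD hT hσ
  have hinj := orbit_injective hσr hj
  set P : Module.End F (ι → F) := ∑ i ∈ Finset.range r, T ^ i with hP
  have hTP : ∀ v, T (P v) = P v := by
    intro v
    have h : (T - 1) * P = 0 := by rw [hP, mul_geom_sum, hT, sub_self]
    have := LinearMap.congr_fun h v
    simpa [sub_eq_zero] using this
  have h0 : ∀ i : Fin r, (i : ℕ) ≠ 0 → (σ ^ (i : ℕ)) j ≠ j := fun i hi h => hi (by
    have := @hinj i ⟨0, (Fact.out : r.Prime).pos⟩ (by simpa using h)
    exact congrArg Fin.val this)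
  constructor
  · have hcomp : ∀ v ∈ D j, CfsgLib.GeomClasses.Decomp.comp hD j (P v) = v := by
      intro v hv
      rw [hP, LinearMap.sum_apply, map_sum, Finset.sum_eq_single 0 (fun i hi hne => ?_) (fun h => absurd (Finset.mem_range.2 (Fact.out : r.Prime).pos) h)]
      · rw [pow_zero, Module.End.one_apply, CfsgLib.GeomClasses.Decomp.comp_of_mem hD hv]
      · exact CfsgLib.GeomClasses.Decomp.comp_of_mem_ne hD (h0 ⟨i, Finset.mem_range.1 hi⟩ hne) (hmem i j v hv)
    let L : D j →ₗ[F] LinearMap.ker (T - 1) := (P ∘ₗ (D j).subtype).codRestrict _ fun v => by simp [hTP]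
    rw [← hD.finrank_eq j]
    refine LinearMap.finrank_le_finrank_of_injective (f := L) fun v w h => Subtype.ext ?_
    rw [← hcomp v v.2, ← hcomp w w.2]
    exact congrArg _ (congrArg Subtype.val h)
  · obtain ⟨bj⟩ : Nonempty (Basis (Fin a) F (D j)) := ⟨Module.finBasisOfFinrankEq F _ (hD.finrank_eq j)⟩
    have hTinj : ∀ i : ℕ, i ≤ r → Function.Injective (T ^ i) := fun i hi v w h => by
      have := congrArg (fun u => (T ^ (r - i)) u) h
      simp only [← Module.End.mul_apply, ← pow_add, show r - i + i = r by omega, hT, Module.End.one_apply] at this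
      exact this
    have hli : LinearIndependent F fun p : Fin a × Fin (r - 1) => (T - 1) ((T ^ (p.2 : ℕ)) (bj p.1 : ι → F)) := by
      rw [Fintype.linearIndependent_iff]
      intro co hco
      let u : Fin (r - 1) → (ι → F) := fun i => ∑ l, co (l, i) • (bj l : ι → F)
      have hu : ∀ i, u i ∈ D j := fun i => Submodule.sum_mem _ fun l _ => (D j).smul_mem _ (bj l).2
      have hsum : ∑ i : Fin (r - 1), ((T ^ ((i : ℕ) + 1)) (u i) - (T ^ (i : ℕ)) (u i)) = 0 := by
        rw [Fintype.sum_prod_type, Finset.sum_comm] at hco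
        rw [← hco]
        refine Finset.sum_congr rfl fun i _ => ?_
        simp only [u, map_sum, map_smul, ← Finset.sum_sub_distrib, ← smul_sub, pow_succ', LinearMap.sub_apply,
          Module.End.mul_apply, Module.End.one_apply]
      have key : ∀ m : ℕ, ∀ i : Fin (r - 1), (i : ℕ) = m → u i = 0 := by
        intro m
        induction m with
        | zero =>
          intro i hi
          have h := congrArg (CfsgLib.GeomClasses.Decomp.comp hD j) hsum
          rw [map_sum, map_zero, Finset.sum_eq_single i] at h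
          · rw [map_sub, CfsgLib.GeomClasses.Decomp.comp_of_mem_ne hD (h0 ⟨(i : ℕ) + 1, by omega⟩ (Nat.succ_ne_zero _))
              (hmem _ j _ (hu i)), hi, pow_zero, Module.End.one_apply, CfsgLib.GeomClasses.Decomp.comp_of_mem hD (hu i),
              zero_sub, neg_eq_zero] at h
            exact h
          · intro i' _ hne
            have : (i' : ℕ) ≠ 0 := fun e => hne (Fin.ext (e.trans hi.symm))
            rw [map_sub, CfsgLib.GeomClasses.Decomp.comp_of_mem_ne hD (h0 ⟨(i' : ℕ) + 1, by omega⟩ (Nat.succ_ne_zero _))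
              (hmem _ j _ (hu i')), CfsgLib.GeomClasses.Decomp.comp_of_mem_ne hD (h0 ⟨(i' : ℕ), by omega⟩ this)
              (hmem _ j _ (hu i')), sub_self]
          · simp
        | succ m ih =>
          intro i hi
          have h := congrArg (CfsgLib.GeomClasses.Decomp.comp hD ((σ ^ (m + 1)) j)) hsum
          have hne' : ∀ i' : ℕ, i' < r → i' ≠ m + 1 → (σ ^ i') j ≠ (σ ^ (m + 1)) j := fun i' hi' hne hh => hne (by
            have := @hinj ⟨i', hi'⟩ ⟨m + 1, by omega⟩ hh
            exact congrArg Fin.val this)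
          rw [map_sum, map_zero, Finset.sum_eq_single i] at h
          · rw [map_sub, CfsgLib.GeomClasses.Decomp.comp_of_mem_ne hD (hne' _ (by omega) (by omega)) (hmem _ j _ (hu i)),
              hi, CfsgLib.GeomClasses.Decomp.comp_of_mem hD (hmem _ j _ (hu i)), zero_sub, neg_eq_zero] at h
            exact hTinj _ (by omega) (h.trans (map_zero _).symm)
          · intro i' _ hne
            by_cases hm : (i' : ℕ) = m
            · rw [ih i' hm]; simp
            · have : (i' : ℕ) ≠ m + 1 := fun e => hne (Fin.ext (e.trans hi.symm))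
              rw [map_sub, CfsgLib.GeomClasses.Decomp.comp_of_mem_ne hD (hne' _ (by omega) (by omega)) (hmem _ j _ (hu i')),
                CfsgLib.GeomClasses.Decomp.comp_of_mem_ne hD (hne' _ (by omega) this) (hmem _ j _ (hu i')), sub_self]
          · simp
      rintro ⟨l, i⟩
      refine Fintype.linearIndependent_iff.1 bj.linearIndependent (fun l => co (l, i)) (Subtype.ext ?_) l
      simpa [Submodule.coe_sum] using key i i rfl
    have hle : Submodule.span F (Set.range fun p : Fin a × Fin (r - 1) => (T - 1) ((T ^ (p.2 : ℕ)) (bj p.1 : ι → F))) ≤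
        LinearMap.range (T - 1) := Submodule.span_le.2 (by rintro _ ⟨p, rfl⟩; exact ⟨_, rfl⟩)
    have := Submodule.finrank_mono hle
    rw [finrank_span_eq_card hli] at this
    simpa using this

end CfsgLib.PermSummands
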