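import Cfsg.Prelude.Def_GeometricClasses
import Cfsg.Agent.Classical.SLBasic
import Cfsg.Agent.Lib.Maximal99.ConjTools

/-!
The subfield group `GL(n, F₀) · scalars` inside `SL(n, F)`.
-/

set_option autoImplicit false

namespace CfsgLib.Subfield99

open Cfsg Cfsg.Geo Matrix Module

variable {ι : Type} [Fintype ι] [DecidableEq ι] {F : Type*} [Field F]

theorem mem_subfieldSubgroup_one {F₀ : Subfield F} {x : GL ι F} :
    x ∈ subfieldSubgroup F₀ 1 ↔ ∃ c : F, c ≠ 0 ∧ ∀ i j, c * (x : Matrix ι ι F) i j ∈ F₀ := by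
  have hmap : subfieldSubgroup F₀ (1 : GL ι F) =
      (Matrix.GeneralLinearGroup.map (F₀.subtype : F₀ →+* F)).range ⊔ scalars ι F := by
    ext y
    simp [subfieldSubgroup]
  rw [hmap, Subgroup.mem_sup_of_normal_right]
  constructor
  · rintro ⟨y, ⟨X, rfl⟩, s, hs, rfl⟩
    obtain ⟨l, hl⟩ := (mem_scalars_iff s).1 hs
    refine ⟨((l⁻¹ : Fˣ) : F), Units.ne_zero _, fun i j => ?_⟩
    rw [Units.val_mul, hl, Matrix.mul_smul, mul_one, Matrix.smul_apply, smul_eq_mul, Units.inv_mul_cancel_left]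
    exact ((X : Matrix ι ι F₀) i j).2
  · rintro ⟨c, hc, h⟩
    let M : Matrix ι ι F₀ := fun i j => ⟨_, h i j⟩
    have hM : M.map F₀.subtype = c • (x : Matrix ι ι F) := by ext i j; rfl
    have hdet : M.det ≠ 0 := by
      intro h0
      have h1 := RingHom.map_det F₀.subtype M
      rw [h0, map_zero, RingHom.mapMatrix_apply, hM, Matrix.det_smul] at h1
      exact mul_ne_zero (pow_ne_zero _ hc)
        (IsUnit.ne_zero ((x : Matrix ι ι F).isUnit_iff_isUnit_det.1 x.isUnit)) h1.symm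
    refine ⟨_, ⟨Matrix.GeneralLinearGroup.mkOfDetNeZero M hdet, rfl⟩,
      Units.map (Matrix.scalar ι : F →+* Matrix ι ι F).toMonoidHom (Units.mk0 c hc)⁻¹, ⟨_, rfl⟩, Units.ext ?_⟩
    ext i j
    simp [Matrix.mul_diagonal, M]
    rw [show ((((Matrix.GeneralLinearGroup.mkOfDetNeZero M hdet : GL ι F₀) : Matrix ι ι F₀) i j : F₀) : F) = c * (x : Matrix ι ι F) i j from rfl]
    field_simp

theorem mem_comap_iff {n : ℕ} {F₀ : Subfield F} {x : SpecialLinearGroup (Fin n) F} :
    x ∈ (subfieldSubgroup F₀ 1).comap (SpecialLinearGroup.toGL : SpecialLinearGroup (Fin n) F →* GL (Fin n) F) ↔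
      ∃ c : F, c ≠ 0 ∧ ∀ i j, c * (x : Matrix (Fin n) (Fin n) F) i j ∈ F₀ :=
  mem_subfieldSubgroup_one

/-- A matrix of determinant 1 with a basis in which it is a multiple of a matrix over `F₀`, and whose centraliser has
all determinants, is conjugate inside `SL` into the subfield group. -/
theorem exists_conj_mem {n : ℕ} {F₀ : Subfield F} (x : SpecialLinearGroup (Fin n) F)
    (hD : ConjTools.DetSurj (Matrix.toLin' (x : Matrix (Fin n) (Fin n) F)))
    {κ : Type*} [Fintype κ] (b : Basis κ F (Fin n → F)) {c : F} (hc : c ≠ 0)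
    (h : ∀ i j, c * b.repr (Matrix.toLin' (x : Matrix (Fin n) (Fin n) F) (b j)) i ∈ F₀) :
    ∃ P : SpecialLinearGroup (Fin n) F, P⁻¹ * x * P ∈
      (subfieldSubgroup F₀ 1).comap (SpecialLinearGroup.toGL : SpecialLinearGroup (Fin n) F →* GL (Fin n) F) := by
  classical
  have hcard : Fintype.card κ = Fintype.card (Fin n) := by
    rw [← Module.finrank_eq_card_basis b, Module.finrank_fin_fun, Fintype.card_fin]
  let b' := b.reindex (Fintype.equivOfCardEq hcard)
  obtain ⟨P, hP⟩ := ConjTools.exists_sl_conj x b'.equivFun.symm hD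
  refine ⟨P, mem_comap_iff.2 ⟨c, hc, fun i j => ?_⟩⟩
  have e := congrFun (hP (Pi.single j 1)) i
  rw [Matrix.mulVec_single_one, Matrix.col_apply] at e
  rw [e, LinearEquiv.symm_symm, Basis.equivFun_symm_apply,
    Finset.sum_eq_single j (fun y _ hy => by simp [hy]) (by simp), Pi.single_eq_same, one_smul, Basis.equivFun_apply,
    Basis.repr_reindex_apply, Basis.reindex_apply, ← Matrix.toLin'_apply]
  exact h _ _

omit [Field F] in
theorem exists_odd_factor {a b k : ℕ} (hab : b ≤ a) (ha : Odd a) (hb : Odd b) (hk : Odd k) :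
    ∃ o, Odd o ∧ a ^ k - b ^ k = (a - b) * o := by
  refine ⟨∑ i ∈ Finset.range k, a ^ i * b ^ (k - 1 - i), ?_, ?_⟩
  · rw [Finset.odd_sum_iff_odd_card_odd, Finset.filter_true_of_mem (fun i _ => (ha.pow).mul hb.pow),
      Finset.card_range]
    exact hk
  · rw [mul_comm, geom_sum₂_mul_of_ge hab]

/-- For odd `q` and odd degree the subfield group has odd index. -/
theorem odd_index [Fintype F] {q q₀ k n : ℕ} (hq : Fintype.card F = q) (F₀ : Subfield F) (hF₀ : Nat.card F₀ = q₀)
    (hqk : q = q₀ ^ k) (hodd : Odd q) (hk : Odd k) (hn : 1 ≤ n) :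
    Odd ((subfieldSubgroup F₀ 1).comap
      (SpecialLinearGroup.toGL : SpecialLinearGroup (Fin n) F →* GL (Fin n) F)).index := by
  classical
  set H := (subfieldSubgroup F₀ 1).comap
    (SpecialLinearGroup.toGL : SpecialLinearGroup (Fin n) F →* GL (Fin n) F) with hH
  let φ : SpecialLinearGroup (Fin n) F₀ →* SpecialLinearGroup (Fin n) F := SpecialLinearGroup.map F₀.subtype
  have hφ : Function.Injective φ := fun a a' h => by
    ext i j
    exact congrArg (fun y : SpecialLinearGroup (Fin n) F => (y : Matrix (Fin n) (Fin n) F) i j) h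
  have hle : φ.range ≤ H := by
    rintro _ ⟨a, rfl⟩
    exact mem_comap_iff.2 ⟨1, one_ne_zero, fun i j => by simp [φ]⟩
  obtain ⟨d, hd⟩ := Subgroup.card_dvd_of_le hle
  rw [← Nat.card_congr (MonoidHom.ofInjective hφ).toEquiv] at hd
  have hidx := H.card_mul_index
  rw [hd] at hidx
  have hq0 : Odd q₀ := by
    rw [hqk, Nat.odd_pow_iff (by rintro rfl; simp at hk)] at hodd
    exact hodd
  have hcard0 : Fintype.card F₀ = q₀ := by rw [← hF₀, Nat.card_eq_fintype_card]
  have hF := Cfsg.Agent.Classical.card_sl_mul (F := F) n hn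
  have h0 := Cfsg.Agent.Classical.card_sl_mul (F := F₀) n hn
  rw [hq, hqk] at hF
  rw [hcard0] at h0
  have hfac : ∀ i : Fin n, ∃ o, Odd o ∧ (q₀ ^ k) ^ n - (q₀ ^ k) ^ (i : ℕ) = (q₀ ^ n - q₀ ^ (i : ℕ)) * o := by
    intro i
    obtain ⟨o, ho, he⟩ := exists_odd_factor (Nat.pow_le_pow_right hq0.pos i.2.le) (hq0.pow (n := n))
      (hq0.pow (n := (i : ℕ))) hk
    exact ⟨o, ho, by rw [← he, ← pow_mul, ← pow_mul, ← pow_mul, ← pow_mul, mul_comm k n, mul_comm k (i : ℕ)]⟩
  choose o ho he using hfac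
  rw [Finset.prod_congr rfl (fun i _ => he i), Finset.prod_mul_distrib, ← h0, ← hidx] at hF
  obtain ⟨o', ho', he'⟩ := exists_odd_factor (b := 1) (by have := hq0.pos; omega) hq0 odd_one hk
  rw [one_pow] at he'
  rw [he'] at hF
  have hq1 : 1 < q₀ := by rw [← hcard0]; exact Fintype.one_lt_card
  have key : o' * (d * H.index) = ∏ i, o i := by
    have hpos : 0 < (q₀ - 1) * Nat.card (SpecialLinearGroup (Fin n) F₀) :=
      Nat.mul_pos (by omega) Nat.card_pos
    refine Nat.eq_of_mul_eq_mul_left hpos ?_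
    rw [← hF]
    ring
  have hO : Odd (∏ i, o i) := Finset.prod_induction o Odd (fun a c => Odd.mul) odd_one (fun i _ => ho i)
  rw [← key] at hO
  exact (Nat.odd_mul.1 (Nat.odd_mul.1 hO).2).2

end CfsgLib.Subfield99
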