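import Cfsg.Agent.Lib.Maximal99.SympSemiR

/-!
Elements of prime order `r` of symplectic groups with prescribed moving space, and when they exist.
-/

set_option autoImplicit false

namespace CfsgLib.SympWitness

open Module Matrix Cfsg
open CfsgLib.Sp (sympBilin)

variable {F : Type*} [Field F]

/-- The standard form is non-degenerate on the whole space. -/
lemma nd_top (d : ℕ) : CfsgLib.SympSemiR.Nd (sympBilin d F) ⊤ := fun u _ h =>
  CfsgLib.Sp.sympBilin_separatingLeft u fun v => h v Submodule.mem_top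

lemma isometry {d : ℕ} (x : ↥(Matrix.symplecticGroup (Fin d) F)) (v w : Fin d ⊕ Fin d → F) :
    sympBilin d F (Matrix.toLin' (x : Matrix (Fin d ⊕ Fin d) (Fin d ⊕ Fin d) F) v)
      (Matrix.toLin' (x : Matrix (Fin d ⊕ Fin d) (Fin d ⊕ Fin d) F) w) = sympBilin d F v w := by
  rw [Matrix.toLin'_apply, Matrix.toLin'_apply, CfsgLib.Sp.sympBilin_apply, CfsgLib.Sp.sympBilin_apply]
  exact CfsgLib.Sp.sympForm_mulVec x v w

/-- A scalar `r`-th power of an isometry is a sign, and the sign can be taken off. -/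
lemma exists_unsigned {d r : ℕ} (hd : 0 < d) (hr : Odd r) (x : ↥(Matrix.symplecticGroup (Fin d) F)) {z : F}
    (hx : ((x ^ r : ↥(Matrix.symplecticGroup (Fin d) F)) : Matrix (Fin d ⊕ Fin d) (Fin d ⊕ Fin d) F) = z • 1) :
    z * z = 1 ∧ ∀ S : Module.End F (Fin d ⊕ Fin d → F),
      S = z • Matrix.toLin' (x : Matrix (Fin d ⊕ Fin d) (Fin d ⊕ Fin d) F) →
      S ^ r = 1 ∧ ∀ v w, sympBilin d F (S v) (S w) = sympBilin d F v w := by
  set T : Module.End F (Fin d ⊕ Fin d → F) := Matrix.toLin' (x : Matrix (Fin d ⊕ Fin d) (Fin d ⊕ Fin d) F) with hTdef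
  have hTr : T ^ r = z • 1 := by
    rw [hTdef, ← Matrix.toLin'_pow, ← SubmonoidClass.coe_pow, hx, map_smul, Matrix.toLin'_one]; rfl
  have hz : z * z = 1 := by
    set v₀ : Fin d ⊕ Fin d → F := Pi.single (Sum.inl ⟨0, hd⟩) 1 with hv₀
    obtain ⟨w, hw⟩ : ∃ w, sympBilin d F v₀ w ≠ 0 := by
      by_contra h
      push Not at h
      have := congrFun (CfsgLib.Sp.sympBilin_separatingLeft _ h) (Sum.inl ⟨0, hd⟩)
      simp [hv₀] at this
    have := CfsgLib.SympSemiR.isometry_pow (isometry x) r v₀ w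
    rw [← hTdef, hTr, LinearMap.smul_apply, LinearMap.smul_apply, Module.End.one_apply, Module.End.one_apply, map_smul,
      map_smul, LinearMap.smul_apply, smul_eq_mul, smul_eq_mul, ← mul_assoc] at this
    exact (mul_left_eq_self₀.1 this).resolve_right hw
  refine ⟨hz, fun S hS => ⟨?_, fun v w => ?_⟩⟩
  · obtain ⟨s, rfl⟩ := hr
    rw [hS, _root_.smul_pow, hTr, smul_smul, pow_succ, pow_mul, pow_two, hz, one_pow, one_mul, hz, one_smul]
  · rw [hS, LinearMap.smul_apply, LinearMap.smul_apply, map_smul, map_smul, LinearMap.smul_apply, smul_eq_mul,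
      smul_eq_mul, ← mul_assoc, hz, one_mul, isometry]

variable [Fintype F] {r q i c : ℕ} [Fact r.Prime] (hq : Fintype.card F = q) (hi : i = orderOf (q : ZMod r))
  (hc : c = if Even i then i else 2 * i)
include hq hi hc

/-- A symplectic space with an element of order `r` has dimension at least `c`. -/
lemma le_of_dvd_card (hrq : (q : ZMod r) ≠ 0) {d : ℕ}
    (h : r ∣ Nat.card ↥(Matrix.symplecticGroup (Fin d) F)) : c ≤ 2 * d := by
  rw [CfsgLib.Sp.card_symplecticGroup hq] at h
  rcases (Fact.out : r.Prime).dvd_mul.1 h with h | h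
  · exact absurd ((ZMod.natCast_eq_zero_iff q r).2 ((Fact.out : r.Prime).dvd_of_dvd_pow h)) hrq
  · obtain ⟨j, hj, hdvd⟩ := (Prime.dvd_finset_prod_iff (Fact.out : r.Prime).prime _).1 h
    have hi2 : i ∣ 2 * (j + 1) := hi ▸ (CfsgLib.OrderR.orderOf_dvd_iff (by rw [← hq]; exact Fintype.card_pos)).2 hdvd
    have hj' := Finset.mem_range.1 hj
    rw [hc]
    split_ifs with he
    · exact (Nat.le_of_dvd (by omega) hi2).trans (by omega)
    · have h3 : i ∣ j + 1 := (Nat.coprime_two_right.2 (Nat.not_even_iff_odd.1 he)).dvd_of_dvd_mul_left hi2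
      have := Nat.le_of_dvd (by omega) h3
      omega

/-- An element with `e` pieces of dimension `c` and `2 * k` fixed dimensions. -/
theorem exists_witness (hr0 : (r : F) ≠ 0) (hrq : (q : ZMod r) ≠ 0) {d e k : ℕ} (hek : e * c + 2 * k = 2 * d) :
    ∃ x : ↥(Matrix.symplecticGroup (Fin d) F), x ^ r = 1 ∧
      finrank F ↥(LinearMap.range (Matrix.toLin' (x : Matrix (Fin d ⊕ Fin d) (Fin d ⊕ Fin d) F) - 1 :
        Module.End F (Fin d ⊕ Fin d → F))) = e * c := by
  classical
  have hi0 : 0 < i := hi ▸ (orderOf_pos_iff.2 (isOfFinOrder_iff_pow_eq_one.2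
    ⟨r - 1, by have := (Fact.out : r.Prime).two_le; omega, ZMod.pow_card_sub_one_eq_one hrq⟩))
  obtain ⟨h, hh⟩ : ∃ h, c = 2 * h := by
    rw [hc]
    split_ifs with he
    · exact he.two_dvd
    · exact ⟨i, rfl⟩
  have hh0 : 0 < h := by
    rcases Nat.eq_zero_or_pos h with rfl | h0
    · rw [hc] at hh; split_ifs at hh <;> omega
    · exact h0
  have hdvd : r ∣ Nat.card ↥(Matrix.symplecticGroup (Fin h) F) := by
    rw [CfsgLib.Sp.card_symplecticGroup hq]
    refine Dvd.dvd.mul_left (Dvd.dvd.trans ?_ (Finset.dvd_prod_of_mem _ (Finset.mem_range.2 (show h - 1 < h by omega)))) _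
    refine (CfsgLib.OrderR.orderOf_dvd_iff (by rw [← hq]; exact Fintype.card_pos)).1 ?_
    rw [← hi, Nat.sub_add_cancel hh0, ← hh, hc]
    split_ifs
    · exact dvd_rfl
    · exact Dvd.intro_left 2 rfl
  obtain ⟨y, hy⟩ := exists_prime_orderOf_dvd_card' (G := ↥(Matrix.symplecticGroup (Fin h) F)) r hdvd
  set Y : Module.End F (Fin h ⊕ Fin h → F) := Matrix.toLin' (y : Matrix (Fin h ⊕ Fin h) (Fin h ⊕ Fin h) F) with hY
  have hYr : Y ^ r = 1 := by
    have : y ^ r = 1 := by rw [← hy]; exact pow_orderOf_eq_one y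
    rw [hY, ← Matrix.toLin'_pow, ← SubmonoidClass.coe_pow, this, OneMemClass.coe_one, Matrix.toLin'_one]; rfl
  have hA : (sympBilin h F).IsAlt := CfsgLib.Sp.sympBilin_isAlt
  have hndR := (CfsgLib.SympSemiR.nd_fix_move hA (isometry y) hYr hr0 (nd_top h)).2
  have hR : LinearMap.range (Y - 1) = ⊤ := by
    have hinv : ∀ v ∈ LinearMap.range (Y - 1), Y v ∈ LinearMap.range (Y - 1) := by
      rintro _ ⟨w, rfl⟩
      exact ⟨Y w, by simp⟩
    have hd := CfsgLib.SympSemiR.dvd_finrank_moved hA (isometry y) hYr hq hi hc hndR hinv fun v hv hv1 =>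
      Submodule.disjoint_def.1 (CfsgLib.OrderR.disjoint_fix_move Y hYr hr0) v (by rw [LinearMap.mem_ker, LinearMap.sub_apply, Module.End.one_apply, sub_eq_zero]; exact hv1) hv
    have h0 : finrank F ↥(LinearMap.range (Y - 1)) ≠ 0 := by
      intro e0
      rw [Submodule.finrank_eq_zero, LinearMap.range_eq_bot, sub_eq_zero] at e0
      have h1 : y = 1 := by
        refine Subtype.ext (Matrix.toLin'.injective ?_)
        rw [OneMemClass.coe_one, Matrix.toLin'_one, ← hY, e0]; rfl
      rw [h1, orderOf_one] at hy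
      exact (Fact.out : r.Prime).one_lt.ne hy
    refine Submodule.eq_top_of_finrank_eq (le_antisymm (Submodule.finrank_le _) ?_)
    rw [Module.finrank_fintype_fun_eq_card, Fintype.card_sum, Fintype.card_fin, ← two_mul, ← hh]
    exact Nat.le_of_dvd (Nat.pos_of_ne_zero h0) hd
  have hYinj : ∀ v, Y v = v → v = 0 := fun v hv =>
    Submodule.disjoint_def.1 (CfsgLib.OrderR.disjoint_fix_move Y hYr hr0) v
      (by rw [LinearMap.mem_ker, LinearMap.sub_apply, Module.End.one_apply, sub_eq_zero]; exact hv) (hR ▸ Submodule.mem_top)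
  obtain ⟨π⟩ : Nonempty (Fin d ≃ (Fin e × Fin h) ⊕ Fin k) := by
    refine ⟨Fintype.equivOfCardEq ?_⟩
    simp only [Fintype.card_fin, Fintype.card_sum, Fintype.card_prod]
    rw [hh] at hek
    nlinarith
  let pj : Fin e → (Fin d ⊕ Fin d → F) →ₗ[F] (Fin h ⊕ Fin h → F) := fun j =>
    LinearMap.funLeft F F (Sum.map (fun a => π.symm (.inl (j, a))) (fun a => π.symm (.inl (j, a))))
  let T : Module.End F (Fin d ⊕ Fin d → F) := LinearMap.pi fun s =>
    Sum.elim (fun p => Sum.elim (fun ja => LinearMap.proj (Sum.inl ja.2) ∘ₗ Y ∘ₗ pj ja.1) (fun _ => LinearMap.proj s) (π p))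
      (fun p => Sum.elim (fun ja => LinearMap.proj (Sum.inr ja.2) ∘ₗ Y ∘ₗ pj ja.1) (fun _ => LinearMap.proj s) (π p)) s
  have hTl : ∀ v j a, T v (.inl (π.symm (.inl (j, a)))) = Y (pj j v) (.inl a) := fun v j a => by simp [T]
  have hTr : ∀ v j a, T v (.inr (π.symm (.inl (j, a)))) = Y (pj j v) (.inr a) := fun v j a => by simp [T]
  have hTfl : ∀ v l, T v (.inl (π.symm (.inr l))) = v (.inl (π.symm (.inr l))) := fun v l => by simp [T]
  have hTfr : ∀ v l, T v (.inr (π.symm (.inr l))) = v (.inr (π.symm (.inr l))) := fun v l => by simp [T]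
  have hpj : ∀ v j, pj j (T v) = Y (pj j v) := fun v j => funext fun s => by
    rcases s with a | a
    · exact hTl v j a
    · exact hTr v j a
  have ext' : ∀ v w : Fin d ⊕ Fin d → F, (∀ j, pj j v = pj j w) →
      (∀ l, v (.inl (π.symm (.inr l))) = w (.inl (π.symm (.inr l))) ∧ v (.inr (π.symm (.inr l))) = w (.inr (π.symm (.inr l)))) →
      v = w := by
    intro v w h1 h2
    funext s
    rcases s with p | p <;> obtain ⟨p, rfl⟩ := π.symm.surjective p <;> rcases p with ⟨j, a⟩ | l
    · exact congrFun (h1 j) (.inl a)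
    · exact (h2 l).1
    · exact congrFun (h1 j) (.inr a)
    · exact (h2 l).2
  have hpow : ∀ n v, (∀ j, pj j ((T ^ n) v) = (Y ^ n) (pj j v)) ∧ ∀ l, (T ^ n) v (.inl (π.symm (.inr l))) =
      v (.inl (π.symm (.inr l))) ∧ (T ^ n) v (.inr (π.symm (.inr l))) = v (.inr (π.symm (.inr l))) := by
    intro n
    induction n with
    | zero => intro v; simp
    | succ n ih =>
      intro v
      refine ⟨fun j => ?_, fun l => ?_⟩
      · rw [pow_succ', Module.End.mul_apply, hpj, (ih v).1 j, pow_succ', Module.End.mul_apply]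
      · rw [pow_succ', Module.End.mul_apply, hTfl, hTfr]
        exact (ih v).2 l
  have hTrr : T ^ r = 1 := LinearMap.ext fun v => by
    refine ext' _ _ (fun j => ?_) fun l => ?_
    · rw [(hpow r v).1 j, hYr]; rfl
    · exact (hpow r v).2 l
  have hiso : ∀ u v, sympForm d F (T u) (T v) = sympForm d F u v := by
    intro u v
    have key : ∀ u v : Fin d ⊕ Fin d → F, sympForm d F u v = ∑ j, sympForm h F (pj j u) (pj j v) +
        ∑ l, (u (.inr (π.symm (.inr l))) * v (.inl (π.symm (.inr l))) -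
          u (.inl (π.symm (.inr l))) * v (.inr (π.symm (.inr l)))) := by
      intro u v
      rw [CfsgLib.Sp.sympForm_eq_sum, ← π.symm.sum_comp, Fintype.sum_sum_type, Fintype.sum_prod_type]
      simp only [CfsgLib.Sp.sympForm_eq_sum]
      rfl
    rw [key, key u v]
    simp only [hpj, hTfl, hTfr]
    congr 1
    refine Finset.sum_congr rfl fun j _ => ?_
    have := isometry y (pj j u) (pj j v)
    rwa [CfsgLib.Sp.sympBilin_apply, CfsgLib.Sp.sympBilin_apply] at this
  let x : ↥(Matrix.symplecticGroup (Fin d) F) := ⟨LinearMap.toMatrix' T, CfsgLib.Sp.mem_symplecticGroup_iff.2 fun u v => by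
    rw [LinearMap.toMatrix'_mulVec, LinearMap.toMatrix'_mulVec]; exact hiso u v⟩
  refine ⟨x, Subtype.ext (Matrix.toLin'.injective ?_), ?_⟩
  · rw [SubmonoidClass.coe_pow, Matrix.toLin'_pow, show Matrix.toLin' (x : Matrix (Fin d ⊕ Fin d) (Fin d ⊕ Fin d) F) = T from
      Matrix.toLin'_toMatrix' T, hTrr, OneMemClass.coe_one, Matrix.toLin'_one]
    rfl
  rw [show Matrix.toLin' (x : Matrix (Fin d ⊕ Fin d) (Fin d ⊕ Fin d) F) = T from Matrix.toLin'_toMatrix' T]
  have hker : finrank F ↥(LinearMap.ker (T - 1)) = k + k := by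
    let L : LinearMap.ker (T - 1) →ₗ[F] (Fin k ⊕ Fin k → F) :=
      LinearMap.funLeft F F (Sum.map (fun l => π.symm (.inr l)) (fun l => π.symm (.inr l))) ∘ₗ (LinearMap.ker (T - 1)).subtype
    have hmem : ∀ v, v ∈ LinearMap.ker (T - 1) ↔ ∀ j, pj j v = 0 := by
      intro v
      rw [LinearMap.mem_ker, LinearMap.sub_apply, Module.End.one_apply, sub_eq_zero]
      exact ⟨fun h j => hYinj _ (by rw [← hpj, h]), fun h => ext' _ _ (fun j => by rw [hpj, h, map_zero])
        fun l => ⟨hTfl v l, hTfr v l⟩⟩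
    have hbij : Function.Bijective L := by
      refine ⟨(injective_iff_map_eq_zero _).2 fun v hv => Subtype.ext (ext' _ _ (fun j => ?_) fun l => ?_), fun f => ?_⟩
      · rw [(hmem _).1 v.2 j, ZeroMemClass.coe_zero, map_zero]
      · exact ⟨congrFun hv (.inl l), congrFun hv (.inr l)⟩
      · refine ⟨⟨fun s => Sum.elim (fun p => Sum.elim (fun _ => (0 : F)) (fun l => f (.inl l)) (π p))
          (fun p => Sum.elim (fun _ => (0 : F)) (fun l => f (.inr l)) (π p)) s, (hmem _).2 fun j => funext fun s => ?_⟩,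
          funext fun s => ?_⟩
        · rcases s with a | a <;> simp [pj, LinearMap.funLeft]
        · rcases s with a | a <;> simp [L, LinearMap.funLeft]
    rw [(LinearEquiv.ofBijective L hbij).finrank_eq, Module.finrank_fintype_fun_eq_card, Fintype.card_sum, Fintype.card_fin]
  have := LinearMap.finrank_range_add_finrank_ker (T - 1)
  rw [hker, Module.finrank_fintype_fun_eq_card, Fintype.card_sum, Fintype.card_fin] at this
  omega

end CfsgLib.SympWitness
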