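import Cfsg.Agent.Lib.Maximal99.SympIsotropic
import Cfsg.Agent.Lib.Maximal99.SympWitness

/-!
Elements of order `r` of symplectic groups with prescribed irreducible factors (`q` of even order modulo `r`).
-/

set_option autoImplicit false

namespace CfsgLib.SympClasses

open Module Polynomial
open CfsgLib.Sp (sympBilin)
open CfsgLib.SympSemiR (Nd)
open CfsgLib.SympIsotropic (Ti)

variable {F : Type*} [Field F] [Fintype F] {r q i : ℕ} [Fact r.Prime] (hq : Fintype.card F = q)
  (hi : i = orderOf (q : ZMod r)) (hi0 : 0 < i) (hr0 : (r : F) ≠ 0)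
include hq hi hi0 hr0

/-- The irreducible factors of `1 + X + … + X ^ (r - 1)`. -/
theorem exists_factors : ∃ G : Fin ((r - 1) / i) → F[X], Function.Injective G ∧
    ∀ l, (G l).Monic ∧ Irreducible (G l) ∧ (G l).natDegree = i ∧ G l ∣ X ^ r - 1 ∧ G l ≠ X - C 1 := by
  classical
  set P : F[X] := ∑ j ∈ Finset.range r, X ^ j with hP
  have hdvd : P ∣ X ^ r - 1 := ⟨X - 1, (geom_sum_mul X r).symm⟩
  have hP0 : P ≠ 0 := fun e => by
    rw [e, zero_dvd_iff] at hdvd
    exact X_pow_sub_C_ne_zero (Fact.out : r.Prime).pos (1 : F) (by simpa using hdvd)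
  have hPm : P.Monic := monic_geom_sum_X (Fact.out : r.Prime).ne_zero
  have hPd : P.natDegree = r - 1 := by
    have h := congrArg natDegree (geom_sum_mul (X : F[X]) r)
    rw [← hP, ← C_1, natDegree_mul hP0 (X_sub_C_ne_zero 1), natDegree_X_sub_C, natDegree_X_pow_sub_C] at h
    omega
  have hsq : Squarefree P := ((X_pow_sub_one_separable_iff.2 hr0).of_dvd hdvd).squarefree
  set s := UniqueFactorizationMonoid.normalizedFactors P with hs
  have hnd : s.Nodup := (UniqueFactorizationMonoid.squarefree_iff_nodup_normalizedFactors hP0).1 hsq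
  have hfac : ∀ g ∈ s, g.Monic ∧ Irreducible g ∧ g ∣ P := fun g hg => by
    have hirr := UniqueFactorizationMonoid.irreducible_of_normalized_factor g hg
    refine ⟨?_, hirr, UniqueFactorizationMonoid.dvd_of_mem_normalizedFactors hg⟩
    rw [← UniqueFactorizationMonoid.normalize_normalized_factor g hg]
    exact monic_normalize hirr.ne_zero
  have hne1 : ∀ g ∈ s, g ≠ X - C 1 := fun g hg h => by
    have hd := (hfac g hg).2.2
    rw [h, dvd_iff_isRoot, IsRoot.def, hP, eval_finsetSum] at hd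
    simp at hd
    exact hr0 hd
  have hdeg : ∀ g ∈ s, g.natDegree = i := fun g hg =>
    CfsgLib.SemiR.natDegree_eq hq hi hi0 (hfac g hg).1 (hfac g hg).2.1 ((hfac g hg).2.2.trans hdvd) (hne1 g hg)
  have hprod : s.prod = P := eq_of_monic_of_associated (monic_multiset_prod_of_monic _ _ (fun g hg => (hfac g hg).1) |>
    fun h => by simpa using h) hPm (UniqueFactorizationMonoid.prod_normalizedFactors hP0)
  have hcard : Multiset.card s * i = r - 1 := by
    rw [← hPd, ← hprod, natDegree_multiset_prod_of_monic _ (fun g hg => (hfac g hg).1),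
      Multiset.map_congr rfl hdeg, Multiset.map_const', Multiset.sum_replicate, smul_eq_mul]
  have hc' : s.toFinset.card = (r - 1) / i := by
    rw [Multiset.toFinset_card_of_nodup hnd, ← hcard, Nat.mul_div_cancel _ hi0]
  let E := (s.toFinset.equivFinOfCardEq hc').symm
  refine ⟨fun l => (E l : F[X]), fun a b h => E.injective (Subtype.ext h), fun l => ?_⟩
  have hl : (E l : F[X]) ∈ s := Multiset.mem_toFinset.1 (E l).2
  exact ⟨(hfac _ hl).1, (hfac _ hl).2.1, hdeg _ hl, (hfac _ hl).2.2.trans hdvd, hne1 _ hl⟩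

/-- Each factor is realised in `Sp_i`. -/
theorem exists_elt {h : ℕ} (hih : i = h + h) {g : F[X]} (hgi : Irreducible g) (hgd : g.natDegree = i)
    (hdvd : g ∣ X ^ r - 1) :
    ∃ Y : Module.End F (Fin h ⊕ Fin h → F), Y ^ r = 1 ∧
      (∀ u v, sympBilin h F (Y u) (Y v) = sympBilin h F u v) ∧ aeval Y g = 0 ∧ ∀ v, Y v = v → v = 0 := by
  classical
  have hrq : (q : ZMod r) ≠ 0 := fun e => by
    have := pow_orderOf_eq_one (q : ZMod r)
    rw [← hi, e, zero_pow (by omega)] at this
    exact zero_ne_one this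
  have hc : i = if Even i then i else 2 * i := by rw [if_pos ⟨h, hih⟩]
  obtain ⟨y, hy, hrank⟩ := CfsgLib.SympWitness.exists_witness hq hi hc hr0 hrq (d := h) (e := 1) (k := 0) (by omega)
  set Y : Module.End F (Fin h ⊕ Fin h → F) := Matrix.toLin' (y : Matrix (Fin h ⊕ Fin h) (Fin h ⊕ Fin h) F) with hY
  have hYr : Y ^ r = 1 := by
    rw [hY, ← Matrix.toLin'_pow, ← SubmonoidClass.coe_pow, hy, OneMemClass.coe_one, Matrix.toLin'_one]; rfl
  obtain ⟨e, k, b, v, gs, hb, -, hgs, -, -, hd1, hd2⟩ := CfsgLib.SemiR.exists_cyclic_basis hq hi hi0 hr0 Y hYr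
  obtain rfl : e = 1 := Nat.eq_of_mul_eq_mul_right hi0 (by rw [← hd1, hrank])
  obtain rfl : k = 0 := by
    have := Module.finrank_eq_card_basis b
    simp only [Fintype.card_sum, Fintype.card_prod, Fintype.card_fin, Module.finrank_fintype_fun_eq_card] at this
    omega
  obtain ⟨hgm1, hgi1, hgd1, hgr1, hgv1⟩ := hgs 0
  have hg1 : aeval Y (gs 0) = 0 := b.ext fun x => by
    rcases x with ⟨l, j⟩ | l
    · obtain rfl : l = 0 := Subsingleton.elim _ _
      rw [hb, ← Module.End.mul_apply, show Y ^ (j : ℕ) = aeval Y (X ^ (j : ℕ) : F[X]) by simp, ← map_mul, mul_comm,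
        map_mul, Module.End.mul_apply, hgv1, map_zero, LinearMap.zero_apply]
    · exact l.elim0
  haveI : Fact (Irreducible (gs 0)) := ⟨hgi1⟩
  set θ := AdjoinRoot.root (gs 0) with hθ
  have hθr : θ ^ r = 1 := by
    have h := AdjoinRoot.mk_eq_zero.2 hgr1
    simp only [map_sub, map_pow, AdjoinRoot.mk_X, map_one] at h
    exact sub_eq_zero.1 h
  have hθ1 : θ ≠ 1 := fun he => by
    have hd : gs 0 ∣ X - C 1 := by
      rw [← AdjoinRoot.mk_eq_zero, map_sub, AdjoinRoot.mk_X, AdjoinRoot.mk_C, map_one, ← hθ, he, sub_self]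
    have := natDegree_le_of_dvd hd (X_sub_C_ne_zero 1)
    rw [natDegree_X_sub_C, hgd1] at this
    omega
  have hprim : IsPrimitiveRoot θ r := by
    have := IsPrimitiveRoot.orderOf θ
    rwa [orderOf_eq_prime hθr hθ1] at this
  haveI : NeZero r := ⟨(Fact.out : r.Prime).ne_zero⟩
  obtain ⟨a, ha⟩ : ∃ a, aeval (θ ^ a) g = 0 := by
    set g' := g.map (algebraMap F (AdjoinRoot (gs 0))) with hg'
    have hd : g' ∣ X ^ r - 1 := by
      have := Polynomial.map_dvd (algebraMap F (AdjoinRoot (gs 0))) hdvd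
      simpa [hg', AdjoinRoot.algebraMap_eq] using this
    have hnu : ¬ IsUnit g' := fun hu => by
      have := natDegree_eq_zero_of_isUnit hu
      rw [hg', natDegree_map, hgd] at this
      omega
    obtain ⟨f, hfi, hfd⟩ := WfDvdMonoid.exists_irreducible_factor hnu (by
      rw [hg', Ne, Polynomial.map_eq_zero]; exact hgi.ne_zero)
    rw [X_pow_sub_one_eq_prod (Fact.out : r.Prime).pos hprim] at hd
    obtain ⟨ζ, hζ, hfζ⟩ := (Prime.dvd_finsetProd_iff hfi.prime _).1 (hfd.trans hd)
    have hroot : X - C ζ ∣ g' := ((hfi.associated_of_dvd (irreducible_X_sub_C ζ) hfζ).symm.dvd).trans hfd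
    rw [dvd_iff_isRoot, hg', IsRoot.def, eval_map, ← aeval_def] at hroot
    rw [mem_nthRootsFinset (Fact.out : r.Prime).pos] at hζ
    obtain ⟨a, -, rfl⟩ := hprim.eq_pow_of_pow_eq_one hζ
    exact ⟨a, hroot⟩
  have hYa : aeval (Y ^ a) g = 0 := by
    rw [← expand_aeval]
    rw [← expand_aeval, hθ, AdjoinRoot.aeval_eq, AdjoinRoot.mk_eq_zero] at ha
    obtain ⟨w, hw⟩ := ha
    rw [hw, map_mul, hg1, zero_mul]
  refine ⟨Y ^ a, by rw [← pow_mul, mul_comm, pow_mul, hYr, one_pow],
    CfsgLib.SympSemiR.isometry_pow (CfsgLib.SympWitness.isometry y) a, hYa, fun v hv => ?_⟩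
  have h0 := LinearMap.congr_fun hYa v
  have hpow : ∀ n : ℕ, ((Y ^ a) ^ n) v = v := fun n => by
    induction n with
    | zero => simp
    | succ n ih => rw [pow_succ', Module.End.mul_apply, ih, hv]
  rw [aeval_eq_sum_range, LinearMap.sum_apply] at h0
  simp only [LinearMap.smul_apply, hpow, LinearMap.zero_apply, ← Finset.sum_smul] at h0
  refine (smul_eq_zero.1 h0).resolve_left fun he => ?_
  have hev : g.eval 1 = 0 := by rw [eval_eq_sum_range]; simpa using he
  have h1 : g.natDegree = 1 := natDegree_eq_of_degree_eq_some (degree_eq_one_of_irreducible_of_root hgi hev)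
  rw [hgd, hih] at h1
  omega

set_option maxHeartbeats 1000000 in
/-- An element with pieces in prescribed classes, and a bound for its isotropic invariant subspaces. -/
theorem exists_class_witness {h e k d : ℕ} (hih : i = h + h) (hek : e * h + k = d) {t : ℕ} (G : Fin t → F[X])
    (hG : Function.Injective G)
    (hGp : ∀ l, (G l).Monic ∧ Irreducible (G l) ∧ (G l).natDegree = i ∧ G l ∣ X ^ r - 1) (cls : Fin e → Fin t) :
    ∃ x : ↥(Matrix.symplecticGroup (Fin d) F), x ^ r = 1 ∧
      finrank F ↥(LinearMap.range (Matrix.toLin' (x : Matrix (Fin d ⊕ Fin d) (Fin d ⊕ Fin d) F) - 1 :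
        Module.End F (Fin d ⊕ Fin d → F))) = e * i ∧
      ∀ W : Submodule F (Fin d ⊕ Fin d → F), Ti (sympBilin d F) W →
        (∀ v ∈ W, Matrix.toLin' (x : Matrix (Fin d ⊕ Fin d) (Fin d ⊕ Fin d) F) v ∈ W) →
        ∃ a j, finrank F ↥W = a + j * i ∧ a ≤ k ∧ j ≤ ∑ l, (Finset.univ.filter fun b => cls b = l).card / 2 := by
  classical
  choose Y hYr hYB hYg hYfix using fun l => exists_elt hq hi hi0 hr0 hih (hGp l).2.1 (hGp l).2.2.1 (hGp l).2.2.2
  obtain ⟨π⟩ : Nonempty (Fin d ≃ (Fin e × Fin h) ⊕ Fin k) :=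
    ⟨Fintype.equivOfCardEq (by simp [← hek])⟩
  let Ψ : (Fin d ⊕ Fin d → F) ≃ₗ[F] (Fin e → Fin h ⊕ Fin h → F) × (Fin k ⊕ Fin k → F) :=
    { toFun := fun v => (fun j s => v (Sum.map (fun a => π.symm (.inl (j, a))) (fun a => π.symm (.inl (j, a))) s),
        fun s => v (Sum.map (fun l => π.symm (.inr l)) (fun l => π.symm (.inr l)) s))
      map_add' := fun u v => rfl
      map_smul' := fun c v => rfl
      invFun := fun p => Sum.elim (fun a => Sum.elim (fun ja => p.1 ja.1 (.inl ja.2)) (fun l => p.2 (.inl l)) (π a))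
        (fun a => Sum.elim (fun ja => p.1 ja.1 (.inr ja.2)) (fun l => p.2 (.inr l)) (π a))
      left_inv := fun v => by
        funext s
        rcases s with a | a <;> obtain ⟨a, rfl⟩ := π.symm.surjective a <;> rcases a with ⟨j, a⟩ | l <;> simp
      right_inv := fun p => by
        refine Prod.ext (funext fun j => funext fun s => ?_) (funext fun s => ?_) <;> rcases s with a | a <;> simp }
  have key : ∀ u v, sympBilin d F u v = ∑ j, sympBilin h F ((Ψ u).1 j) ((Ψ v).1 j) + sympBilin k F (Ψ u).2 (Ψ v).2 := by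
    intro u v
    simp only [CfsgLib.Sp.sympBilin_apply, CfsgLib.Sp.sympForm_eq_sum]
    rw [← π.symm.sum_comp, Fintype.sum_sum_type, Fintype.sum_prod_type]
    rfl
  let P : Module.End F ((Fin e → Fin h ⊕ Fin h → F) × (Fin k ⊕ Fin k → F)) :=
    (LinearMap.pi fun j => (Y (cls j)) ∘ₗ LinearMap.proj j).prodMap LinearMap.id
  let T : Module.End F (Fin d ⊕ Fin d → F) := Ψ.symm.toLinearMap ∘ₗ P ∘ₗ Ψ.toLinearMap
  have hpow : ∀ n v, Ψ ((T ^ n) v) = (fun j => ((Y (cls j)) ^ n) ((Ψ v).1 j), (Ψ v).2) := by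
    intro n
    induction n with
    | zero => intro v; simp
    | succ n ih =>
      intro v
      rw [pow_succ', Module.End.mul_apply]
      simp only [T, LinearMap.comp_apply, LinearEquiv.coe_coe, LinearEquiv.apply_symm_apply]
      rw [ih]
      refine Prod.ext (funext fun j => ?_) rfl
      simp [P, pow_succ', Module.End.mul_apply]
  have hT1 : ∀ v, Ψ (T v) = (fun j => (Y (cls j)) ((Ψ v).1 j), (Ψ v).2) := fun v => by simpa using hpow 1 v
  have hTr : T ^ r = 1 := LinearMap.ext fun v => Ψ.injective (by rw [hpow]; simp [hYr])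
  have hTB : ∀ u v, sympBilin d F (T u) (T v) = sympBilin d F u v := fun u v => by
    rw [key, key u v, hT1, hT1]
    simp only [hYB]
  let x : ↥(Matrix.symplecticGroup (Fin d) F) := ⟨LinearMap.toMatrix' T, CfsgLib.Sp.mem_symplecticGroup_iff.2 fun u v => by
    rw [LinearMap.toMatrix'_mulVec, LinearMap.toMatrix'_mulVec, ← CfsgLib.Sp.sympBilin_apply, ← CfsgLib.Sp.sympBilin_apply]
    exact hTB u v⟩
  have hxT : Matrix.toLin' (x : Matrix (Fin d ⊕ Fin d) (Fin d ⊕ Fin d) F) = T := Matrix.toLin'_toMatrix' T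
  refine ⟨x, Subtype.ext (Matrix.toLin'.injective ?_), ?_⟩
  · rw [SubmonoidClass.coe_pow, Matrix.toLin'_pow, hxT, hTr, OneMemClass.coe_one, Matrix.toLin'_one]; rfl
  rw [hxT]
  have hmem : ∀ v, v ∈ LinearMap.ker (T - 1) ↔ (Ψ v).1 = 0 := by
    intro v
    rw [LinearMap.mem_ker, LinearMap.sub_apply, Module.End.one_apply, sub_eq_zero]
    constructor
    · exact fun hv => funext fun j => hYfix _ _ (by
        have := congrFun (congrArg Prod.fst (congrArg Ψ hv)) j
        rwa [hT1] at this)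
    · exact fun hv => Ψ.injective (by rw [hT1, Prod.ext_iff]; exact ⟨funext fun j => by simp [hv], rfl⟩)
  have hker : finrank F ↥(LinearMap.ker (T - 1)) = k + k := by
    let L : LinearMap.ker (T - 1) →ₗ[F] (Fin k ⊕ Fin k → F) :=
      LinearMap.snd F _ _ ∘ₗ Ψ.toLinearMap ∘ₗ (LinearMap.ker (T - 1)).subtype
    have hbij : Function.Bijective L := by
      refine ⟨(injective_iff_map_eq_zero _).2 fun v hv => Subtype.ext (Ψ.injective ?_), fun f => ?_⟩
      · rw [ZeroMemClass.coe_zero, map_zero]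
        exact Prod.ext ((hmem _).1 v.2) hv
      · exact ⟨⟨Ψ.symm (0, f), (hmem _).2 (by rw [Ψ.apply_symm_apply])⟩, by simp [L]⟩
    rw [(LinearEquiv.ofBijective L hbij).finrank_eq, Module.finrank_fintype_fun_eq_card, Fintype.card_sum, Fintype.card_fin]
  have hn : finrank F (Fin d ⊕ Fin d → F) = 2 * d := by
    rw [Module.finrank_fintype_fun_eq_card, Fintype.card_sum, Fintype.card_fin, two_mul]
  refine ⟨by
    have := LinearMap.finrank_range_add_finrank_ker (T - 1)
    rw [hker, hn] at this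
    have : e * i = e * h + e * h := by rw [hih, mul_add]
    omega, fun W hW hTW => ?_⟩
  have hA : (sympBilin d F).IsAlt := CfsgLib.Sp.sympBilin_isAlt
  obtain ⟨hndK, -⟩ := CfsgLib.SympSemiR.nd_fix_move hA hTB hTr hr0 (CfsgLib.SympWitness.nd_top d)
  set M := W.map (T - 1) with hMdef
  have hMW : M ≤ W := by rintro _ ⟨v, hv, rfl⟩; exact W.sub_mem (hTW v hv) hv
  have hTM : ∀ v ∈ M, T v ∈ M := by
    rintro _ ⟨v, hv, rfl⟩
    exact ⟨T v, hTW v hv, by simp⟩
  have hMfix : ∀ v ∈ M, (Ψ v).2 = 0 := by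
    rintro _ ⟨v, -, rfl⟩
    rw [LinearMap.sub_apply, Module.End.one_apply, map_sub, hT1, Prod.snd_sub, sub_self]
  have hMd := Submodule.finrank_sup_add_finrank_inf_eq (W ⊓ LinearMap.ker (T - 1)) M
  rw [CfsgLib.SympSemiR.inf_fix_sup_map hTr hr0 hTW,
    ((CfsgLib.OrderR.disjoint_fix_move T hTr hr0).mono inf_le_right LinearMap.map_le_range).eq_bot, finrank_bot,
    add_zero] at hMd
  obtain ⟨j, hj⟩ : i ∣ finrank F M := hi ▸ CfsgLib.OrderR.orderOf_dvd_finrank T hq hTr M
    (by rintro _ ⟨v, hv, rfl⟩; exact hTM v hv) fun v hv hv1 =>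
      Submodule.disjoint_def.1 (CfsgLib.OrderR.disjoint_fix_move T hTr hr0) v
        (by rw [LinearMap.mem_ker, LinearMap.sub_apply, Module.End.one_apply, sub_eq_zero]; exact hv1)
        (LinearMap.map_le_range hv)
  refine ⟨finrank F ↥(W ⊓ LinearMap.ker (T - 1)), j, by rw [hMd, hj, mul_comm i], ?_, ?_⟩
  · have := CfsgLib.SympIsotropic.two_mul_le hA hndK (inf_le_right : W ⊓ LinearMap.ker (T - 1) ≤ _)
      fun u hu v hv => hW u hu.1 v hv.1
    rw [hker] at this
    omega
  -- the moving part, one class at a time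
  have hclass : ∀ l, ∃ (n : ℕ) (Φ : (Fin d ⊕ Fin d → F) →ₗ[F] ({b // cls b = l} → Fin h ⊕ Fin h → F)),
      (∀ v b, Φ v b = (Ψ v).1 b.1) ∧ finrank F ↥(M.map Φ) = n * i ∧
        n ≤ (Finset.univ.filter fun b => cls b = l).card / 2 := by
    intro l
    let Φ : (Fin d ⊕ Fin d → F) →ₗ[F] ({b // cls b = l} → Fin h ⊕ Fin h → F) :=
      (LinearMap.funLeft F (Fin h ⊕ Fin h → F) Subtype.val) ∘ₗ LinearMap.fst F _ _ ∘ₗ Ψ.toLinearMap
    let Tl : Module.End F ({b // cls b = l} → Fin h ⊕ Fin h → F) := LinearMap.pi fun b => (Y l) ∘ₗ LinearMap.proj b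
    have hTlpow : ∀ n v b, (Tl ^ n) v b = ((Y l) ^ n) (v b) := by
      intro n
      induction n with
      | zero => intro v b; simp
      | succ n ih => intro v b; rw [pow_succ', Module.End.mul_apply, pow_succ', Module.End.mul_apply, ← ih]; rfl
    have hΦT : ∀ v, Φ (T v) = Tl (Φ v) := fun v => funext fun b => by
      show (Ψ (T v)).1 b.1 = (Y l) ((Ψ v).1 b.1)
      rw [hT1]
      show (Y (cls b.1)) _ = _
      rw [b.2]
    have hTlr : Tl ^ r = 1 := LinearMap.ext fun v => funext fun b => by rw [hTlpow, hYr]; rfl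
    obtain ⟨n, hn'⟩ : i ∣ finrank F ↥(M.map Φ) := hi ▸ CfsgLib.OrderR.orderOf_dvd_finrank Tl hq hTlr _
      (by
        rintro _ ⟨_, ⟨v, hv, rfl⟩, rfl⟩
        exact ⟨T v, hTM v hv, hΦT v⟩)
      fun v _ hv => funext fun b => hYfix l _ (congrFun hv b)
    refine ⟨n, Φ, fun v b => rfl, by rw [hn', mul_comm], ?_⟩
    let em : ({b // cls b = l} → Fin h ⊕ Fin h → F) →ₗ[F] (Fin d ⊕ Fin d → F) :=
      Ψ.symm.toLinearMap ∘ₗ LinearMap.inl F _ _ ∘ₗ
        LinearMap.pi fun b => if hb : cls b = l then LinearMap.proj (⟨b, hb⟩ : {b // cls b = l}) else 0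
    have hem : ∀ u b, (Ψ (em u)).1 b = if hb : cls b = l then u ⟨b, hb⟩ else 0 := by
      intro u b
      simp only [em, LinearMap.comp_apply, LinearEquiv.coe_coe, LinearEquiv.apply_symm_apply, LinearMap.inl_apply,
        LinearMap.pi_apply]
      split_ifs <;> simp
    have hem2 : ∀ u, (Ψ (em u)).2 = 0 := fun u => by simp [em]
    let Bl := (sympBilin d F).comp em em
    have hBl : ∀ u v, Bl u v = ∑ b : {b // cls b = l}, sympBilin h F (u b) (v b) := by
      intro u v
      show sympBilin d F (em u) (em v) = _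
      rw [key, hem2, hem2, map_zero, add_zero,
        ← Fintype.sum_subtype_add_sum_subtype (fun b => cls b = l) (fun j => sympBilin h F ((Ψ (em u)).1 j) ((Ψ (em v)).1 j))]
      rw [Finset.sum_eq_zero (s := (Finset.univ : Finset {b // ¬ cls b = l})) (fun b _ => by
        rw [hem, dif_neg b.2, map_zero, LinearMap.zero_apply]), add_zero]
      exact Finset.sum_congr rfl fun b _ => by rw [hem, hem, dif_pos b.2, dif_pos b.2]
    have hBA : Bl.IsAlt := fun u => hA (em u)
    have hndl : Nd Bl ⊤ := fun u _ hall => funext fun b => CfsgLib.Sp.sympBilin_separatingLeft _ fun w => by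
      have := hall (Pi.single b w) Submodule.mem_top
      rw [hBl, Finset.sum_eq_single b (fun b' _ hb' => by rw [Pi.single_eq_of_ne hb', map_zero]) (by simp),
        Pi.single_eq_same] at this
      exact this
    -- the projection to the class is a polynomial in `T`
    obtain ⟨N, hN⟩ := (hGp l).2.2.2
    have hsep : (G l * N).Separable := hN ▸ X_pow_sub_one_separable_iff.2 hr0
    obtain ⟨α, β, hab⟩ := hsep.isCoprime
    set Q : F[X] := β * N with hQdef
    have hQT : ∀ (p : F[X]) v b, (Ψ (aeval T p v)).1 b = aeval (Y (cls b)) p ((Ψ v).1 b) := by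
      intro p v b
      simp only [aeval_eq_sum_range, LinearMap.sum_apply, map_sum, Prod.fst_sum, Finset.sum_apply, LinearMap.smul_apply,
        map_smul, Prod.smul_fst, Pi.smul_apply, hpow]
    have hQ1 : aeval (Y l) Q = 1 := by
      have h1 := congrArg (aeval (Y l)) hab
      rw [map_add, map_mul (aeval (Y l)) α, hYg, mul_zero, zero_add, map_one] at h1
      exact h1
    have hQ0 : ∀ l', l' ≠ l → aeval (Y l') Q = 0 := by
      intro l' hne
      have hd : G l' ∣ G l * N := hN ▸ (hGp l').2.2.2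
      have hd' : G l' ∣ N := ((hGp l').2.1.prime.dvd_mul.1 hd).resolve_left fun hdd => hne (hG
        (eq_of_monic_of_associated (hGp l').1 (hGp l).1 ((hGp l').2.1.associated_of_dvd (hGp l).2.1 hdd)))
      obtain ⟨w, hw⟩ := hd'
      rw [hQdef, hw, show β * (G l' * w) = β * w * G l' by ring, map_mul, hYg, mul_zero]
    have hti : ∀ u ∈ M.map Φ, ∀ v ∈ M.map Φ, Bl u v = 0 := by
      rintro _ ⟨u, hu, rfl⟩ _ ⟨v, hv, rfl⟩
      have hemQ : ∀ u ∈ M, em (Φ u) = aeval T Q u := fun u hu => Ψ.injective (Prod.ext (funext fun b => by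
        rw [hem, hQT]
        split_ifs with hb
        · rw [hb, hQ1, Module.End.one_apply]; rfl
        · rw [hQ0 _ hb]; rfl) (by rw [hem2, hMfix _ (CfsgLib.SemiR.aeval_mem hTM Q hu)]))
      show sympBilin d F (em (Φ u)) (em (Φ v)) = 0
      rw [hemQ u hu, hemQ v hv]
      exact hW _ (hMW (CfsgLib.SemiR.aeval_mem hTM Q hu)) _ (hMW (CfsgLib.SemiR.aeval_mem hTM Q hv))
    have h2 := CfsgLib.SympIsotropic.two_mul_le hBA hndl le_top hti
    rw [hn', finrank_top, Module.finrank_pi_fintype] at h2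
    simp only [Module.finrank_fintype_fun_eq_card, Fintype.card_sum, Fintype.card_fin, Finset.sum_const,
      Finset.card_univ, smul_eq_mul, ← hih, Fintype.card_subtype] at h2
    refine (Nat.le_div_iff_mul_le two_pos).2 (Nat.le_of_mul_le_mul_left (?_ : i * (n * 2) ≤ i * _) hi0)
    calc i * (n * 2) = 2 * (i * n) := by ring
      _ ≤ _ := h2.trans (le_of_eq (mul_comm _ _))
  choose n Φ hΦ hn' hle using hclass
  let L : M →ₗ[F] ((l : Fin t) → ↥(M.map (Φ l))) := LinearMap.pi fun l => (Φ l).submoduleMap M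
  have hL : Function.Injective L := (injective_iff_map_eq_zero _).2 fun v hv => Subtype.ext (Ψ.injective (by
    rw [ZeroMemClass.coe_zero, map_zero]
    refine Prod.ext (funext fun b => ?_) (hMfix _ v.2)
    have h0 := congrArg Subtype.val (congrFun hv (cls b))
    have h1 := congrFun h0 ⟨b, rfl⟩
    simpa [L, hΦ] using h1))
  have hle' := LinearMap.finrank_le_finrank_of_injective hL
  rw [Module.finrank_pi_fintype, Finset.sum_congr rfl fun l _ => hn' l, ← Finset.sum_mul, hj, mul_comm i] at hle'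
  exact (Nat.le_of_mul_le_mul_right hle' hi0).trans (Finset.sum_le_sum fun l _ => hle l)

end CfsgLib.SympClasses
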