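import Cfsg.Prelude.Def_GeometricClasses
import Cfsg.Agent.Lib.Maximal99.BlockDecomp
import Cfsg.Agent.Lib.Maximal99.SympSemiR
import Cfsg.Agent.Lib.Maximal99.SympWitness
import Cfsg.Agent.Lib.Sp.Decomp

/-!
Orthogonal decompositions of symplectic spaces into non-degenerate summands of one dimension.
-/

set_option autoImplicit false

namespace CfsgLib.SympDecompositions

open Module Cfsg
open CfsgLib.Sp (sympBilin)
open CfsgLib.SympSemiR (Nd)

variable {F : Type*} [Field F] {d a t : ℕ}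

/-- The frozen condition. -/
def IsOrth (a : ℕ) (D : Fin t → Submodule F (Fin d ⊕ Fin d → F)) : Prop :=
  Cfsg.Geo.IsMDecomposition a D ∧ (∀ j, ∀ u ∈ D j, u ≠ 0 → ∃ v ∈ D j, Cfsg.sympForm d F u v ≠ 0) ∧
    (∀ j j', j ≠ j' → ∀ u ∈ D j, ∀ v ∈ D j', Cfsg.sympForm d F u v = 0)

lemma nd_iff (W : Submodule F (Fin d ⊕ Fin d → F)) :
    (∀ u ∈ W, u ≠ 0 → ∃ v ∈ W, Cfsg.sympForm d F u v ≠ 0) ↔ Nd (sympBilin d F) W := by
  simp only [Nd, CfsgLib.Sp.sympBilin_apply]
  refine forall₂_congr fun u _ => ⟨fun h h' => by_contra fun hu => ?_, fun h hu => by_contra fun h' => ?_⟩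
  · obtain ⟨v, hv, hne⟩ := h hu
    exact hne (h' v hv)
  · push Not at h'
    exact hu (h h')

/-- Mutually orthogonal non-degenerate subspaces of the right dimensions form a decomposition. -/
theorem isOrth_of_nd (ht : 2 ≤ t) (ha : 0 < a) (hat : 2 * d = a * t) {D : Fin t → Submodule F (Fin d ⊕ Fin d → F)}
    (hdim : ∀ j, finrank F (D j) = a) (hnd : ∀ j, Nd (sympBilin d F) (D j))
    (horth : ∀ j j', j ≠ j' → ∀ u ∈ D j, ∀ v ∈ D j', sympBilin d F u v = 0) : IsOrth a D := by
  classical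
  refine ⟨⟨ht, ha, hdim, fun j => Submodule.disjoint_def.2 fun x hx hx' => hnd j x hx fun v hv => ?_, ?_⟩,
    fun j => (nd_iff _).2 (hnd j), fun j j' h u hu v hv => by rw [← CfsgLib.Sp.sympBilin_apply]; exact horth j j' h u hu v hv⟩
  · refine (iSup₂_le (fun j' (hj' : j' ≠ j) => fun w hw => ?_) :
      (⨆ j', ⨆ _ : j' ≠ j, D j') ≤ LinearMap.ker ((sympBilin d F).flip v)) hx'
    exact horth j' j hj' w hw v hv
  · let f : (∀ j, D j) →ₗ[F] (Fin d ⊕ Fin d → F) := ∑ j, (D j).subtype ∘ₗ LinearMap.proj j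
    have hinj : Function.Injective f := (injective_iff_map_eq_zero _).2 fun g hg => funext fun j =>
      Subtype.ext (hnd j _ (g j).2 fun v hv => by
        have h := congrArg (fun x => sympBilin d F x v) hg
        simp only [f, LinearMap.sum_apply, LinearMap.comp_apply, LinearMap.proj_apply, Submodule.coe_subtype, map_sum,
          map_zero, LinearMap.zero_apply] at h
        rwa [Finset.sum_eq_single j (fun l _ hl => horth l j hl _ (g l).2 v hv) (by simp)] at h)
    have hsurj : Function.Surjective f := (LinearMap.injective_iff_surjective_of_finrank_eq_finrank (by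
      rw [Module.finrank_pi_fintype, Finset.sum_congr rfl fun j _ => hdim j, Finset.sum_const, Finset.card_univ,
        Fintype.card_fin, smul_eq_mul, Module.finrank_fintype_fun_eq_card, Fintype.card_sum, Fintype.card_fin, mul_comm,
        ← hat, two_mul])).1 hinj
    refine Submodule.eq_top_iff'.2 fun x => ?_
    obtain ⟨g, rfl⟩ := hsurj x
    simp only [f, LinearMap.sum_apply, LinearMap.comp_apply, LinearMap.proj_apply, Submodule.coe_subtype]
    exact Submodule.sum_mem _ fun j _ => le_iSup D j (g j).2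

variable [Fintype F]

/-- Decompositions exist. -/
theorem nonempty (ht : 2 ≤ t) (ha : 0 < a) (hae : Even a) (hat : 2 * d = a * t) :
    ∃ D : Fin t → Submodule F (Fin d ⊕ Fin d → F), IsOrth a D := by
  obtain ⟨h, rfl⟩ := hae
  have hA : (sympBilin d F).IsAlt := CfsgLib.Sp.sympBilin_isAlt
  suffices key : ∀ (s : ℕ) (R : Submodule F (Fin d ⊕ Fin d → F)), Nd (sympBilin d F) R → finrank F R = s * (h + h) →
      ∃ D : Fin s → Submodule F (Fin d ⊕ Fin d → F), (∀ j, D j ≤ R) ∧ (∀ j, finrank F (D j) = h + h) ∧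
        (∀ j, Nd (sympBilin d F) (D j)) ∧ (∀ j j', j ≠ j' → ∀ u ∈ D j, ∀ v ∈ D j', sympBilin d F u v = 0) by
    obtain ⟨D, -, h1, h2, h3⟩ := key t ⊤ (CfsgLib.SympWitness.nd_top d) (by
      rw [finrank_top, Module.finrank_fintype_fun_eq_card, Fintype.card_sum, Fintype.card_fin, ← two_mul, hat, mul_comm])
    exact ⟨D, isOrth_of_nd ht ha hat h1 h2 h3⟩
  intro s
  induction s with
  | zero => exact fun R _ _ => ⟨Fin.elim0, fun j => j.elim0, fun j => j.elim0, fun j => j.elim0, fun j => j.elim0⟩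
  | succ s ih =>
    intro R hR hRd
    haveI : Fact (Nat.Prime 2) := ⟨Nat.prime_two⟩
    obtain ⟨W, hWR, hW, -, hWd⟩ := CfsgLib.SympSemiR.exists_sub hA (T' := 1) (c' := 2) (fun v w => rfl) (s := 2)
      (one_pow 2) hR (fun x hx => hx) (fun U _ hU _ hne => by
        obtain ⟨W, h1, h2, h3⟩ := CfsgLib.SympSemiR.exists_plane hA hU hne
        exact ⟨W, h1, h2, fun x hx => hx, h3⟩) h (by rw [hRd, add_mul, one_mul]; omega)
    obtain ⟨hR', hR'd⟩ := CfsgLib.SympSemiR.nd_inf_orth hA hR hW hWR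
    obtain ⟨D, hle, h1, h2, h3⟩ := ih _ hR' (by rw [hRd, hWd, add_mul, one_mul] at hR'd; omega)
    refine ⟨Fin.cons W D, Fin.cases hWR fun j => (hle j).trans inf_le_left, Fin.cases (by rw [Fin.cons_zero, hWd, mul_two]) h1,
      Fin.cases hW h2, Fin.cases (fun j' hne => ?_) fun j j' hne => ?_⟩
    · obtain ⟨j', rfl⟩ := Fin.eq_succ_of_ne_zero (Ne.symm hne)
      intro u hu v hv
      exact (hle j' hv).2 u hu
    · revert hne
      refine Fin.cases (fun _ u hu v hv => ?_) (fun j' hne => ?_) j'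
      · exact (CfsgLib.SympSemiR.mem_orth hA).1 (hle j hu).2 v hv
      · exact h3 j j' fun e => hne (congrArg _ e)

/-- Two decompositions differ by an element of the symplectic group. -/
theorem exists_map_eq {D D' : Fin t → Submodule F (Fin d ⊕ Fin d → F)} (hD : IsOrth a D) (hD' : IsOrth a D') :
    ∃ g : ↥(Matrix.symplecticGroup (Fin d) F), ∀ j, (D j).map (CfsgLib.Sp.toEquiv d F g).toLinearMap = D' j := by
  classical
  have hA : (sympBilin d F).IsAlt := CfsgLib.Sp.sympBilin_isAlt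
  rcases Nat.eq_zero_or_pos t with rfl | ht0
  · exact ⟨1, fun j => j.elim0⟩
  obtain ⟨h, hh⟩ : ∃ h, a = 2 * h := by
    have := CfsgLib.SympSemiR.nd_even hA ((nd_iff _).1 (hD.2.1 ⟨0, ht0⟩))
    rw [hD.1.finrank_eq] at this
    exact this.two_dvd
  have hstd : ∀ (E : Fin t → Submodule F (Fin d ⊕ Fin d → F)), IsOrth a E → ∀ j,
      ∃ φ : (Fin h ⊕ Fin h → F) ≃ₗ[F] E j, ∀ u v, sympBilin d F (φ u) (φ v) = sympForm h F u v := fun E hE j =>
    CfsgLib.Sp.exists_std_equiv ((sympBilin d F).restrict (E j)) (fun v => hA v)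
      (fun u hu => Subtype.ext ((nd_iff _).1 (hE.2.1 j) u u.2 fun v hv => hu ⟨v, hv⟩)) ((hE.1.finrank_eq j).trans hh)
  choose φ hφ using hstd D hD
  choose φ' hφ' using hstd D' hD'
  let bas : ∀ j, Basis (Fin h ⊕ Fin h) F (D j) := fun j => (Pi.basisFun F _).map (φ j)
  let bas' : ∀ j, Basis (Fin h ⊕ Fin h) F (D' j) := fun j => (Pi.basisFun F _).map (φ' j)
  let b := (CfsgLib.GeomClasses.Decomp.isInternal hD.1).collectedBasis bas
  let b' := (CfsgLib.GeomClasses.Decomp.isInternal hD'.1).collectedBasis bas'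
  have e1 : ∀ j s, b ⟨j, s⟩ = (bas j s : Fin d ⊕ Fin d → F) := fun j s =>
    congrFun ((CfsgLib.GeomClasses.Decomp.isInternal hD.1).collectedBasis_coe bas) ⟨j, s⟩
  have e2 : ∀ j s, b' ⟨j, s⟩ = (bas' j s : Fin d ⊕ Fin d → F) := fun j s =>
    congrFun ((CfsgLib.GeomClasses.Decomp.isInternal hD'.1).collectedBasis_coe bas') ⟨j, s⟩
  let g := b.equiv b' (Equiv.refl _)
  have eg : ∀ x, g (b x) = b' x := fun x => by simp [g]
  have hg : g ∈ CfsgLib.Sp.isom (sympBilin d F) := by
    refine CfsgLib.Sp.mem_isom.2 fun u v => ?_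
    have key : (sympBilin d F).compl₁₂ g.toLinearMap g.toLinearMap = sympBilin d F := by
      refine b.ext fun ⟨j, s⟩ => b.ext fun ⟨j', s'⟩ => ?_
      show sympBilin d F (g (b ⟨j, s⟩)) (g (b ⟨j', s'⟩)) = _
      rw [eg, eg, e1, e1, e2, e2]
      by_cases hjj : j = j'
      · subst hjj
        simp only [bas, bas', Basis.map_apply]
        rw [hφ, hφ']
      · rw [CfsgLib.Sp.sympBilin_apply, CfsgLib.Sp.sympBilin_apply, hD.2.2 j j' hjj _ (bas j s).2 _ (bas j' s').2,
          hD'.2.2 j j' hjj _ (bas' j s).2 _ (bas' j' s').2]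
    exact LinearMap.congr_fun₂ key u v
  obtain ⟨A, hA'⟩ := CfsgLib.Sp.exists_toEquiv_eq hg
  refine ⟨A, fun j => ?_⟩
  rw [hA']
  refine Submodule.eq_of_le_of_finrank_le ?_ ?_
  · have hspan : D j = Submodule.span F (Set.range fun s => (bas j s : Fin d ⊕ Fin d → F)) := by
      rw [show Set.range (fun s => (bas j s : Fin d ⊕ Fin d → F)) = (D j).subtype '' Set.range (bas j) by
        rw [← Set.range_comp]; rfl, Submodule.span_image, (bas j).span_eq, Submodule.map_subtype_top]
    rw [hspan, Submodule.map_span_le]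
    rintro _ ⟨s, rfl⟩
    simp only [LinearEquiv.coe_coe]
    rw [← e1, eg, e2]
    exact (bas' j s).2
  · rw [LinearEquiv.finrank_map_eq, hD.1.finrank_eq, hD'.1.finrank_eq]

/-- A prime dividing the number of unordered decompositions divides the order of the symplectic group. -/
theorem dvd_card_sp {r : ℕ} (ht : 2 ≤ t) (ha : 0 < a) (hae : Even a) (hat : 2 * d = a * t)
    (h : r ∣ Nat.card {D : Fin t → Submodule F (Fin d ⊕ Fin d → F) // IsOrth a D} / Nat.factorial t) :
    r ∣ Nat.card ↥(Matrix.symplecticGroup (Fin d) F) := by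
  classical
  set S := {D : Fin t → Submodule F (Fin d ⊕ Fin d → F) // IsOrth a D} with hS
  have hperm : ∀ (π : Equiv.Perm (Fin t)) (D : S), IsOrth a (D.1 ∘ π) := fun π D =>
    ⟨⟨D.2.1.two_le, D.2.1.pos, fun i => D.2.1.finrank_eq _, D.2.1.indep.comp π.injective, by
      rw [← D.2.1.iSup_eq_top]; exact Equiv.iSup_comp π⟩, fun j => D.2.2.1 _,
      fun j j' hne => D.2.2.2 _ _ fun e => hne (π.injective e)⟩
  letI : MulAction (Equiv.Perm (Fin t)) S :=
    { smul := fun π D => ⟨D.1 ∘ π.symm, hperm π.symm D⟩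
      one_smul := fun D => rfl
      mul_smul := fun π π' D => rfl }
  have hfree : ∀ D : S, MulAction.stabilizer (Equiv.Perm (Fin t)) D = ⊥ := by
    intro D
    refine (Subgroup.eq_bot_iff_forall _).2 fun π hπ => Equiv.ext fun j => ?_
    have hπ' : D.1 ∘ π.symm = D.1 := congrArg Subtype.val hπ
    have := CfsgLib.BlockDecomp.injective_of_isMDecomposition D.2.1 (congrFun hπ' (π j))
    simpa using this.symm
  have hN : Nat.card S = Nat.card (Quotient (MulAction.orbitRel (Equiv.Perm (Fin t)) S)) * t.factorial := by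
    rw [Nat.card_congr (MulAction.selfEquivOrbitsQuotientProd hfree), Nat.card_prod, Nat.card_perm, Nat.card_fin]
  rw [hN, Nat.mul_div_cancel _ t.factorial_pos] at h
  have hdvd : r ∣ Nat.card S := hN ▸ h.mul_right _
  obtain ⟨D₀, hD₀⟩ := nonempty (F := F) ht ha hae hat
  let act : ↥(Matrix.symplecticGroup (Fin d) F) → S → S := fun g D =>
    ⟨fun j => (D.1 j).map (CfsgLib.Sp.toEquiv d F g).toLinearMap, isOrth_of_nd ht ha hat
      (fun j => by rw [LinearEquiv.finrank_map_eq]; exact D.2.1.finrank_eq j)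
      (fun j => by
        rintro _ ⟨u, hu, rfl⟩ hall
        have hu0 : u = 0 := (nd_iff _).1 (D.2.2.1 j) u hu fun v hv => by
          rw [← CfsgLib.Sp.toEquiv_mem_isom g u v]
          exact hall _ (Submodule.mem_map_of_mem hv)
        rw [hu0, map_zero])
      (fun j j' hne => by
        rintro _ ⟨u, hu, rfl⟩ _ ⟨v, hv, rfl⟩
        refine (CfsgLib.Sp.toEquiv_mem_isom g u v).trans ?_
        rw [CfsgLib.Sp.sympBilin_apply]
        exact D.2.2.2 j j' hne u hu v hv)⟩
  letI : MulAction ↥(Matrix.symplecticGroup (Fin d) F) S :=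
    { smul := act
      one_smul := fun D => Subtype.ext (funext fun j => by
        show (D.1 j).map (CfsgLib.Sp.toEquiv d F 1).toLinearMap = D.1 j
        rw [map_one]; exact Submodule.map_id _)
      mul_smul := fun g g' D => Subtype.ext (funext fun j => by
        show (D.1 j).map (CfsgLib.Sp.toEquiv d F (g * g')).toLinearMap = ((D.1 j).map _).map _
        rw [← Submodule.map_comp, map_mul]; rfl) }
  have hone : MulAction.orbit ↥(Matrix.symplecticGroup (Fin d) F) (⟨D₀, hD₀⟩ : S) = Set.univ :=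
    Set.eq_univ_of_forall fun D => by
      obtain ⟨g, hg⟩ := exists_map_eq hD₀ D.2
      exact ⟨g, Subtype.ext (funext hg)⟩
  have hc := MulAction.index_stabilizer ↥(Matrix.symplecticGroup (Fin d) F) (⟨D₀, hD₀⟩ : S)
  rw [hone, Set.ncard_univ] at hc
  exact hdvd.trans (hc ▸ Subgroup.index_dvd_card _)

end CfsgLib.SympDecompositions
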