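import Cfsg.Agent.Lib.Maximal99.SympSemiR

/-!
Totally isotropic invariant subspaces of semisimple isometries of prime order.
-/

set_option autoImplicit false

namespace CfsgLib.SympIsotropic

open Module Polynomial
open LinearMap (BilinForm)
open CfsgLib.SympSemiR (Nd)

variable {F : Type*} [Field F] {V : Type*} [AddCommGroup V] [Module F V]

/-- Totally isotropic. -/
def Ti (B : BilinForm F V) (W : Submodule F V) : Prop := ∀ u ∈ W, ∀ v ∈ W, B u v = 0

lemma ti_sup {B : BilinForm F V} (hA : B.IsAlt) {W₁ W₂ : Submodule F V} (h₁ : Ti B W₁) (h₂ : Ti B W₂)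
    (h : ∀ u ∈ W₁, ∀ v ∈ W₂, B u v = 0) : Ti B (W₁ ⊔ W₂) := by
  intro x hx y hy
  obtain ⟨a, ha, b, hb, rfl⟩ := Submodule.mem_sup.1 hx
  obtain ⟨c, hc, d, hd, rfl⟩ := Submodule.mem_sup.1 hy
  have h' : B b c = 0 := by rw [CfsgLib.Sp.alt_flip hA c b, h c hc b hb, neg_zero]
  simp [h₁ a ha c hc, h₂ b hb d hd, h a ha d hd, h']

variable [FiniteDimensional F V] {B : BilinForm F V} (hA : B.IsAlt)
include hA

lemma two_mul_le {U W : Submodule F V} (hU : Nd B U) (hWU : W ≤ U) (hW : Ti B W) :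
    2 * finrank F W ≤ finrank F U := by
  let M : W →ₗ[F] Module.Dual F U := U.subtype.dualMap ∘ₗ B ∘ₗ W.subtype
  have hM : Function.Injective M := (injective_iff_map_eq_zero _).2 fun w hw =>
    Subtype.ext (hU w (hWU w.2) fun v hv => LinearMap.congr_fun hw ⟨v, hv⟩)
  have hle : LinearMap.range M ≤ Submodule.dualAnnihilator (W.comap U.subtype) := by
    rintro _ ⟨w, rfl⟩
    rw [Submodule.mem_dualAnnihilator]
    exact fun u hu => hW w w.2 u hu
  have h1 := Submodule.finrank_mono hle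
  rw [LinearMap.finrank_range_of_inj hM] at h1
  have h2 := Subspace.finrank_add_finrank_dualAnnihilator_eq (W.comap U.subtype)
  rw [(Submodule.comapSubtypeEquivOfLe hWU).finrank_eq] at h2
  omega

lemma exists_ti : ∀ (k : ℕ) (U : Submodule F V), Nd B U → 2 * k ≤ finrank F U →
    ∃ W ≤ U, Ti B W ∧ finrank F W = k := by
  intro k
  induction k with
  | zero => exact fun U _ _ => ⟨⊥, bot_le, fun u hu v _ => by rw [(Submodule.mem_bot F).1 hu]; simp, finrank_bot F V⟩
  | succ k ih =>
    intro U hU hd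
    obtain ⟨P, hPU, hP, hPd⟩ := CfsgLib.SympSemiR.exists_plane hA hU fun e => by rw [e, finrank_bot] at hd; omega
    obtain ⟨hU', hU'd⟩ := CfsgLib.SympSemiR.nd_inf_orth hA hU hP hPU
    obtain ⟨W', hW'U, hW', hW'd⟩ := ih _ hU' (by omega)
    obtain ⟨u, hu, hu0⟩ := P.exists_mem_ne_zero_of_ne_bot fun e => by rw [e, finrank_bot] at hPd; omega
    refine ⟨Submodule.span F {u} ⊔ W', sup_le ((Submodule.span_singleton_le_iff_mem u U).2 (hPU hu)) (hW'U.trans inf_le_left),
      ti_sup hA (fun a ha b hb => ?_) hW' (fun a ha b hb => ?_), ?_⟩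
    · obtain ⟨s, rfl⟩ := Submodule.mem_span_singleton.1 ha
      obtain ⟨s', rfl⟩ := Submodule.mem_span_singleton.1 hb
      simp [hA.self_eq_zero u]
    · obtain ⟨s, rfl⟩ := Submodule.mem_span_singleton.1 ha
      exact (hW'U hb).2 _ (P.smul_mem s hu)
    · have hd' : Submodule.span F {u} ⊓ W' = ⊥ := (Submodule.eq_bot_iff _).2 fun x hx => hP x
        ((Submodule.span_singleton_le_iff_mem u P).2 hu hx.1) fun v hv =>
        (CfsgLib.SympSemiR.mem_orth hA).1 (hW'U hx.2).2 v hv
      have := Submodule.finrank_sup_add_finrank_inf_eq (Submodule.span F {u}) W'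
      rw [hd', finrank_bot, add_zero, finrank_span_singleton hu0, hW'd] at this
      omega

variable {T : Module.End F V} (hTB : ∀ v w, B (T v) (T w) = B v w) {r : ℕ} [Fact r.Prime] (hT : T ^ r = 1)
  [Fintype F] {q i : ℕ} (hq : Fintype.card F = q) (hi : i = orderOf (q : ZMod r)) (hi0 : 0 < i) (hr0 : (r : F) ≠ 0)
include hTB hT hq hi hi0 hr0

omit hA hTB hi0 hr0 in
lemma dim_dich {X : Submodule F V} (hTX : ∀ x ∈ X, T x ∈ X) (hfix : ∀ v ∈ X, T v = v → v = 0)
    (hle : finrank F X ≤ i) : X = ⊥ ∨ finrank F X = i := by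
  obtain ⟨w, hw⟩ : i ∣ finrank F X := hi ▸ CfsgLib.OrderR.orderOf_dvd_finrank T hq hT X
    (by rintro _ ⟨x, hx, rfl⟩; exact hTX x hx) hfix
  rcases Nat.eq_zero_or_pos w with rfl | hw0
  · exact Or.inl (Submodule.finrank_eq_zero.1 (by rw [hw, mul_zero]))
  · exact Or.inr (le_antisymm hle (hw ▸ Nat.le_mul_of_pos_right i hw0))

/-- An isotropic piece lies in a non-degenerate invariant subspace of twice its dimension. -/
lemma exists_hyp {U : Submodule F V} (hU : Nd B U) (hTU : ∀ x ∈ U, T x ∈ U) (hfix : ∀ v ∈ U, T v = v → v = 0)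
    {X : Submodule F V} (hXU : X ≤ U) (hTX : ∀ x ∈ X, T x ∈ X) (hX : Ti B X) (hXd : finrank F X = i) :
    ∃ H ≤ U, X ≤ H ∧ Nd B H ∧ (∀ x ∈ H, T x ∈ H) ∧ finrank F H = 2 * i := by
  obtain ⟨x₀, hx₀, hx₀0⟩ := X.exists_mem_ne_zero_of_ne_bot fun e => by rw [e, finrank_bot] at hXd; omega
  obtain ⟨y₀, hy₀, hxy₀⟩ : ∃ y ∈ U, B x₀ y ≠ 0 := by
    by_contra h
    push Not at h
    exact hx₀0 (hU x₀ (hXU hx₀) h)
  obtain ⟨X', hX', hTX', hX'd, -, x₂, hx₂, hfx₂⟩ :=
    CfsgLib.SympSemiR.exists_irred hA hTB hT hq hi hi0 hr0 hTU hfix (B x₀) ⟨y₀, hy₀, hxy₀⟩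
  have hmeet : ∀ (P Q : Submodule F V), Q ≤ U → (∀ x ∈ P, T x ∈ P) → (∀ x ∈ Q, T x ∈ Q) → finrank F Q = i →
      (∃ a ∈ P, ∃ b ∈ Q, B a b ≠ 0) → Q ⊓ B.orthogonal P = ⊥ := by
    rintro P Q hQ hTP hTQ hQd ⟨a, ha, b, hb, hab⟩
    refine (dim_dich hT hq hi (X := Q ⊓ B.orthogonal P)
      (fun x hx => ⟨hTQ x hx.1, CfsgLib.SympSemiR.orth_inv hA hTB hT hTP x hx.2⟩) (fun v hv => hfix v (hQ hv.1))
      ((Submodule.finrank_mono inf_le_left).trans hQd.le)).resolve_right fun h => hab ?_
    have hQe : Q ⊓ B.orthogonal P = Q := Submodule.eq_of_le_of_finrank_le inf_le_left (by omega)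
    exact (hQe.ge hb).2 a ha
  have hm1 : X' ⊓ B.orthogonal X = ⊥ := hmeet X X' hX' hTX hTX' hX'd ⟨x₀, hx₀, x₂, hx₂, hfx₂⟩
  have hm2 : X ⊓ B.orthogonal X' = ⊥ := hmeet X' X hXU hTX' hTX hXd
    ⟨x₂, hx₂, x₀, hx₀, by rw [CfsgLib.Sp.alt_flip hA x₀ x₂]; simpa using hfx₂⟩
  refine ⟨X ⊔ X', sup_le hXU hX', le_sup_left, ?_, ?_, ?_⟩
  · intro x hx hall
    obtain ⟨a, ha, b, hb, rfl⟩ := Submodule.mem_sup.1 hx
    have hb0 : b = 0 := (Submodule.eq_bot_iff _).1 hm1 b ⟨hb, (CfsgLib.SympSemiR.mem_orth hA).2 fun v hv => by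
      simpa [hX a ha v hv] using hall v (Submodule.mem_sup_left hv)⟩
    subst hb0
    have ha0 : a = 0 := (Submodule.eq_bot_iff _).1 hm2 a ⟨ha, (CfsgLib.SympSemiR.mem_orth hA).2 fun v hv => by
      simpa using hall v (Submodule.mem_sup_right hv)⟩
    rw [ha0, zero_add]
  · intro x hx
    obtain ⟨a, ha, b, hb, rfl⟩ := Submodule.mem_sup.1 hx
    rw [map_add]
    exact add_mem (Submodule.mem_sup_left (hTX a ha)) (Submodule.mem_sup_right (hTX' b hb))
  · have hd : X ⊓ X' = ⊥ := (Submodule.eq_bot_iff _).2 fun x hx =>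
      (Submodule.eq_bot_iff _).1 hm1 x ⟨hx.2, (CfsgLib.SympSemiR.mem_orth hA).2 fun v hv => hX x hx.1 v hv⟩
    have := Submodule.finrank_sup_add_finrank_inf_eq X X'
    rw [hd, finrank_bot, add_zero, hXd, hX'd] at this
    rw [this, two_mul]

omit hr0 in
/-- A subspace killed by one polynomial of degree `i = 2 h`, of dimension over `i`, has an isotropic piece. -/
theorem exists_piece_same {p : ℕ} [CharP F p] (hp : p.Prime) {h : ℕ} (hih : i = h + h) {Y : Submodule F V}
    (hTY : ∀ x ∈ Y, T x ∈ Y) (hfix : ∀ v ∈ Y, T v = v → v = 0) {g : F[X]} (hgm : g.Monic) (hgd : g.natDegree = i)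
    (hg : ∀ x ∈ Y, aeval T g x = 0) (hdim : i < finrank F Y) :
    ∃ X ≤ Y, (∀ x ∈ X, T x ∈ X) ∧ Ti B X ∧ finrank F X = i := by
  classical
  haveI : Fact p.Prime := ⟨hp⟩
  let b := Module.finBasis F Y
  let f : Fin h → MvPolynomial (Fin (finrank F Y)) F := fun j =>
    ∑ a, ∑ a', MvPolynomial.C (B (b a : V) ((T ^ ((j : ℕ) + 1)) (b a' : V))) * MvPolynomial.X a * MvPolynomial.X a'
  have hdeg : ∀ j, (f j).totalDegree ≤ 2 := fun j =>
    (MvPolynomial.totalDegree_finset_sum _ _).trans (Finset.sup_le fun a _ =>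
      (MvPolynomial.totalDegree_finset_sum _ _).trans (Finset.sup_le fun a' _ => by
        refine (MvPolynomial.totalDegree_mul _ _).trans ((Nat.add_le_add (MvPolynomial.totalDegree_mul _ _) le_rfl).trans ?_)
        simp [MvPolynomial.totalDegree_C, MvPolynomial.totalDegree_X]))
  have hsum : ∑ j, (f j).totalDegree < Fintype.card (Fin (finrank F Y)) := by
    refine (Finset.sum_le_sum fun j _ => hdeg j).trans_lt ?_
    simp only [Finset.sum_const, Finset.card_univ, Fintype.card_fin, smul_eq_mul]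
    omega
  have hdvd := char_dvd_card_solutions_of_fintype_sum_lt p hsum
  have hev : ∀ (x : Fin (finrank F Y) → F) (j : Fin h), MvPolynomial.eval x (f j) =
      B (∑ a, x a • (b a : V)) ((T ^ ((j : ℕ) + 1)) (∑ a, x a • (b a : V))) := by
    intro x j
    simp only [f, map_sum, map_mul, MvPolynomial.eval_C, MvPolynomial.eval_X, map_smul, LinearMap.sum_apply,
      LinearMap.smul_apply, smul_eq_mul, Finset.mul_sum]
    rw [Finset.sum_comm]
    refine Finset.sum_congr rfl fun a _ => Finset.sum_congr rfl fun a' _ => ?_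
    ring
  obtain ⟨⟨x, hx⟩, hx0⟩ : ∃ x : {x // ∀ j, MvPolynomial.eval x (f j) = 0}, x.1 ≠ 0 := by
    by_contra hcon
    push Not at hcon
    have h1 : Nat.card {x // ∀ j, MvPolynomial.eval x (f j) = 0} = 1 :=
      Nat.card_eq_one_iff_exists.2 ⟨⟨0, fun j => by rw [hev]; simp⟩, fun x => Subtype.ext (hcon x)⟩
    rw [Fintype.card_eq_nat_card] at hdvd
    rw [h1, Nat.dvd_one] at hdvd
    exact hp.one_lt.ne' hdvd
  set w := ∑ a, x a • (b a : V) with hw
  have hw0 : w ≠ 0 := fun h0 => hx0 (funext fun a => Fintype.linearIndependent_iff.1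
    (b.linearIndependent.map' Y.subtype (Submodule.ker_subtype Y)) x h0 a)
  have hwY : w ∈ Y := Submodule.sum_mem _ fun a _ => Y.smul_mem _ (b a).2
  let φ : ℕ → F := fun n => B w ((T ^ n) w)
  have hlow : ∀ n, n ≤ h → φ n = 0 := by
    intro n hn
    rcases Nat.eq_zero_or_pos n with rfl | hn0
    · simp only [φ, pow_zero, Module.End.one_apply]; exact hA.self_eq_zero w
    · have := hx ⟨n - 1, by omega⟩
      rw [hev, show ((⟨n - 1, by omega⟩ : Fin h) : ℕ) + 1 = n by simp; omega] at this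
      exact this
  have hsym : ∀ n, n ≤ r → B w ((T ^ (r - n)) w) = -φ n := by
    intro n hn
    rw [← CfsgLib.SympSemiR.isometry_pow hTB n, ← Module.End.mul_apply, ← pow_add, Nat.add_sub_cancel' hn, hT,
      Module.End.one_apply, CfsgLib.Sp.alt_flip hA]
  have hir : i < r := by
    have h1 := ZMod.pow_card_sub_one_eq_one (p := r) (a := (q : ZMod r))
    have hq0 : (q : ZMod r) ≠ 0 := fun e => by
      have := pow_orderOf_eq_one (q : ZMod r)
      rw [← hi, e, zero_pow (by omega)] at this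
      exact zero_ne_one this
    have := Nat.le_of_dvd (by have := (Fact.out : r.Prime).two_le; omega) (hi ▸ orderOf_dvd_of_pow_eq_one (h1 hq0))
    have := (Fact.out : r.Prime).two_le
    omega
  -- the window of length `i` in the periodic sequence
  let ψ : ℕ → F := fun n => φ (n + (r - (h - 1)))
  have hper : ∀ n, φ (n + r) = φ n := fun n => by
    simp only [φ, pow_add, hT, mul_one]
  have hwin : ∀ n, n < i → ψ n = 0 := by
    intro n hn
    by_cases hn' : n + (r - (h - 1)) < r
    · have := hsym (h - 1 - n) (by omega)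
      simp only [ψ]
      rw [show n + (r - (h - 1)) = r - (h - 1 - n) by omega]
      show B w ((T ^ (r - (h - 1 - n))) w) = 0
      rw [this, hlow _ (by omega), neg_zero]
    · simp only [ψ]
      rw [show n + (r - (h - 1)) = (n - (h - 1)) + r by omega, hper, hlow _ (by omega)]
  have hrec : ∀ n, φ (n + i) = -∑ l ∈ Finset.range i, g.coeff l * φ (n + l) := by
    intro n
    have h0 : aeval T g ((T ^ n) w) = 0 := hg _ (CfsgLib.SympSemiR.pow_mem hTY n w hwY)
    rw [aeval_eq_sum_range, Finset.sum_range_succ, LinearMap.add_apply, hgm.coeff_natDegree, one_smul,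
      LinearMap.sum_apply, hgd, add_eq_zero_iff_eq_neg', ← Module.End.mul_apply, ← pow_add] at h0
    have h1 := congrArg (B w) h0
    rw [map_neg, map_sum (B w), add_comm i n] at h1
    simp only [φ]
    rw [h1]
    refine congrArg Neg.neg (Finset.sum_congr rfl fun l _ => ?_)
    rw [LinearMap.smul_apply, map_smul, smul_eq_mul, ← Module.End.mul_apply, ← pow_add, add_comm l n]
  have hψ : ∀ n, ψ n = 0 := by
    intro n
    induction n using Nat.strong_induction_on with
    | _ n ih =>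
      by_cases hn : n < i
      · exact hwin n hn
      · simp only [ψ] at ih ⊢
        rw [show n + (r - (h - 1)) = (n - i + (r - (h - 1))) + i by omega, hrec, neg_eq_zero]
        refine Finset.sum_eq_zero fun l hl => ?_
        have := Finset.mem_range.1 hl
        rw [show n - i + (r - (h - 1)) + l = (n - i + l) + (r - (h - 1)) by omega, ih _ (by omega), mul_zero]
  have hall : ∀ n, φ n = 0 := by
    intro n
    have := hψ (n + (h - 1))
    simp only [ψ] at this
    rwa [show n + (h - 1) + (r - (h - 1)) = n + r by omega, hper] at this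
  set W := Submodule.span F (Set.range fun j : Fin i => (T ^ (j : ℕ)) w) with hW
  have hWY : W ≤ Y := Submodule.span_le.2 (by rintro _ ⟨j, rfl⟩; exact CfsgLib.SympSemiR.pow_mem hTY _ _ hwY)
  have hTW : ∀ v ∈ W, T v ∈ W := by
    intro v hv
    refine (Submodule.span_le.2 ?_ : W ≤ W.comap T) hv
    rintro _ ⟨j, rfl⟩
    show T ((T ^ (j : ℕ)) w) ∈ W
    rw [← Module.End.mul_apply, ← pow_succ']
    by_cases hj : (j : ℕ) + 1 < i
    · exact Submodule.subset_span ⟨⟨_, hj⟩, rfl⟩
    · rw [show (j : ℕ) + 1 = i by omega]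
      have h0 := hg w hwY
      rw [aeval_eq_sum_range, Finset.sum_range_succ, LinearMap.add_apply, hgm.coeff_natDegree, one_smul,
        LinearMap.sum_apply, hgd, add_eq_zero_iff_eq_neg'] at h0
      rw [h0]
      exact Submodule.neg_mem _ (Submodule.sum_mem _ fun m hm => Submodule.smul_mem _ _
        (Submodule.subset_span ⟨⟨m, Finset.mem_range.1 hm⟩, rfl⟩))
  refine ⟨W, hWY, hTW, ?_, ?_⟩
  · have hbase : ∀ a c : ℕ, a ≤ c → B ((T ^ a) w) ((T ^ c) w) = 0 := fun a c hac => by
      have h0 : B w ((T ^ (c - a)) w) = 0 := hall (c - a)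
      rw [← CfsgLib.SympSemiR.isometry_pow hTB a, ← Module.End.mul_apply, ← pow_add, Nat.add_sub_cancel' hac] at h0
      exact h0
    intro u hu v hv
    refine LinearMap.eqOn_span (f := B u) (g := 0) ?_ hv
    rintro _ ⟨c, rfl⟩
    refine LinearMap.eqOn_span (f := B.flip ((T ^ (c : ℕ)) w)) (g := 0) ?_ hu
    rintro _ ⟨a, rfl⟩
    show B ((T ^ (a : ℕ)) w) ((T ^ (c : ℕ)) w) = 0
    rcases le_total (a : ℕ) c with h' | h'
    · exact hbase a c h'
    · rw [CfsgLib.Sp.alt_flip hA, hbase c a h', neg_zero]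
  · refine (dim_dich hT hq hi hTW (fun v hv => hfix v (hWY hv))
      ((finrank_range_le_card _).trans (by rw [Fintype.card_fin]))).resolve_left fun e => hw0 ?_
    exact (Submodule.eq_bot_iff W).1 e w (Submodule.subset_span ⟨⟨0, hi0⟩, by simp⟩)

omit hA hTB in
/-- More pieces than there are polynomials: two share one. -/
theorem exists_same {U : Submodule F V} (hTU : ∀ x ∈ U, T x ∈ U) (hfix : ∀ v ∈ U, T v = v → v = 0)
    (hdim : r - 1 < finrank F U) :
    ∃ (Y : Submodule F V) (g : F[X]), Y ≤ U ∧ (∀ x ∈ Y, T x ∈ Y) ∧ g.Monic ∧ g.natDegree = i ∧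
      (∀ x ∈ Y, aeval T g x = 0) ∧ i < finrank F Y := by
  classical
  let T' : Module.End F U := T.restrict hTU
  have hT' : ∀ (n : ℕ) (x : U), (((T' ^ n) x : U) : V) = (T ^ n) x := by
    intro n
    induction n with
    | zero => intro x; simp
    | succ n ih => intro x; rw [pow_succ', Module.End.mul_apply, pow_succ', Module.End.mul_apply, ← ih]; rfl
  have hT'r : T' ^ r = 1 := LinearMap.ext fun x => Subtype.ext (by rw [hT', hT]; rfl)
  obtain ⟨e, k, b, v, g, hb, -, hg, hpiece, -, -, hk⟩ :=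
    CfsgLib.SemiR.exists_cyclic_basis hq hi hi0 hr0 T' hT'r
  have hk0 : k = 0 := by
    have : LinearMap.ker (T' - 1) = ⊥ := (Submodule.eq_bot_iff _).2 fun x hx => Subtype.ext <| hfix x x.2 <| by
      have := congrArg Subtype.val (show (T' - 1) x = 0 from hx)
      simpa [sub_eq_zero, T'] using this
    rw [← hk, this, finrank_bot]
  subst hk0
  have hU : finrank F U = e * i := by
    have := Module.finrank_eq_card_basis b
    simpa using this
  have hne1 : ∀ l, g l ≠ X - C 1 := by
    intro l h1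
    have h0 := (hg l).2.2.2.2
    rw [h1, map_sub, aeval_X, map_one, map_one, LinearMap.sub_apply, Module.End.one_apply, sub_eq_zero] at h0
    have hv : v l = b (.inl (l, ⟨0, hi0⟩)) := by rw [hb]; simp
    have hv0 : v l ≠ 0 := by rw [hv]; exact b.ne_zero _
    exact hv0 (Subtype.ext (hfix _ (v l).2 (congrArg Subtype.val h0)))
  obtain ⟨l, l', hll, hgll⟩ : ∃ l l', l ≠ l' ∧ g l = g l' := by
    by_contra hcon
    push Not at hcon
    have hinj : Function.Injective g := fun a a' h => by_contra fun hne => hcon a a' hne h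
    let s : Option (Fin e) → F[X] := fun o => o.elim (X - C 1) g
    have hcop : ((Finset.univ : Finset (Option (Fin e))) : Set (Option (Fin e))).Pairwise (Function.onFun IsCoprime s) := by
      intro o _ o' _ hne
      have hirr : ∀ o, Irreducible (s o) ∧ (s o).Monic := fun o => by
        rcases o with _ | a
        · exact ⟨irreducible_X_sub_C 1, monic_X_sub_C 1⟩
        · exact ⟨(hg a).2.1, (hg a).1⟩
      have hsinj : Function.Injective s := by
        rintro (_ | a) (_ | a') h
        · rfl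
        · exact absurd h.symm (hne1 a')
        · exact absurd h (hne1 a)
        · rw [hinj h]
      refine ((hirr o).1.coprime_iff_not_dvd).2 fun hd => hne (hsinj ?_)
      exact eq_of_monic_of_associated (hirr o).2 (hirr o').2 ((hirr o).1.associated_of_dvd (hirr o').1 hd)
    have hprod : ∏ o, s o ∣ X ^ r - 1 := Finset.prod_dvd_of_coprime hcop fun o _ => by
      rcases o with _ | a
      · exact ⟨∑ j ∈ Finset.range r, X ^ j, by rw [show s none = X - C 1 from rfl, map_one, mul_geom_sum]⟩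
      · exact (hg a).2.2.2.1
    have hdeg := natDegree_le_of_dvd hprod (by
      intro h0
      exact X_pow_sub_C_ne_zero (Fact.out : r.Prime).pos (1 : F) (by simpa using h0))
    rw [← C_1, natDegree_X_pow_sub_C, natDegree_prod_of_monic _ _ (fun o _ => by
      rcases o with _ | a
      · exact monic_X_sub_C 1
      · exact (hg a).1), Fintype.sum_option] at hdeg
    simp only [s, Option.elim_none, Option.elim_some, natDegree_X_sub_C, (hg _).2.2.1, Finset.sum_const,
      Finset.card_univ, Fintype.card_fin, smul_eq_mul] at hdeg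
    omega
  let w : Fin i ⊕ Fin i → V := Sum.elim (fun j => (b (.inl (l, j)) : V)) (fun j => (b (.inl (l', j)) : V))
  have hw : LinearIndependent F w := by
    have : w = (U.subtype ∘ b) ∘ (Sum.elim (fun j => Sum.inl (l, j)) (fun j => Sum.inl (l', j))) := by
      funext s
      rcases s with j | j <;> rfl
    rw [this]
    refine (b.linearIndependent.map' U.subtype (Submodule.ker_subtype U)).comp _ ?_
    rintro (j | j) (j' | j') h <;> simp only [Sum.elim_inl, Sum.elim_inr, Sum.inl.injEq, Prod.mk.injEq] at h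
    · rw [h.2]
    · exact absurd h.1 hll
    · exact absurd h.1.symm hll
    · rw [h.2]
  refine ⟨Submodule.span F (Set.range w), g l, Submodule.span_le.2 ?_, fun x hx => ?_, (hg l).1, (hg l).2.2.1,
    fun x hx => ?_, ?_⟩
  · rintro _ ⟨j | j, rfl⟩ <;> exact (b _).2
  · refine (Submodule.span_le.2 ?_ : Submodule.span F (Set.range w) ≤ (Submodule.span F (Set.range w)).comap T) hx
    rintro _ ⟨j | j, rfl⟩
    · have := Submodule.apply_mem_span_image_of_mem_span U.subtype (hpiece l j)
      rw [← Set.range_comp] at this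
      exact Submodule.span_mono (by rintro _ ⟨j', rfl⟩; exact ⟨Sum.inl j', rfl⟩) this
    · have := Submodule.apply_mem_span_image_of_mem_span U.subtype (hpiece l' j)
      rw [← Set.range_comp] at this
      exact Submodule.span_mono (by rintro _ ⟨j', rfl⟩; exact ⟨Sum.inr j', rfl⟩) this
  · refine (Submodule.span_le.2 ?_ : Submodule.span F (Set.range w) ≤ LinearMap.ker (aeval T (g l))) hx
    have key : ∀ (a : Fin e) (j : Fin i), aeval T (g a) (b (.inl (a, j)) : V) = 0 := by
      intro a j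
      have h0 : aeval T' (g a) (b (.inl (a, j))) = 0 := by
        rw [hb, ← Module.End.mul_apply, show T' ^ (j : ℕ) = aeval T' (X ^ (j : ℕ) : F[X]) by simp, ← map_mul, mul_comm,
          map_mul, Module.End.mul_apply, (hg a).2.2.2.2, map_zero]
      have h1 := congrArg Subtype.val h0
      rw [aeval_eq_sum_range, LinearMap.sum_apply] at h1 ⊢
      simpa [hT', Submodule.coe_sum] using h1
    rintro _ ⟨j | j, rfl⟩
    · exact key l j
    · show aeval T (g l) _ = 0
      rw [hgll]
      exact key l' j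
  · rw [finrank_span_eq_card hw, Fintype.card_sum, Fintype.card_fin]
    omega

omit hr0 in
/-- Pieces add up: `hX` supplies an isotropic piece in each non-degenerate part of dimension over `b`. -/
theorem exists_iso_sub (hr0' : (r : F) ≠ 0) {R : Submodule F V} (hfix : ∀ v ∈ R, T v = v → v = 0) {b σ : ℕ} (hσ : σ < 2 * i)
    (hX : ∀ U ≤ R, Nd B U → (∀ x ∈ U, T x ∈ U) → b < finrank F U →
      ∃ X ≤ U, (∀ x ∈ X, T x ∈ X) ∧ Ti B X ∧ finrank F X = i) :
    ∀ (j : ℕ) (U : Submodule F V), U ≤ R → Nd B U → (∀ x ∈ U, T x ∈ U) →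
      (j = 0 ∨ b + 2 * i * j ≤ finrank F U + σ) →
      ∃ W ≤ U, (∀ x ∈ W, T x ∈ W) ∧ Ti B W ∧ finrank F W = j * i := by
  intro j
  induction j with
  | zero =>
    exact fun U _ _ _ _ => ⟨⊥, bot_le, fun x hx => by rw [(Submodule.mem_bot F).1 hx, map_zero]; exact Submodule.zero_mem _,
      fun u hu v _ => by rw [(Submodule.mem_bot F).1 hu]; simp, by rw [zero_mul, finrank_bot]⟩
  | succ j ih =>
    intro U hUR hU hTU hcond
    have hcond' : b + 2 * i * (j + 1) ≤ finrank F U + σ := hcond.resolve_left (Nat.succ_ne_zero j)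
    rw [mul_add, mul_one] at hcond'
    obtain ⟨X, hXU, hTX, hXti, hXd⟩ := hX U hUR hU hTU (by omega)
    obtain ⟨H, hHU, hXH, hH, hTH, hHd⟩ := exists_hyp hA hTB hT hq hi hi0 hr0' hU hTU (fun v hv => hfix v (hUR hv)) hXU hTX hXti hXd
    obtain ⟨hU', hU'd⟩ := CfsgLib.SympSemiR.nd_inf_orth hA hU hH hHU
    obtain ⟨W', hW'U, hTW', hW', hW'd⟩ := ih _ (inf_le_left.trans hUR) hU'
      (fun x hx => ⟨hTU x hx.1, CfsgLib.SympSemiR.orth_inv hA hTB hT hTH x hx.2⟩) (by
        rcases Nat.eq_zero_or_pos j with h0 | h0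
        · exact Or.inl h0
        · exact Or.inr (by omega))
    refine ⟨X ⊔ W', sup_le hXU (hW'U.trans inf_le_left), fun x hx => ?_,
      ti_sup hA hXti hW' fun u hu v hv => (hW'U hv).2 u (hXH hu), ?_⟩
    · obtain ⟨a, ha, c, hc, rfl⟩ := Submodule.mem_sup.1 hx
      rw [map_add]
      exact add_mem (Submodule.mem_sup_left (hTX a ha)) (Submodule.mem_sup_right (hTW' c hc))
    · have hd : X ⊓ W' = ⊥ := (Submodule.eq_bot_iff _).2 fun x hx => hH x (hXH hx.1) fun y hy =>
        (CfsgLib.SympSemiR.mem_orth hA).1 (hW'U hx.2).2 y hy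
      have := Submodule.finrank_sup_add_finrank_inf_eq X W'
      rw [hd, finrank_bot, add_zero, hXd, hW'd] at this
      rw [this, add_mul, one_mul, add_comm]

end CfsgLib.SympIsotropic
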