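import Cfsg.Agent.Lib.Maximal99.SympSemiR
import Cfsg.Agent.Lib.Maximal99.RankProfile

/-!
Isometries of order `p` in odd characteristic `p`: orthogonal splittings along the Jordan partition.
-/

set_option autoImplicit false

namespace CfsgLib.SympJordan

open Module CfsgLib.SympSemiR CfsgLib.RankProfile
open LinearMap (BilinForm)

variable {F : Type*} [Field F] {V : Type*} [AddCommGroup V] [Module F V] [FiniteDimensional F V]
  {B : BilinForm F V} (hA : B.IsAlt) {T : Module.End F V} (hTB : ∀ v w, B (T v) (T w) = B v w)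
  {r : ℕ} [Fact r.Prime] (hT : T ^ r = 1)

omit [FiniteDimensional F V] in
lemma pow_sub_one_eq_zero [CharP F r] {S : Module.End F V} (hS : S ^ r = 1) : (S - 1) ^ r = 0 := by
  haveI : ExpChar F r := ExpChar.prime Fact.out
  have h := congrArg (Polynomial.aeval (R := F) S)
    (sub_pow_char (p := r) (Polynomial.X : Polynomial F) 1)
  simpa [hS] using h

include hA hTB hT

omit [FiniteDimensional F V] in
lemma adjoint_pow : ∀ (k : ℕ) (x y : V),
    B (((T - 1) ^ k) x) y = (-1) ^ k * B x (((T ^ (r - 1)) ^ k) (((T - 1) ^ k) y)) := by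
  intro k
  induction k with
  | zero => intro x y; simp
  | succ k ih =>
    intro x y
    set S := T ^ (r - 1) with hS
    have hST : S * T = 1 := by rw [hS, ← pow_succ, Nat.sub_add_cancel (Fact.out : r.Prime).pos, hT]
    have h1 : ∀ w, B ((T - 1) x) w = -B x (S ((T - 1) w)) := by
      intro w
      have h2 : B (T x) w = B x (S w) := by simpa [hS] using adjoint hTB hT 1 x w
      have h3 : S (T w) = w := LinearMap.congr_fun hST w
      simp only [LinearMap.sub_apply, Module.End.one_apply, map_sub, h2, h3]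
      ring
    rw [pow_succ, Module.End.mul_apply, ih, h1, pow_succ]
    have hc : Commute (T - 1) (S ^ k) := (((Commute.refl T).pow_right (r - 1)).pow_right k).sub_left (Commute.one_left _)
    have h4 : S ((T - 1) ((S ^ k) (((T - 1) ^ k) y))) = (S ^ (k + 1)) (((T - 1) ^ (k + 1)) y) := by
      rw [← Module.End.mul_apply (T - 1) (S ^ k), hc.eq, Module.End.mul_apply, pow_succ' S, Module.End.mul_apply,
        pow_succ' (T - 1), Module.End.mul_apply]
    rw [h4, ← pow_succ (T - 1)]
    ring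

omit [FiniteDimensional F V] in
/-- The top form of a chain length is symmetric or alternating according to its parity. -/
lemma top_flip {a : ℕ} (ha : 0 < a) {x y : V} (hy : ((T - 1) ^ a) y = 0) :
    B (((T - 1) ^ (a - 1)) x) y = (-1) ^ a * B (((T - 1) ^ (a - 1)) y) x := by
  obtain ⟨b, rfl⟩ : ∃ b, a = b + 1 := ⟨a - 1, by omega⟩
  rw [Nat.add_sub_cancel, adjoint_pow hA hTB hT b x y]
  set z := ((T - 1) ^ b) y with hz
  have hfix : T z = z := by
    rw [pow_succ', Module.End.mul_apply, ← hz, LinearMap.sub_apply, Module.End.one_apply, sub_eq_zero] at hy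
    exact hy
  have hpow : ∀ n : ℕ, (T ^ n) z = z := by
    intro n
    induction n with
    | zero => simp
    | succ n ih => rw [pow_succ', Module.End.mul_apply, ih, hfix]
  rw [← pow_mul, hpow, CfsgLib.Sp.alt_flip hA z x, pow_succ]
  ring

set_option maxHeartbeats 1000000 in
/-- Chains with non-singular top form span a non-degenerate block. -/
lemma exists_block {g a : ℕ} (v : Fin g → V) (hv : ∀ s, ((T - 1) ^ a) (v s) = 0)
    (hG : ∀ co : Fin g → F, (∀ t, ∑ s, co s * B (((T - 1) ^ (a - 1)) (v s)) (v t) = 0) → co = 0) :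
    ∃ W : Submodule F V, (∀ U : Submodule F V, (∀ x ∈ U, T x ∈ U) → (∀ s, v s ∈ U) → W ≤ U) ∧ Nd B W ∧
      (∀ x ∈ W, T x ∈ W) ∧ ∀ k, imDim (T - 1) W k = g * (a - k) := by
  classical
  set N := T - 1 with hN
  let fam : Fin g × Fin a → V := fun p => (N ^ (p.2 : ℕ)) (v p.1)
  set W := Submodule.span F (Set.range fam) with hW
  have hzero : ∀ n, a ≤ n → ∀ s, (N ^ n) (v s) = 0 := fun n hn s => by
    rw [show n = n - a + a by omega, pow_add, Module.End.mul_apply, hv, map_zero]
  have hNW : ∀ x ∈ W, N x ∈ W := by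
    intro x hx
    refine (Submodule.span_le.2 ?_ : W ≤ W.comap N) hx
    rintro _ ⟨⟨s, j⟩, rfl⟩
    show N ((N ^ (j : ℕ)) (v s)) ∈ W
    rw [← Module.End.mul_apply, ← pow_succ']
    by_cases hj : (j : ℕ) + 1 < a
    · exact Submodule.subset_span ⟨(s, ⟨_, hj⟩), rfl⟩
    · rw [hzero _ (by omega)]; exact W.zero_mem
  have hTW : ∀ x ∈ W, T x ∈ W := fun x hx => by
    have h := W.add_mem (hNW x hx) hx
    rwa [hN, LinearMap.sub_apply, Module.End.one_apply, sub_add_cancel] at h
  have key : ∀ co : Fin g × Fin a → F, (∀ w ∈ W, B (∑ p, co p • fam p) w = 0) → co = 0 := by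
    intro co hco
    suffices H : ∀ j : ℕ, ∀ (hj : j < a) s, co (s, ⟨j, hj⟩) = 0 from funext fun ⟨s, j⟩ => H j j.2 s
    intro j
    induction j using Nat.strong_induction_on with
    | _ j ih =>
    intro hj s
    refine congrFun (hG (fun s => co (s, ⟨j, hj⟩)) fun t => ?_) s
    have hx : (N ^ (a - 1 - j)) (∑ p, co p • fam p) = ∑ s, co (s, ⟨j, hj⟩) • (N ^ (a - 1)) (v s) := by
      rw [map_sum, Fintype.sum_prod_type]
      refine Finset.sum_congr rfl fun s _ => ?_
      rw [Finset.sum_eq_single ⟨j, hj⟩ (fun l _ hl => ?_) (by simp)]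
      · rw [map_smul]
        congr 1
        show (N ^ (a - 1 - j)) ((N ^ j) (v s)) = _
        rw [← Module.End.mul_apply, ← pow_add, Nat.sub_add_cancel (by omega)]
      · rcases lt_trichotomy (l : ℕ) j with h | h | h
        · rw [show co (s, l) = 0 from ih l h l.2 s, zero_smul, map_zero]
        · exact absurd (Fin.ext h) hl
        · rw [map_smul]
          show co (s, l) • (N ^ (a - 1 - j)) ((N ^ (l : ℕ)) (v s)) = 0
          rw [← Module.End.mul_apply, ← pow_add, hzero _ (by omega), smul_zero]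
    have hvt : v t ∈ W := by
      have : 0 < a := by omega
      exact Submodule.subset_span ⟨(t, ⟨0, this⟩), by simp [fam]⟩
    have h0 : B ((N ^ (a - 1 - j)) (∑ p, co p • fam p)) (v t) = 0 := by
      rw [hN, adjoint_pow hA hTB hT]
      rw [hco _ (pow_mem (pow_mem hTW (r - 1)) _ _ (pow_mem hNW _ _ hvt)), mul_zero]
    rw [hx] at h0
    simpa using h0
  have hli : LinearIndependent F fam := Fintype.linearIndependent_iff.2 fun co hco p =>
    congrFun (key co fun w _ => by rw [hco, map_zero, LinearMap.zero_apply]) p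
  refine ⟨W, fun U hU hvU => Submodule.span_le.2 ?_, fun x hx hall => ?_, hTW, fun k => ?_⟩
  · rintro _ ⟨⟨s, j⟩, rfl⟩
    refine pow_mem (fun y hy => ?_) _ _ (hvU s)
    rw [hN, LinearMap.sub_apply, Module.End.one_apply]
    exact U.sub_mem (hU y hy) hy
  · rw [hW, Submodule.mem_span_range_iff_exists_fun] at hx
    obtain ⟨co, rfl⟩ := hx
    rw [key co hall]
    simp
  · let sh : Fin g × Fin (a - k) → Fin g × Fin a := fun p => (p.1, ⟨k + p.2, by omega⟩)
    have hsh : Function.Injective sh := fun p p' h => by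
      simp only [sh, Prod.mk.injEq, Fin.ext_iff] at h
      exact Prod.ext (Fin.ext h.1) (Fin.ext (by omega))
    have he : W.map (N ^ k) = Submodule.span F (Set.range (fam ∘ sh)) := by
      refine le_antisymm ?_ ?_
      · rw [Submodule.map_span_le]
        rintro _ ⟨⟨s, j⟩, rfl⟩
        show (N ^ k) ((N ^ (j : ℕ)) (v s)) ∈ _
        rw [← Module.End.mul_apply, ← pow_add]
        by_cases hj : k + j < a
        · exact Submodule.subset_span ⟨(s, ⟨j, by omega⟩), rfl⟩
        · rw [hzero _ (by omega)]; exact Submodule.zero_mem _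
      · rw [Submodule.span_le]
        rintro _ ⟨⟨s, j⟩, rfl⟩
        refine ⟨fam (s, ⟨j, by omega⟩), Submodule.subset_span ⟨_, rfl⟩, ?_⟩
        show (N ^ k) ((N ^ (j : ℕ)) (v s)) = (N ^ (k + (j : ℕ))) (v s)
        rw [pow_add, Module.End.mul_apply]
    rw [imDim, he, finrank_span_eq_card (hli.comp sh hsh), Fintype.card_prod, Fintype.card_fin, Fintype.card_fin]

set_option maxHeartbeats 1000000 in
/-- The Jordan partition of a non-degenerate invariant subspace, with all its admissible sub-partitions. -/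
theorem exists_parts [CharP F r] (h2 : (2 : F) ≠ 0) (U : Submodule F V) (hU : Nd B U) (hTU : ∀ x ∈ U, T x ∈ U) :
    ∃ μ : Multiset ℕ, (∀ a ∈ μ, 0 < a ∧ a ≤ r) ∧ (∀ a, Odd a → Even (μ.count a)) ∧
      (∀ k, imDim (T - 1) U k = partProfile μ k) ∧
      ∀ ν ≤ μ, (∀ a, Odd a → Even (ν.count a)) →
        ∃ W ≤ U, Nd B W ∧ (∀ x ∈ W, T x ∈ W) ∧ finrank F W = ν.sum := by
  classical
  induction hm : finrank F U using Nat.strong_induction_on generalizing U with
  | _ m ih =>
  subst hm
  set N := T - 1 with hN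
  by_cases hne : U = ⊥
  · refine ⟨0, by simp, by simp, fun k => by rw [imDim, hne, Submodule.map_bot, finrank_bot]; simp [partProfile],
      fun ν hν _ => ?_⟩
    rw [Multiset.le_zero.1 hν]
    exact ⟨U, le_rfl, hU, hTU, by rw [hne]; simp⟩
  have hex : ∃ a, ∀ x ∈ U, (N ^ a) x = 0 := ⟨r, fun x _ => by rw [hN, pow_sub_one_eq_zero hT]; rfl⟩
  obtain ⟨a, ha, hmin, har⟩ : ∃ a, (∀ x ∈ U, (N ^ a) x = 0) ∧ (∀ b < a, ∃ x ∈ U, (N ^ b) x ≠ 0) ∧ a ≤ r := by
    refine ⟨Nat.find hex, Nat.find_spec hex, fun b hb => ?_, Nat.find_min' hex fun x _ => by rw [hN, pow_sub_one_eq_zero hT]; rfl⟩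
    have := Nat.find_min hex hb
    push Not at this
    exact this
  obtain ⟨x₀, hx₀, hx₀0⟩ := U.exists_mem_ne_zero_of_ne_bot hne
  have ha0 : 0 < a := Nat.pos_of_ne_zero fun e => hx₀0 (by simpa [e] using ha x₀ hx₀)
  have hTN : ∀ x ∈ U, N x ∈ U := fun x hx => U.sub_mem (hTU x hx) hx
  obtain ⟨u, hu, hu0⟩ := hmin (a - 1) (by omega)
  obtain ⟨w, hw, huw⟩ : ∃ w ∈ U, B ((N ^ (a - 1)) u) w ≠ 0 := by
    by_contra h
    push Not at h
    exact hu0 (hU _ (pow_mem hTN _ u hu) h)
  have hflip : ∀ x ∈ U, ∀ y ∈ U, B ((N ^ (a - 1)) x) y = (-1) ^ a * B ((N ^ (a - 1)) y) x :=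
    fun x _ y hy => top_flip hA hTB hT ha0 (ha y hy)
  obtain ⟨g, v, hvU, hG, hg0, hgpar⟩ : ∃ (g : ℕ) (v : Fin g → V), (∀ s, v s ∈ U) ∧
      (∀ co : Fin g → F, (∀ t, ∑ s, co s * B ((N ^ (a - 1)) (v s)) (v t) = 0) → co = 0) ∧
      0 < g ∧ (Even a ∧ g = 1 ∨ Odd a ∧ g = 2) := by
    rcases Nat.even_or_odd a with he | ho
    · obtain ⟨z, hz, hzz⟩ : ∃ z ∈ U, B ((N ^ (a - 1)) z) z ≠ 0 := by
        by_contra h
        push Not at h
        have hs := h (u + w) (U.add_mem hu hw)
        have hs' := hflip w hw u hu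
        rw [he.neg_one_pow, one_mul] at hs'
        simp only [map_add, LinearMap.add_apply, h u hu, h w hw, hs', zero_add, add_zero, ← two_mul, mul_eq_zero, h2,
          false_or] at hs
        exact huw hs
      refine ⟨1, fun _ => z, fun _ => hz, fun co hco => funext fun s => ?_, one_pos, Or.inl ⟨he, rfl⟩⟩
      have := hco 0
      simp only [Fin.sum_univ_one, mul_eq_zero, hzz, or_false] at this
      rw [Subsingleton.elim s 0, this]
      rfl
    · have hd : ∀ x ∈ U, B ((N ^ (a - 1)) x) x = 0 := fun x hx => by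
        have := hflip x hx x hx
        rw [ho.neg_one_pow, neg_one_mul, eq_neg_iff_add_eq_zero, ← two_mul, mul_eq_zero] at this
        exact this.resolve_left h2
      refine ⟨2, ![u, w], Fin.forall_fin_two.2 ⟨hu, hw⟩, fun co hco => ?_, two_pos, Or.inr ⟨ho, rfl⟩⟩
      have h0 := hco 0
      have h1 := hco 1
      have hwu : B ((N ^ (a - 1)) w) u ≠ 0 := by
        rw [hflip w hw u hu, ho.neg_one_pow]
        simpa using huw
      simp only [Fin.sum_univ_two, Matrix.cons_val_zero, Matrix.cons_val_one, hd u hu, hd w hw, mul_zero, zero_add,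
        add_zero, mul_eq_zero, hwu, huw, or_false] at h0 h1
      exact funext (Fin.forall_fin_two.2 ⟨h1, h0⟩)
  obtain ⟨W₀, hle₀, hW₀, hTW₀, hW₀k⟩ := exists_block hA hTB hT v (fun s => ha _ (hvU s)) hG
  have hW₀U : W₀ ≤ U := hle₀ U hTU hvU
  have hW₀d : finrank F W₀ = g * a := by
    have := hW₀k 0
    rwa [imDim_zero, Nat.sub_zero] at this
  obtain ⟨hU', hU'd⟩ := nd_inf_orth hA hU hW₀ hW₀U
  have hTU' : ∀ x ∈ U ⊓ B.orthogonal W₀, T x ∈ U ⊓ B.orthogonal W₀ := fun x hx =>
    ⟨hTU x hx.1, orth_inv hA hTB hT hTW₀ x hx.2⟩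
  obtain ⟨μ', hμ', hodd', hprof', hsub'⟩ :=
    ih (finrank F ↥(U ⊓ B.orthogonal W₀)) (by have := Nat.mul_pos hg0 ha0; omega) _ hU' hTU' rfl
  have horth : ∀ x ∈ W₀, ∀ y ∈ U ⊓ B.orthogonal W₀, B x y = 0 := fun x hx y hy => hy.2 x hx
  obtain ⟨-, hsd⟩ := nd_sup hA hW₀ hU' horth
  have hsum : W₀ ⊔ (U ⊓ B.orthogonal W₀) = U :=
    Submodule.eq_of_le_of_finrank_le (sup_le hW₀U inf_le_left) (by omega)
  have hmapN : ∀ W : Submodule F V, (∀ x ∈ W, T x ∈ W) → W.map N ≤ W := by
    rintro W hW _ ⟨x, hx, rfl⟩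
    exact W.sub_mem (hW x hx) hx
  have hdisj : Disjoint W₀ (U ⊓ B.orthogonal W₀) := Submodule.disjoint_def.2 fun x hx hx' =>
    hW₀ x hx fun y hy => (mem_orth hA).1 hx'.2 y hy
  refine ⟨μ' + Multiset.replicate g a, fun b hb => ?_, fun b hb => ?_, fun k => ?_, fun ν hν hνo => ?_⟩
  · rcases Multiset.mem_add.1 hb with h | h
    · exact hμ' b h
    · rw [Multiset.eq_of_mem_replicate h]; exact ⟨ha0, har⟩
  · rw [Multiset.count_add, Multiset.count_replicate]
    refine (hodd' b hb).add ?_
    split_ifs with h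
    · subst h
      rcases hgpar with ⟨he, -⟩ | ⟨-, rfl⟩
      · exact absurd he (Nat.not_even_iff_odd.2 hb)
      · exact even_two
    · exact Even.zero
  · rw [partProfile_add, ← hprof', ← hsum, imDim_add N (hmapN _ hTW₀) (hmapN _ hTU') hdisj, hsum, hW₀k, add_comm]
    simp [partProfile, Multiset.map_replicate, Multiset.sum_replicate]
  · by_cases hcnt : ν.count a ≤ μ'.count a
    · obtain ⟨W, hWU, hW, hTW, hWd⟩ := hsub' ν (Multiset.le_iff_count.2 fun b => by
        rcases eq_or_ne b a with rfl | hb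
        · exact hcnt
        · have := Multiset.count_le_of_le b hν
          rwa [Multiset.count_add, Multiset.count_replicate, if_neg (Ne.symm hb), add_zero] at this) hνo
      exact ⟨W, hWU.trans inf_le_left, hW, hTW, hWd⟩
    · have hν' := Multiset.count_le_of_le a hν
      rw [Multiset.count_add, Multiset.count_replicate, if_pos rfl] at hν'
      have hge : g ≤ ν.count a := by
        rcases hgpar with ⟨-, rfl⟩ | ⟨ho, rfl⟩
        · omega
        · have := hodd' a ho
          have := hνo a ho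
          rw [Nat.even_iff] at *
          omega
      have hrep : Multiset.replicate g a ≤ ν := Multiset.le_count_iff_replicate_le.1 hge
      obtain ⟨W, hWU, hW, hTW, hWd⟩ := hsub' (ν - Multiset.replicate g a) (tsub_le_iff_right.2 hν) fun b hb => by
        rw [Multiset.count_sub, Multiset.count_replicate]
        split_ifs with h
        · subst h
          rcases hgpar with ⟨he, -⟩ | ⟨-, rfl⟩
          · exact absurd he (Nat.not_even_iff_odd.2 hb)
          · exact (Nat.even_sub hge).2 (iff_of_true (hνo _ hb) even_two)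
        · simpa using hνo b hb
      obtain ⟨hN', hd'⟩ := nd_sup hA hW₀ hW fun x hx y hy => horth x hx y (hWU hy)
      refine ⟨W₀ ⊔ W, sup_le hW₀U (hWU.trans inf_le_left), hN', fun x hx => ?_, ?_⟩
      · obtain ⟨x₁, h₁, x₂, h₂, rfl⟩ := Submodule.mem_sup.1 hx
        rw [map_add]
        exact add_mem (Submodule.mem_sup_left (hTW₀ x₁ h₁)) (Submodule.mem_sup_right (hTW x₂ h₂))
      · conv_rhs => rw [← tsub_add_cancel_of_le hrep]
        rw [hd', hW₀d, hWd, Multiset.sum_add, Multiset.sum_replicate, smul_eq_mul, add_comm]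

end CfsgLib.SympJordan
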