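import Cfsg.Agent.Lib.Maximal99.OrthUnipotent

/-!
From "every element of order `p` of `Ω(Q)` fixes a non-degenerate `m`-space" to partitions.
-/

set_option autoImplicit false

namespace CfsgLib.UnipFix

open Matrix Module CfsgLib.RankProfile

/-- It is enough to treat partitions with an odd part. -/
lemma of_odd_part {p n m : ℕ} (hp : Odd p) (hn : 0 < n) (hm : Even m)
    (h : ∀ μ : Multiset ℕ, (∀ e ∈ μ, 0 < e ∧ e ≤ p) → (∀ e : ℕ, Even e → Even (μ.count e)) → (∃ e ∈ μ, Odd e) →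
      μ.sum = n → ∃ ν : Multiset ℕ, ν ≤ μ ∧ ν.sum = m ∧ ∀ e : ℕ, Even e → Even (ν.count e))
    (μ : Multiset ℕ) (hμ : ∀ e ∈ μ, 0 < e ∧ e ≤ p) (hev : ∀ e : ℕ, Even e → Even (μ.count e))
    (hsum : μ.sum = n) :
    ∃ ν : Multiset ℕ, ν ≤ μ ∧ ν.sum = m ∧ ∀ e : ℕ, Even e → Even (ν.count e) := by
  classical
  by_cases hodd : ∃ e ∈ μ, Odd e
  · exact h μ hμ hev hodd hsum
  simp only [not_exists, not_and, Nat.not_odd_iff_even] at hodd
  obtain ⟨e, he⟩ : ∃ e, e ∈ μ := Multiset.exists_mem_of_ne_zero (by rintro rfl; simp at hsum; omega)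
  obtain ⟨ρ₁, rfl⟩ := Multiset.exists_cons_of_mem he
  have hee : Even e := hodd e he
  have hc := hev e hee
  rw [Multiset.count_cons_self] at hc
  have he' : e ∈ ρ₁ := by
    rw [← Multiset.count_pos]
    rcases Nat.eq_zero_or_pos (ρ₁.count e) with h0 | h0
    · rw [h0] at hc; simp at hc
    · exact h0
  obtain ⟨ρ, rfl⟩ := Multiset.exists_cons_of_mem he'
  have hρ : ∀ f ∈ ρ, Even f := fun f hf => hodd f (by simp [hf])
  have hρc : ∀ f : ℕ, Even f → Even (ρ.count f) := fun f hf => by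
    have := hev f hf
    rw [Multiset.count_cons, Multiset.count_cons] at this
    split_ifs at this <;> first | exact this | (simpa [Nat.even_add_one] using this)
  obtain ⟨he0, hep⟩ := hμ e he
  have hep' : e + 1 ≤ p := by
    obtain ⟨s, rfl⟩ := hp; obtain ⟨u, rfl⟩ := hee; omega
  have he2 : 2 ≤ e := by obtain ⟨u, rfl⟩ := hee; omega
  have ho1 : ¬ Even (e + 1) := by simp [Nat.even_add_one, hee]
  have ho2 : ¬ Even (e - 1) := by
    obtain ⟨u, rfl⟩ := hee; rintro ⟨w, hw⟩; omega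
  obtain ⟨ν', hν', hν's, hν'e⟩ := h ((e + 1) ::ₘ (e - 1) ::ₘ ρ) (by
      intro f hf
      simp only [Multiset.mem_cons] at hf
      rcases hf with rfl | rfl | hf
      · omega
      · omega
      · exact hμ f (by simp [hf]))
    (fun f hf => by
      rw [Multiset.count_cons_of_ne (by rintro rfl; exact ho1 hf),
        Multiset.count_cons_of_ne (by rintro rfl; exact ho2 hf)]
      exact hρc f hf)
    ⟨e + 1, by simp, Nat.not_even_iff_odd.1 ho1⟩
    (by simp only [Multiset.sum_cons] at hsum ⊢; omega)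
  have hσ : ν'.filter (fun f => Even f) ≤ ρ := by
    refine (Multiset.filter_le_filter _ hν').trans ?_
    rw [Multiset.filter_cons_of_neg _ ho1, Multiset.filter_cons_of_neg _ ho2]
    exact Multiset.filter_le _ _
  have hτ : ν'.filter (fun f => ¬ Even f) ≤ (e + 1) ::ₘ (e - 1) ::ₘ 0 := by
    refine (Multiset.filter_le_filter _ hν').trans (le_of_eq ?_)
    rw [Multiset.filter_cons_of_pos (p := fun f => ¬ Even f) _ ho1, Multiset.filter_cons_of_pos (p := fun f => ¬ Even f) _ ho2,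
      Multiset.filter_eq_nil.2 (fun f hf => not_not.2 (hρ f hf))]
  have hsplit : (ν'.filter (fun f => Even f)).sum + (ν'.filter (fun f => ¬ Even f)).sum = m := by
    rw [← Multiset.sum_add, Multiset.filter_add_not, hν's]
  have hσe : Even (ν'.filter (fun f => Even f)).sum :=
    even_iff_two_dvd.2 (Multiset.dvd_sum fun f hf => even_iff_two_dvd.1 (Multiset.mem_filter.1 hf).2)
  have hσc : ∀ f : ℕ, Even f → Even ((ν'.filter (fun f => Even f)).count f) := fun f hf => by
    rw [Multiset.count_filter_of_pos hf]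
    exact hν'e f hf
  rw [← Multiset.mem_powerset] at hτ
  simp only [Multiset.powerset_cons, Multiset.powerset_zero, Multiset.map_singleton, Multiset.mem_add,
    Multiset.mem_map, Multiset.mem_singleton] at hτ
  generalize hS : ν'.filter (fun f => Even f) = σ at *
  generalize ν'.filter (fun f => ¬ Even f) = τ at *
  have cases : τ.sum = 0 ∨ τ.sum = e + 1 ∨ τ.sum = e - 1 ∨ τ.sum = 2 * e := by
    rcases hτ with (rfl | rfl) | ⟨a, (rfl | rfl), rfl⟩ <;>
      simp <;> omega
  rw [Nat.even_iff] at hσe hm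
  rw [Nat.even_iff] at hee
  rcases cases with hc0 | hc0 | hc0 | hc0
  · exact ⟨σ, hσ.trans ((Multiset.le_cons_self _ _).trans (Multiset.le_cons_self _ _)), by omega, hσc⟩
  · omega
  · omega
  · refine ⟨e ::ₘ e ::ₘ σ, Multiset.cons_le_cons _ (Multiset.cons_le_cons _ hσ),
      by simp only [Multiset.sum_cons]; omega, fun f hf => ?_⟩
    have := hσc f hf
    rw [Multiset.count_cons, Multiset.count_cons]
    split_ifs <;> first | exact this | (simpa [Nat.even_add_one] using this)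

section

variable {F : Type*} [Field F] [Fintype F] {ι : Type} [Fintype ι] [DecidableEq ι] {p : ℕ} [Fact p.Prime] [CharP F p]

/-- An element with partition `μ` and the sub-partitions cut out by its invariant non-degenerate subspaces. -/
theorem exists_element (hp : p ≠ 2) {Q : (ι → F) → F} (hQ : Cfsg.Geo.IsNondegenerateQuadraticForm Q)
    {μ : Multiset ℕ} (hμ : ∀ a ∈ μ, 0 < a ∧ a ≤ p) (hμe : ∀ e, Even e → Even (μ.count e))
    (hμo : ∃ a ∈ μ, Odd a) (hsum : μ.sum = Fintype.card ι) (hne : ∃ a ∈ μ, a ≠ 1) :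
    ∃ x : GL ι F, x ∈ Cfsg.Geo.omegaGL Q ∧ orderOf x = p ∧
      (∃ z : F, ((x ^ p : GL ι F) : Matrix ι ι F) = z • (1 : Matrix ι ι F)) ∧
      (∀ z : F, (x : Matrix ι ι F) ≠ z • (1 : Matrix ι ι F)) ∧
      ∀ W : Submodule F (ι → F), Cfsg.Geo.IsNondegenerateOn (QuadraticMap.polar Q) W →
        W.map (Matrix.toLin' (x : Matrix ι ι F)) ≤ W →
        ∃ ν : Multiset ℕ, ν ≤ μ ∧ ν.sum = finrank F ↥W ∧ (∀ e : ℕ, Even e → Even (ν.count e)) ∧
          ((∀ a ∈ ν, a = 2) → Cfsg.Geo.IsPlusTypeOn Q W) := by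
  obtain ⟨x, hx, hxp, hprof⟩ := CfsgLib.OrthUnipotent.exists_omega_unipotent hp hQ
    (fun a ha => (hμ a ha).2) hμe hμo hsum
  have hxi : x ∈ Cfsg.isometryGroup F Q := by obtain ⟨y, -, rfl⟩ := hx; exact y.2
  have hns : ∀ z : F, (x : Matrix ι ι F) ≠ z • (1 : Matrix ι ι F) := by
    intro z hz
    obtain ⟨a, ha, ha1⟩ := hne
    have hz1 : z = 1 := by
      have : Nonempty ι := Fintype.card_pos_iff.1 (by
        have := Multiset.le_sum_of_mem ha
        have := (hμ a ha).1
        omega)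
      have h1 := congrArg (fun M : Matrix ι ι F => M ^ p) hz
      simp only [← Units.val_pow_eq_pow_val, hxp, Units.val_one, smul_pow, one_pow] at h1
      obtain ⟨i⟩ := this
      have h2 := congrFun (congrFun h1 i) i
      simp only [Matrix.one_apply_eq, Matrix.smul_apply, smul_eq_mul, mul_one] at h2
      exact frobenius_inj F p (by rw [frobenius_def, frobenius_def, ← h2, one_pow])
    have h1 := hprof 1
    rw [hz, hz1, one_smul, sub_self, map_zero, imDim_top, pow_one, LinearMap.range_zero, finrank_bot] at h1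
    have := Multiset.le_sum_of_mem (Multiset.mem_map_of_mem (fun c : ℕ => c - 1) ha)
    have := (hμ a ha).1
    simp only [partProfile] at h1
    omega
  refine ⟨x, hx, ?_, ⟨1, by rw [hxp, one_smul]; rfl⟩, hns, fun W hW hWx => ?_⟩
  · exact orderOf_eq_prime hxp fun h => hns 1 (by rw [h, one_smul]; rfl)
  · obtain ⟨ν, hν, hνs, hνe, hνp⟩ := CfsgLib.OrthUnipotent.exists_even_sub_partition hp hQ hxi hxp
      (fun a ha => (hμ a ha).1) hprof hW hWx
    refine ⟨ν, hν, hνs, hνe, fun h2 => ?_⟩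
    refine CfsgLib.OrthUnipotent.isPlusTypeOn_of_square_zero hp hQ hxi hWx ?_ ?_
    · rw [← hνp, partProfile_eq_zero (fun a ha => (h2 a ha).le)]
    · rw [← hνp, ← hνs, Multiset.eq_replicate_card.2 h2]
      simp [partProfile, Nat.mul_comm]

/-- If every element of order `p` fixes a suitable non-degenerate `m`-space then the partitions split. -/
theorem partition_splits (hp : p ≠ 2) {Q : (ι → F) → F} (hQ : Cfsg.Geo.IsNondegenerateQuadraticForm Q)
    {m : ℕ} (hm : Even m) (hmι : m ≤ Fintype.card ι) (hι : 0 < Fintype.card ι)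
    (h : ∀ x : GL ι F, x ∈ Cfsg.Geo.omegaGL Q → orderOf x = p →
      (∃ z : F, ((x ^ p : GL ι F) : Matrix ι ι F) = z • (1 : Matrix ι ι F)) →
      (∀ z : F, (x : Matrix ι ι F) ≠ z • (1 : Matrix ι ι F)) →
      ∃ W : Submodule F (ι → F), finrank F ↥W = m ∧ Cfsg.Geo.IsNondegenerateOn (QuadraticMap.polar Q) W ∧
        W.map (Matrix.toLin' (x : Matrix ι ι F)) ≤ W)
    (μ : Multiset ℕ) (hμ : ∀ e ∈ μ, 0 < e ∧ e ≤ p) (hev : ∀ e : ℕ, Even e → Even (μ.count e))
    (hsum : μ.sum = Fintype.card ι) :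
    ∃ ν : Multiset ℕ, ν ≤ μ ∧ ν.sum = m ∧ ∀ e : ℕ, Even e → Even (ν.count e) := by
  refine of_odd_part ((Fact.out : p.Prime).odd_of_ne_two hp) hι hm ?_ μ hμ hev hsum
  intro μ hμ hev hodd hsum
  by_cases hne : ∃ a ∈ μ, a ≠ 1
  · obtain ⟨x, hx, hxo, hxs, hxn, hW⟩ := exists_element hp hQ hμ hev hodd hsum hne
    obtain ⟨W, hWd, hWn, hWx⟩ := h x hx hxo hxs hxn
    obtain ⟨ν, hν, hνs, hνe, -⟩ := hW W hWn hWx
    exact ⟨ν, hν, hνs.trans hWd, hνe⟩
  · simp only [not_exists, not_and, not_not] at hne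
    rw [Multiset.eq_replicate_card.2 hne] at hsum ⊢
    rw [Multiset.sum_replicate, smul_eq_mul, Nat.mul_one] at hsum
    refine ⟨Multiset.replicate m 1, ?_, by simp, fun e he => ?_⟩
    · rw [Multiset.le_iff_count]
      intro c
      simp only [Multiset.count_replicate]
      split <;> omega
    · rw [Multiset.count_replicate, if_neg (by rintro rfl; simp at he)]
      exact Even.zero

end

end CfsgLib.UnipFix
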